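import Mathlib
import Cfsg.Agent.LieExceptional.BNPairCore

/-!
# Fixed vertices in (B, N)-pairs of rank two (helper823, task 967)

`P` a (B,N)-pair with `P.S = {s, t}`; `alt a b j = a b a …` (`j` letters).

* `gate` : `B ∩ n B n⁻¹ ≤ a B a⁻¹`, `n = alt a b (k + 1)` reduced;
* `main` : let `R` be a subgroup of a conjugate of `B`, `x` an automorphism with `x R = R` which fixes the class of `B`
  and the two classes of minimal parabolic subgroups. Then `x` fixes a conjugate of `B`, `P_s` or `P_t`, or a conjugate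
  of `R` lies in `n B n⁻¹` for all alternating words `n` of length `≤ M` beginning with `s` (or: with `t`), as soon as
  all of them are reduced.
-/

set_option autoImplicit false
set_option linter.unusedSectionVars false

namespace Cfsg.Agent.H823.GateTwo

open Cfsg Subgroup Cfsg.Agent.LieExceptional.BNPairCore

variable {K : Type*} [Group K]

/-- the alternating words -/
def alt (a b : K) : ℕ → K
  | 0 => 1
  | k + 1 => a * alt b a k

theorem alt_zero (a b : K) : alt a b 0 = 1 := rfl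

theorem alt_succ (a b : K) (k : ℕ) : alt a b (k + 1) = a * alt b a k := rfl

theorem alt_even (a b : K) (i : ℕ) : alt a b (2 * i + 1) = alt a b (2 * i) * a ∧
    alt a b (2 * i + 2) = alt a b (2 * i + 1) * b := by
  induction i generalizing a b with
  | zero =>
    constructor
    · show a * 1 = 1 * a
      rw [mul_one, one_mul]
    · show a * (b * 1) = a * 1 * b
      rw [mul_one, mul_one]
  | succ i ih =>
    have h1 : alt a b (2 * (i + 1) + 1) = alt a b (2 * (i + 1)) * a := by
      show a * alt b a (2 * i + 2) = (a * alt b a (2 * i + 1)) * a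
      rw [(ih b a).2, mul_assoc]
    refine ⟨h1, ?_⟩
    show a * (b * alt a b (2 * i + 2)) = (a * (b * alt a b (2 * i + 1))) * b
    rw [(ih a b).2]
    group

variable {P : BNPair K}

theorem alt_mem_N {a b : K} (ha : a ∈ P.S) (hb : b ∈ P.S) (k : ℕ) : alt a b k ∈ P.N := by
  induction k generalizing a b with
  | zero => exact P.N.one_mem
  | succ k ih => exact P.N.mul_mem (P.subset ha) (ih hb ha)

theorem len_alt_le {a b : K} (ha : a ∈ P.S) (hb : b ∈ P.S) (k : ℕ) : len P (alt a b k) ≤ k := by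
  induction k generalizing a b with
  | zero => rw [alt_zero, len_one]
  | succ k ih =>
    have h1 := len_mul_left_le (P := P) ha (alt_mem_N hb ha k)
    have h2 := ih hb ha
    rw [alt_succ]
    omega

/-- tails of reduced words are reduced -/
theorem len_tail {a b : K} (ha : a ∈ P.S) (hb : b ∈ P.S) {k : ℕ} (h : len P (alt a b (k + 1)) = k + 1) :
    len P (alt b a k) = k := by
  have h1 := len_mul_left_le (P := P) ha (alt_mem_N hb ha k)
  have h2 := len_alt_le (P := P) hb ha k
  rw [alt_succ] at h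
  omega

/-- **The gate property.** -/
theorem gate {a b : K} (ha : a ∈ P.S) (hb : b ∈ P.S) {k : ℕ} (hlen : len P (alt a b (k + 1)) = k + 1) {r : K}
    (hr : r ∈ P.B) (h : (alt a b (k + 1))⁻¹ * r * alt a b (k + 1) ∈ P.B) : a⁻¹ * r * a ∈ P.B := by
  set n' := alt b a k with hn'
  have hn'N : n' ∈ P.N := alt_mem_N hb ha k
  have hlen' : len P n' ≤ len P (a * n') := by
    have h1 : len P n' ≤ k := len_alt_le hb ha k
    have h2 : len P (a * n') = k + 1 := hlen
    rw [h2]
    omega
  set q := a⁻¹ * r * a with hq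
  have hq1 : q = (a * a)⁻¹ * (a * r * a) := by rw [hq]; group
  have hqB : q ∈ P.B ∨ q ∈ C P a := by
    rcases axiom_left (P := P) ha (mem_N ha) hr with h1 | h1
    · left
      rw [hq1]
      exact P.B.mul_mem (inv_sq_mem ha) (mem_B_of_mem_C (P.sq_mem a ha) h1)
    · right
      rw [hq1]
      exact mul_mem_C_left (inv_sq_mem ha) h1
  rcases hqB with h1 | h1
  · exact h1
  exfalso
  obtain ⟨x, hx, y, hy, hxy⟩ := mem_C.1 h1
  have h2 : q * n' ∈ C P (a * n') := by
    have h3 : q * n' = x * (a * y * n') := by rw [hxy]; group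
    rw [h3]
    exact mul_mem_C_left hx (mul_mem_C_of_le ha hn'N hy hlen')
  have h3 : q * n' ∈ C P n' := by
    have h4 : q * n' = n' * ((alt a b (k + 1))⁻¹ * r * alt a b (k + 1)) := by
      rw [alt_succ, ← hn', hq]
      group
    rw [h4]
    exact mul_mem_C_right h (self_mem_C n')
  exact not_C_mul_left_eq ha hn'N (C_eq_of_mem_mem h2 h3)

/-- the gate property for all prefixes -/
theorem gate_all {M : ℕ} : ∀ {a b : K} (_ : a ∈ P.S) (_ : b ∈ P.S) (_ : len P (alt a b M) = M) {r : K}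
    (_ : r ∈ P.B) (_ : (alt a b M)⁻¹ * r * alt a b M ∈ P.B) (j : ℕ) (_ : j ≤ M),
    (alt a b j)⁻¹ * r * alt a b j ∈ P.B := by
  induction M with
  | zero =>
    intro a b _ _ _ r hr _ j hj
    obtain rfl : j = 0 := by omega
    rw [alt_zero]
    simpa using hr
  | succ M ih =>
    intro a b ha hb hlen r hr h j hj
    rcases Nat.eq_zero_or_pos j with rfl | hj0
    · rw [alt_zero]
      simpa using hr
    obtain ⟨i, rfl⟩ : ∃ i, j = i + 1 := ⟨j - 1, by omega⟩
    have h1 := gate ha hb hlen hr h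
    have h2 : (alt b a M)⁻¹ * (a⁻¹ * r * a) * alt b a M ∈ P.B := by
      have e : (alt b a M)⁻¹ * (a⁻¹ * r * a) * alt b a M = (alt a b (M + 1))⁻¹ * r * alt a b (M + 1) := by
        rw [alt_succ]; group
      rw [e]; exact h
    have h3 := ih hb ha (len_tail ha hb hlen) h1 h2 i (by omega)
    have e : (alt a b (i + 1))⁻¹ * r * alt a b (i + 1) = (alt b a i)⁻¹ * (a⁻¹ * r * a) * alt b a i := by
      rw [alt_succ]; group
    rw [e]
    exact h3

/-- every element of `N` is an alternating word of the right length -/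
theorem exists_alt {s t : K} (hS : P.S = {s, t}) (k : ℕ) : ∀ n ∈ P.N, len P n = k →
    (alt s t k)⁻¹ * n ∈ P.B ∨ (alt t s k)⁻¹ * n ∈ P.B := by
  have hs : s ∈ P.S := by rw [hS]; exact Set.mem_insert _ _
  have ht : t ∈ P.S := by rw [hS]; exact Set.mem_insert_of_mem _ rfl
  induction k with
  | zero =>
    intro n hn hk
    left
    rw [alt_zero, inv_one, one_mul]
    exact (len_eq_zero_iff hn).1 hk
  | succ k ih =>
    intro n hn hk
    obtain ⟨l, hl, hlS, hrel⟩ := exists_reduced (P := P) hn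
    rw [hk] at hl
    obtain ⟨a, l', rfl⟩ := List.exists_cons_of_length_eq_add_one hl
    have haS : a ∈ P.S := hlS a List.mem_cons_self
    have hl'S : ∀ s ∈ l', s ∈ P.S := fun s hs => hlS s (List.mem_cons_of_mem _ hs)
    set n' := l'.prod with hn'
    have hn'N : n' ∈ P.N := prod_mem_N hl'S
    rw [List.prod_cons, ← hn'] at hrel
    have hlen' : len P n' = k := by
      have h1 : len P n' ≤ l'.length := len_prod_le hl'S
      have h2 := len_mul_left_le (P := P) haS hn'N
      rw [len_congr hrel, hk] at h2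
      rw [List.length_cons] at hl
      omega
    have han' : a * n' ∈ P.N := P.N.mul_mem (mem_N haS) hn'N
    -- replacing `n'` by a word
    have key : ∀ c d : K, c ∈ P.S → d ∈ P.S → (alt c d k)⁻¹ * n' ∈ P.B → (a * alt c d k)⁻¹ * n ∈ P.B := by
      intro c d hc hd h
      refine rel_trans (b := a * n') ?_ hrel
      exact rel_mul_left a h
    -- a repeated letter shortens the word
    have key2 : ∀ d : K, d ∈ P.S → k ≠ 0 → (alt a d k)⁻¹ * n' ∈ P.B → False := by
      intro d hd hk0 h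
      obtain ⟨i, rfl⟩ : ∃ i, k = i + 1 := ⟨k - 1, by omega⟩
      have h1 := key a d haS hd h
      rw [alt_succ] at h1
      have h2 : (alt d a i)⁻¹ * (a * (a * alt d a i)) ∈ P.B :=
        rel_symm (rel_sq_mul haS (alt_mem_N hd haS i))
      have h3 := len_congr (rel_trans h2 h1)
      have h4 := len_alt_le (P := P) hd haS i
      omega
    have haT : a = s ∨ a = t := by
      have : a ∈ ({s, t} : Set K) := hS ▸ haS
      exact this
    rcases haT with rfl | rfl
    · rcases ih n' hn'N hlen' with h1 | h1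
      · rcases Nat.eq_zero_or_pos k with rfl | hk0
        · left
          exact key a t haS ht h1
        · exact absurd h1 fun h => key2 t ht hk0.ne' h
      · left
        exact key t a ht haS h1
    · rcases ih n' hn'N hlen' with h1 | h1
      · right
        exact key s a hs haS h1
      · rcases Nat.eq_zero_or_pos k with rfl | hk0
        · right
          exact key a s haS hs h1
        · exact absurd h1 fun h => key2 s hs hk0.ne' h

/-! ### Displacements -/

section Displacement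

variable {x : MulAut K} {m : K} {R : Subgroup K}

/-- the relative position of the chamber `h B` and its image -/
def del (x : MulAut K) (m h : K) : K := h⁻¹ * x h * m⁻¹

theorem del_mul (h p : K) : del x m (h * p) = p⁻¹ * del x m h * (m * x p * m⁻¹) := by
  unfold del
  rw [map_mul]
  group

/-- the chamber `h B` is fixed by `R` -/
def Good (P : BNPair K) (R : Subgroup K) (h : K) : Prop := ∀ r ∈ R, h⁻¹ * r * h ∈ P.B

theorem Good.conj (hB : ∀ b ∈ P.B, m * x b * m⁻¹ ∈ P.B) (hR : ∀ r ∈ R, ∃ r' ∈ R, x r' = r) {h : K}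
    (hg : Good P R h) : ∀ r ∈ R, (del x m h)⁻¹ * (h⁻¹ * r * h) * del x m h ∈ P.B := by
  intro r hr
  obtain ⟨r', hr', rfl⟩ := hR r hr
  have h1 := hB _ (hg r' hr')
  rw [map_mul, map_mul, map_inv] at h1
  have e : (del x m h)⁻¹ * (h⁻¹ * x r' * h) * del x m h = m * ((x h)⁻¹ * x r' * x h) * m⁻¹ := by
    unfold del
    group
  rw [e]
  exact h1

variable (hB : ∀ b ∈ P.B, m * x b * m⁻¹ ∈ P.B) (hR : ∀ r ∈ R, ∃ r' ∈ R, x r' = r)
include hB hR

/-- one step along the gallery from `h B` to its image -/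
theorem step {a b : K} (ha : a ∈ P.S) (hb : b ∈ P.S) (hxa : m * x a * m⁻¹ ∈ C P a) {h : K} (hg : Good P R h) {k : ℕ}
    (hlen : len P (alt a b (k + 1)) = k + 1) (hd : del x m h ∈ C P (alt a b (k + 1))) :
    ∃ u ∈ P.B, Good P R (h * (u * a)) ∧
      (del x m (h * (u * a)) ∈ C P (alt b a k * a) ∨ del x m (h * (u * a)) ∈ C P (alt b a k)) := by
  obtain ⟨u, hu, v, hv, huv⟩ := mem_C.1 hd
  refine ⟨u, hu, fun r hr => ?_, ?_⟩
  · have h1 := hg.conj hB hR r hr
    set ρ := h⁻¹ * r * h with hρ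
    have h2 : u⁻¹ * ρ * u ∈ P.B := P.B.mul_mem (P.B.mul_mem (P.B.inv_mem hu) (hg r hr)) hu
    have h3 : (alt a b (k + 1))⁻¹ * (u⁻¹ * ρ * u) * alt a b (k + 1) ∈ P.B := by
      have e : (alt a b (k + 1))⁻¹ * (u⁻¹ * ρ * u) * alt a b (k + 1) = v * ((del x m h)⁻¹ * ρ * del x m h) * v⁻¹ := by
        rw [huv]; group
      rw [e]
      exact P.B.mul_mem (P.B.mul_mem hv h1) (P.B.inv_mem hv)
    have h4 := gate ha hb hlen h2 h3
    have e : (h * (u * a))⁻¹ * r * (h * (u * a)) = a⁻¹ * (u⁻¹ * ρ * u) * a := by rw [hρ]; group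
    rw [e]
    exact h4
  · obtain ⟨b1, hb1, b2, hb2, h12⟩ := mem_C.1 hxa
    have hzu := hB u hu
    have e : del x m (h * (u * a)) = alt b a k * (v * (m * x u * m⁻¹) * b1) * a * b2 := by
      rw [del_mul, huv, alt_succ]
      have e2 : m * x (u * a) * m⁻¹ = (m * x u * m⁻¹) * (m * x a * m⁻¹) := by rw [map_mul]; group
      rw [e2, h12]
      group
    have h1 : v * (m * x u * m⁻¹) * b1 ∈ P.B := P.B.mul_mem (P.B.mul_mem hv hzu) hb1
    rw [e]
    rcases axiom_right (P := P) ha (alt_mem_N hb ha k) h1 with h2 | h2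
    · exact Or.inl (mul_mem_C_right hb2 h2)
    · exact Or.inr (mul_mem_C_right hb2 h2)

/-- the infinite gallery through the images -/
theorem seq (hxS : ∀ a ∈ P.S, m * x a * m⁻¹ ∈ C P a) {k : ℕ} (hk : Odd k)
    (hmin : ∀ h, Good P R h → ∀ n ∈ P.N, del x m h ∈ C P n → k + 1 ≤ len P n) (j : ℕ) :
    ∀ {a b : K} (_ : a ∈ P.S) (_ : b ∈ P.S) (_ : ∀ i ≤ j, len P (alt a b i) = i ∧ len P (alt b a i) = i) {h : K}
      (_ : Good P R h) (_ : len P (alt a b (k + 1)) = k + 1) (_ : del x m h ∈ C P (alt a b (k + 1))),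
      ∃ g ∈ C P (alt a b j), Good P R (h * g) := by
  induction j with
  | zero =>
    intro a b _ _ _ h hg _ _
    exact ⟨1, self_mem_C _, by rw [mul_one]; exact hg⟩
  | succ j ih =>
    intro a b ha hb hred h hg hlen hd
    obtain ⟨u, hu, hg', hd'⟩ := step hB hR ha hb (hxS a ha) hg hlen hd
    have hN := alt_mem_N (P := P) hb ha k
    have hlen1 : len P (alt b a k) ≤ k := len_alt_le hb ha k
    have e : alt b a (k + 1) = alt b a k * a := by
      obtain ⟨i, rfl⟩ := hk
      exact (alt_even b a i).2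
    have hd2 : del x m (h * (u * a)) ∈ C P (alt b a (k + 1)) := by
      rcases hd' with h1 | h1
      · rw [e]; exact h1
      · have := hmin _ hg' _ hN h1
        omega
    have hlen2 : len P (alt b a (k + 1)) = k + 1 :=
      le_antisymm (len_alt_le hb ha _) (hmin _ hg' _ (alt_mem_N hb ha _) hd2)
    obtain ⟨g', hg'C, hgood⟩ := ih hb ha (fun i hi => (hred i (by omega)).symm) hg' hlen2 hd2
    refine ⟨u * a * g', ?_, by rw [← mul_assoc]; exact hgood⟩
    obtain ⟨x1, hx1, y1, hy1, hxy⟩ := mem_C.1 hg'C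
    have h1 : a * x1 * alt b a j ∈ C P (a * alt b a j) := by
      refine mul_mem_C_of_le ha (alt_mem_N hb ha j) hx1 ?_
      have h2 := (hred (j + 1) le_rfl).1
      rw [alt_succ] at h2
      rw [h2, (hred j (by omega)).2]
      omega
    have h2 : u * a * g' = u * (a * x1 * alt b a j) * y1 := by rw [hxy]; group
    rw [h2, alt_succ]
    exact mul_mem_C_right hy1 (mul_mem_C_left hu h1)

end Displacement

/-- `x` fixes the conjugate `g A g⁻¹` -/
def FixC (x : MulAut K) (g : K) (A : Subgroup K) : Prop := ∀ y ∈ A, g⁻¹ * x (g * y * g⁻¹) * g ∈ A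

theorem fixC_of_del {x : MulAut K} {m h : K} {A : Subgroup K} (hA : ∀ y ∈ A, m * x y * m⁻¹ ∈ A)
    (hd : del x m h ∈ A) : FixC x h A := by
  intro y hy
  have e : h⁻¹ * x (h * y * h⁻¹) * h = del x m h * (m * x y * m⁻¹) * (del x m h)⁻¹ := by
    unfold del
    rw [map_mul, map_mul, map_inv]
    group
  rw [e]
  exact A.mul_mem (A.mul_mem hd (hA y hy)) (A.inv_mem hd)

/-- **Fixed vertices in rank two.** -/
theorem main {s t : K} (hS : P.S = {s, t}) {M : ℕ}
    (hlen : ∀ i ≤ M, len P (alt s t i) = i ∧ len P (alt t s i) = i) {x : MulAut K} {m : K} {R : Subgroup K}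
    (hB : ∀ b ∈ P.B, m * x b * m⁻¹ ∈ P.B)
    (hs : ∀ b ∈ P.parabolic {s}, m * x b * m⁻¹ ∈ P.parabolic {s})
    (ht : ∀ b ∈ P.parabolic {t}, m * x b * m⁻¹ ∈ P.parabolic {t})
    (hxS : ∀ a ∈ P.S, m * x a * m⁻¹ ∈ C P a)
    (hR : ∀ r ∈ R, ∃ r' ∈ R, x r' = r) (h₀ : ∃ h, ∀ r ∈ R, h⁻¹ * r * h ∈ P.B) :
    (∃ g, FixC x g P.B ∨ FixC x g (P.parabolic {s}) ∨ FixC x g (P.parabolic {t})) ∨
      ∃ g, (∀ r ∈ R, ∀ j ≤ M, (alt s t j)⁻¹ * (g⁻¹ * r * g) * alt s t j ∈ P.B) ∨
        (∀ r ∈ R, ∀ j ≤ M, (alt t s j)⁻¹ * (g⁻¹ * r * g) * alt t s j ∈ P.B) := by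
  classical
  have hsS : s ∈ P.S := by rw [hS]; exact Set.mem_insert _ _
  have htS : t ∈ P.S := by rw [hS]; exact Set.mem_insert_of_mem _ rfl
  -- a chamber with minimal displacement
  have hex : ∃ k, ∃ h, Good P R h ∧ ∃ n ∈ P.N, del x m h ∈ C P n ∧ len P n = k := by
    obtain ⟨h, hh⟩ := h₀
    obtain ⟨n, hn, hC⟩ := bruhat (P := P) (del x m h)
    exact ⟨_, h, hh, n, hn, hC, rfl⟩
  obtain ⟨h, hg, n, hn, hC, hk⟩ := Nat.find_spec hex
  set K0 := Nat.find hex with hK0
  have hmin : ∀ h, Good P R h → ∀ n ∈ P.N, del x m h ∈ C P n → K0 ≤ len P n := fun h hg n hn hC =>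
    Nat.find_min' hex ⟨h, hg, n, hn, hC, rfl⟩
  -- the displacement is an alternating word
  have hword : ∃ a b : K, ((a = s ∧ b = t) ∨ (a = t ∧ b = s)) ∧ del x m h ∈ C P (alt a b K0) ∧ len P (alt a b K0) = K0 := by
    rcases exists_alt hS K0 n hn hk with h1 | h1
    · exact ⟨s, t, Or.inl ⟨rfl, rfl⟩, by rw [C_eq_of_rel h1]; exact hC, by rw [len_congr h1]; exact hk⟩
    · exact ⟨t, s, Or.inr ⟨rfl, rfl⟩, by rw [C_eq_of_rel h1]; exact hC, by rw [len_congr h1]; exact hk⟩
  obtain ⟨a, b, hab, hd, hl⟩ := hword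
  have haS : a ∈ P.S := by rcases hab with ⟨rfl, -⟩ | ⟨rfl, -⟩ <;> assumption
  have hbS : b ∈ P.S := by rcases hab with ⟨-, rfl⟩ | ⟨-, rfl⟩ <;> assumption
  rcases Nat.eq_zero_or_pos K0 with h0 | hpos
  · left
    refine ⟨h, Or.inl (fixC_of_del hB ?_)⟩
    rw [h0, alt_zero] at hd
    exact mem_C_one.1 hd
  obtain ⟨k, hk1⟩ : ∃ k, K0 = k + 1 := ⟨K0 - 1, by omega⟩
  rw [hk1] at hd hl hmin
  rcases Nat.even_or_odd k with hev | hodd
  · -- odd displacement
    obtain ⟨u, hu, hg', hd'⟩ := step hB hR haS hbS (hxS a haS) hg hl hd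
    rcases Nat.eq_zero_or_pos k with rfl | hk0
    · left
      refine ⟨h, Or.inr ?_⟩
      have h1 : del x m h ∈ C P a := by
        have e : alt a b (0 + 1) = a := by rw [alt_succ, alt_zero, mul_one]
        rw [e] at hd
        exact hd
      have h2 : del x m h ∈ P.parabolic {a} := by
        refine mem_of_mem_C' (le_sup_left : P.B ≤ P.parabolic {a}) h1 ?_
        exact (le_sup_right : closure {a} ≤ P.parabolic {a}) (subset_closure rfl)
      rcases hab with ⟨rfl, -⟩ | ⟨rfl, -⟩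
      · exact Or.inl (fixC_of_del hs h2)
      · exact Or.inr (fixC_of_del ht h2)
    · exfalso
      have hlen1 : len P (alt b a k) ≤ k := len_alt_le hbS haS k
      rcases hd' with h1 | h1
      · obtain ⟨i, hi⟩ := hev
        obtain ⟨j, rfl⟩ : ∃ j, i = j + 1 := ⟨i - 1, by omega⟩
        have hkj : k = 2 * j + 2 := by omega
        have e : alt b a k = alt b a (2 * j + 1) * a := by rw [hkj]; exact (alt_even b a j).2
        rw [e] at h1
        have h2 := hmin _ hg' _ (P.N.mul_mem (P.N.mul_mem (alt_mem_N hbS haS _) (mem_N haS)) (mem_N haS)) h1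
        rw [len_congr (rel_mul_sq haS)] at h2
        have h3 := len_alt_le (P := P) hbS haS (2 * j + 1)
        omega
      · have := hmin _ hg' _ (alt_mem_N hbS haS k) h1
        omega
  · -- even displacement
    right
    have hred : ∀ i ≤ M, len P (alt a b i) = i ∧ len P (alt b a i) = i := by
      rcases hab with ⟨rfl, rfl⟩ | ⟨rfl, rfl⟩
      · exact hlen
      · exact fun i hi => (hlen i hi).symm
    obtain ⟨g, hgC, hgood⟩ := seq hB hR hxS hodd hmin M haS hbS hred hg hl hd
    obtain ⟨u, hu, v, hv, huv⟩ := mem_C.1 hgC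
    have key : ∀ r ∈ R, ∀ j ≤ M, (alt a b j)⁻¹ * ((h * u)⁻¹ * r * (h * u)) * alt a b j ∈ P.B := by
      intro r hr
      refine gate_all haS hbS (hred M le_rfl).1 ?_ ?_
      · have e : (h * u)⁻¹ * r * (h * u) = u⁻¹ * (h⁻¹ * r * h) * u := by group
        rw [e]
        exact P.B.mul_mem (P.B.mul_mem (P.B.inv_mem hu) (hg r hr)) hu
      · have e : (alt a b M)⁻¹ * ((h * u)⁻¹ * r * (h * u)) * alt a b M = v * ((h * g)⁻¹ * r * (h * g)) * v⁻¹ := by
          rw [huv]; group
        rw [e]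
        exact P.B.mul_mem (P.B.mul_mem hv (hgood r hr)) (P.B.inv_mem hv)
    refine ⟨h * u, ?_⟩
    rcases hab with ⟨rfl, rfl⟩ | ⟨rfl, rfl⟩
    · exact Or.inl key
    · exact Or.inr key

end Cfsg.Agent.H823.GateTwo
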