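import Mathlib
import Cfsg.Agent.H99.CL2F4
import Cfsg.Agent.KFacts.TwF4.TorEx
import Cfsg.Agent.KFacts.TwF4.TorFix
import Cfsg.Agent.H187.TwF4SQ

/-!
# The normaliser of `Sz(q) × Sz(q)` in `²F₄(q)`, `q ≥ 8` (helper823, task 1433, S5906, S5907)

`S : Full σ G`, `RR = ⟨Z_0, Z_4, Z_8, Z_12⟩`.

* `peel` : a torus-invariant subgroup of `J a b` contains the components of its elements at the ends;
* `Hyp.inf_one` : a proper subgroup `K` containing `X_0, X_4, X_8, X_12, T` meets `X_k` trivially, `4 ∤ k`.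
-/

set_option autoImplicit false
set_option linter.unusedSectionVars false

namespace Cfsg.Agent.H823.TwFSz

open Subgroup
open Cfsg.Agent.KFacts.TwF4 Cfsg.Agent.KFacts.TwF4.Full Cfsg.Agent.KFacts.TwF4.Arc
open Cfsg.Agent.KFacts.TwF4.Inv Cfsg.Agent.KFacts.TwF4.SylU Cfsg.Agent.KFacts.TwF4.Perf
open Cfsg.Agent.KFacts.TwF4.Irr
open Cfsg.Agent.SplitTwo Cfsg.Agent.SplitTwo.ZS Cfsg.Agent.TitsThree.RankTwoZ
open Cfsg.Agent.SplitTwo.RootSysZ
open Cfsg.Agent.H99.CL2F4 (nn nn_e e2_word eight eq_top_of_ZO)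

universe u

variable {F : Type*} [Field F] {σ : F →+* F} {G : Type u} [Group G] (S : Full σ G)

/-! ### Transitivity of the torus -/

theorem trans_o [Finite F] (b : ZMod 8) {s t : F} (hs : s ≠ 0) (ht : t ≠ 0) :
    ∃ h ∈ S.T, h * S.o b s * h⁻¹ = S.o b t := by
  obtain ⟨w, hw⟩ := TorEx.exists_pw S (TorEx.pE_EO 0 b) (Units.mk0 t ht / Units.mk0 s hs)
  refine ⟨TorEx.tE S w 0, TorEx.tE_mem S w 0, ?_⟩
  rw [TorEx.tE_o, hw, Units.val_div_eq_div_val]
  congr 1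
  show t / s * s = t
  exact div_mul_cancel₀ _ hs

theorem trans_z [Finite F] (b : ZMod 8) {u v : F} (hu : u ≠ 0) (hv : v ≠ 0) :
    ∃ h ∈ S.T, h * S.e b 0 u * h⁻¹ = S.e b 0 v := by
  let f : Fˣ →* Fˣ := MonoidHom.id _ * Units.map (σ : F →* F)
  have hf : Function.Injective f := by
    rw [injective_iff_map_eq_one]
    intro a ha
    exact S.unit_eq_one ha
  obtain ⟨c, hc⟩ := Finite.surjective_of_injective hf (Units.mk0 v hv / Units.mk0 u hu)
  obtain ⟨w, hw⟩ := TorEx.exists_pw S (TorEx.pO_OE 0 b) c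
  refine ⟨TorEx.tO S w 0, TorEx.tO_mem S w 0, ?_⟩
  rw [TorEx.tO_e, hw, mul_zero]
  congr 1
  have h1 : (c : F) * σ (c : F) = v / u := by
    have := congrArg Units.val hc
    rw [Units.val_div_eq_div_val] at this
    exact this
  rw [h1, div_mul_cancel₀ _ hu]

theorem nn_o (a : ZMod 8) (t : F) : nn S * S.o a t * (nn S)⁻¹ = S.o (-1 - a) t := by
  have h1 : (S.rot ^ (-2 : ℤ))⁻¹ * S.o a t * S.rot ^ (-2 : ℤ) = S.o (a + 2) t := by
    have := S.rotk_o (-2) (a + 2) t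
    have e : a + 2 + ((-2 : ℤ) : ZMod 8) = a := by push_cast; ring
    rw [e] at this
    rw [← this]; group
  rw [nn, Cfsg.Agent.H99.CL2F4.conj_conj, h1, S.n2_o, S.rotk_o]
  congr 1
  have : (3 : ZMod 8) - (a + 2) + ((-2 : ℤ) : ZMod 8) = -1 - a := by push_cast; ring
  rw [this]

/-! ### Peeling -/

section Peel

variable [Finite F] [Finite G]

/-- a non-trivial element of odd prime order of the torus that centralises `X_k` -/
theorem exists_prime (hF : ∃ c : Fˣ, c ≠ 1) (k : ℤ) :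
    ∃ (r : ℕ) (t : G), r.Prime ∧ r ≠ 2 ∧ t ∈ S.Tk k ∧ t ≠ 1 ∧ t ^ r = 1 := by
  obtain ⟨w, hw⟩ := hF
  obtain ⟨h, hh, h1, h2⟩ := TorEx.exists_tt S hw k
  have hk : h ∈ S.Tk k := by
    refine mem_inf.mpr ⟨hh, mem_centralizer_iff.2 fun x hx => ?_⟩
    have := h1 k (by simp) x hx
    rw [mul_inv_eq_iff_eq_mul] at this
    exact this.symm
  have hne : h ≠ 1 := by
    rintro rfl
    obtain ⟨y, hy, hy1⟩ := S.zsys8.exists_ne (k + 1)
    exact hy1 (h2 (k + 1) (by omega) y hy (by simp))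
  have hcard : Nat.card (S.Tk k) ≠ 1 := by
    intro hc
    have h3 := (Subgroup.card_eq_one.1 hc)
    rw [h3, mem_bot] at hk
    exact hne hk
  obtain ⟨r, hr, hrd⟩ := Nat.exists_prime_and_dvd hcard
  have := Fact.mk hr
  obtain ⟨x, hx⟩ := exists_prime_orderOf_dvd_card' r hrd
  have hx1 : (x : G) ≠ 1 := by
    intro hx1
    have h4 : x = 1 := Subtype.ext hx1
    rw [h4, orderOf_one] at hx
    exact hr.one_lt.ne hx
  have hxr : (x : G) ^ r = 1 := by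
    have h4 : x ^ r = 1 := by rw [← hx]; exact pow_orderOf_eq_one x
    exact congrArg Subtype.val h4
  refine ⟨r, x, hr, ?_, x.2, hx1, hxr⟩
  rintro rfl
  obtain ⟨c, d, hcd⟩ := S.mem_T.1 (S.Tk_le k x.2)
  rw [← hcd] at hxr
  obtain ⟨h4, h5⟩ := torus_two S (k := 1) (by rw [pow_one]; exact hxr)
  apply hx1
  rw [← hcd, h4, h5, S.h_one]

/-- **Peeling.** -/
theorem peel (hF : ∃ c : Fˣ, c ≠ 1) (hR : S.R.p = 2) {a b k : ℤ} (hb : b < a + 8) (hk1 : a ≤ k) (hk2 : k ≤ b)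
    {W V : Subgroup G} (hW : W ≤ J S.XZ a b) (hWT : ∀ t ∈ S.T, ∀ w ∈ W, t * w * t⁻¹ ∈ W)
    (hWX : ∀ x ∈ S.XZ k, x ∈ W → x = 1) (hVT : ∀ t ∈ S.T, ∀ v ∈ V, t * v * t⁻¹ ∈ V) {x w : G} (hx : x ∈ S.XZ k)
    (hw : w ∈ W) (h : x * w ∈ V) : x ∈ V := by
  classical
  obtain ⟨r, t, hr, hr2, htk, ht1, htr⟩ := exists_prime S hF k
  have := Fact.mk hr
  have htT : t ∈ S.T := S.Tk_le k htk
  have htx : t * x = x * t := S.Tk_comm htk hx
  let Ω := {g : G // ∃ v ∈ V ⊓ W, g = x * w * v}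
  have hc : (x * w)⁻¹ * (t * (x * w) * t⁻¹) ∈ V ⊓ W := by
    refine mem_inf.mpr ⟨mul_mem (inv_mem h) (hVT t htT _ h), ?_⟩
    have e : (x * w)⁻¹ * (t * (x * w) * t⁻¹) = w⁻¹ * (t * w * t⁻¹) := by
      calc (x * w)⁻¹ * (t * (x * w) * t⁻¹) = w⁻¹ * x⁻¹ * ((t * x) * w * t⁻¹) := by group
        _ = w⁻¹ * (t * w * t⁻¹) := by rw [htx]; group
    rw [e]
    exact mul_mem (inv_mem hw) (hWT t htT w hw)
  let f : Ω → Ω := fun g => ⟨t * g.1 * t⁻¹, by
    obtain ⟨g, v, hv, rfl⟩ := g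
    refine ⟨(x * w)⁻¹ * (t * (x * w) * t⁻¹) * (t * v * t⁻¹), mul_mem hc ?_, by group⟩
    obtain ⟨h1, h2⟩ := mem_inf.mp hv
    exact mem_inf.mpr ⟨hVT t htT v h1, hWT t htT v h2⟩⟩
  have hf : Function.Injective f := by
    intro g g' hgg
    have h1 : t * g.1 * t⁻¹ = t * g'.1 * t⁻¹ := congrArg Subtype.val hgg
    exact Subtype.ext (mul_left_cancel (mul_right_cancel h1))
  let e : Equiv.Perm Ω := Equiv.ofBijective f (Finite.injective_iff_bijective.1 hf)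
  have hpow : ∀ (n : ℕ) (g : Ω), ((e ^ n) g).1 = t ^ n * g.1 * (t ^ n)⁻¹ := by
    intro n
    induction n with
    | zero => intro g; simp
    | succ n ih =>
      intro g
      rw [pow_succ', Equiv.Perm.mul_apply]
      show t * ((e ^ n) g).1 * t⁻¹ = _
      rw [ih, pow_succ']
      group
  have he : e ^ r ^ 1 = 1 := by
    rw [pow_one]
    apply Equiv.ext
    intro g
    apply Subtype.ext
    rw [hpow, htr]
    simp
  have hcardΩ : Nat.card Ω = Nat.card (V ⊓ W : Subgroup G) := by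
    refine Nat.card_congr (Equiv.ofBijective (fun g : Ω => (⟨(x * w)⁻¹ * g.1, ?_⟩ : (V ⊓ W : Subgroup G))) ⟨?_, ?_⟩)
    · obtain ⟨g, v, hv, rfl⟩ := g
      rw [inv_mul_cancel_left]
      exact hv
    · intro g g' hgg
      have h1 : (x * w)⁻¹ * g.1 = (x * w)⁻¹ * g'.1 := congrArg Subtype.val hgg
      exact Subtype.ext (mul_left_cancel h1)
    · rintro ⟨v, hv⟩
      refine ⟨⟨x * w * v, v, hv, rfl⟩, Subtype.ext ?_⟩
      show (x * w)⁻¹ * (x * w * v) = v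
      group
  have h2 : IsPGroup 2 (V ⊓ W : Subgroup G) := (two_J S hR hb).to_le (inf_le_right.trans hW)
  have hfact : Fact (Nat.Prime 2) := ⟨Nat.prime_two⟩
  obtain ⟨n, hn⟩ := IsPGroup.iff_card.1 h2
  have hnd : ¬ r ∣ Nat.card Ω := by
    rw [hcardΩ, hn]
    intro hd
    exact hr2 ((Nat.prime_dvd_prime_iff_eq hr Nat.prime_two).1 (hr.dvd_of_dvd_pow hd))
  have hfin : Fintype Ω := Fintype.ofFinite Ω
  obtain ⟨⟨g, v, hv, hg⟩, hfix⟩ := Equiv.Perm.exists_fixed_point_of_prime (p := r) (n := 1)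
    (by rw [← Nat.card_eq_fintype_card]; exact hnd) he
  have hfix' : t * g * t⁻¹ = g := congrArg Subtype.val hfix
  obtain ⟨hvV, hvW⟩ := mem_inf.mp hv
  have hgJ : g ∈ J S.XZ a b := by
    rw [hg]
    exact mul_mem (mul_mem (mem_J hx hk1 hk2) (hW hw)) (hW hvW)
  have hgX := S.fix_J htk ht1 (by omega) (by omega) hb hgJ hfix'
  have h3 : x⁻¹ * g = w * v := by rw [hg]; group
  have h4 := hWX _ (mul_mem (inv_mem hx) hgX) (by rw [h3]; exact mul_mem hw hvW)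
  have h5 : x = g := by
    rw [inv_mul_eq_one] at h4
    exact h4
  rw [h5, hg]
  exact mul_mem h hvV

/-- the first component -/
theorem peel_left (hF : ∃ c : Fˣ, c ≠ 1) (hR : S.R.p = 2) {a b : ℤ} (hab : a ≤ b) (hb : b < a + 8) {V : Subgroup G}
    (hVT : ∀ t ∈ S.T, ∀ v ∈ V, t * v * t⁻¹ ∈ V) {x w : G} (hx : x ∈ S.XZ a) (hw : w ∈ J S.XZ (a + 1) b)
    (h : x * w ∈ V) : x ∈ V :=
  peel S hF hR hb le_rfl hab (J_mono (by omega) le_rfl) (fun t ht w hw => S.T_conj_J ht hw)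
    (fun x hx hx' => S.zsys8.inter a x hx (J_mono le_rfl (by omega) hx')) hVT hx hw h

/-- the last component -/
theorem peel_right (hF : ∃ c : Fˣ, c ≠ 1) (hR : S.R.p = 2) {a b : ℤ} (hab : a ≤ b) (hb : b < a + 8) {V : Subgroup G}
    (hVT : ∀ t ∈ S.T, ∀ v ∈ V, t * v * t⁻¹ ∈ V) {x w : G} (hx : x ∈ S.XZ b) (hw : w ∈ J S.XZ a (b - 1))
    (h : x * w ∈ V) : x ∈ V :=
  peel S hF hR hb hab le_rfl (J_mono le_rfl (by omega)) (fun t ht w hw => S.T_conj_J ht hw)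
    (fun x hx hx' => S.zsys8.inter' hx (J_mono (by omega) le_rfl hx')) hVT hx hw h

/-- an element of an invariant subgroup meeting `X_a` trivially -/
theorem mem_left (hF : ∃ c : Fˣ, c ≠ 1) (hR : S.R.p = 2) {a b : ℤ} (hab : a ≤ b) (hb : b < a + 8) {V : Subgroup G}
    (hVT : ∀ t ∈ S.T, ∀ v ∈ V, t * v * t⁻¹ ∈ V) (hV : ∀ x ∈ S.XZ a, x ∈ V → x = 1) {g : G} (hg : g ∈ V)
    (hgJ : g ∈ J S.XZ a b) : g ∈ J S.XZ (a + 1) b := by
  obtain ⟨x, hx, y, hy, rfl⟩ := S.zsys8.split_ll hab hb hgJ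
  rw [hV x hx (peel_left S hF hR hab hb hVT hx hy hg), one_mul]
  exact hy

theorem mem_right (hF : ∃ c : Fˣ, c ≠ 1) (hR : S.R.p = 2) {a b : ℤ} (hab : a ≤ b) (hb : b < a + 8) {V : Subgroup G}
    (hVT : ∀ t ∈ S.T, ∀ v ∈ V, t * v * t⁻¹ ∈ V) (hV : ∀ x ∈ S.XZ b, x ∈ V → x = 1) {g : G} (hg : g ∈ V)
    (hgJ : g ∈ J S.XZ a b) : g ∈ J S.XZ a (b - 1) := by
  obtain ⟨x, hx, y, hy, rfl⟩ := S.zsys8.split_rl hab hb hgJ
  rw [hV x hx (peel_right S hF hR hab hb hVT hx hy hg), one_mul]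
  exact hy

end Peel

/-! ### Step 1 -/

/-- the hypothesis on `K` -/
structure Hyp (K : Subgroup G) : Prop where
  X0 : S.XZ 0 ≤ K
  X4 : S.XZ 4 ≤ K
  X8 : S.XZ 8 ≤ K
  X12 : S.XZ 12 ≤ K
  T : S.T ≤ K
  ne : K ≠ ⊤

namespace Hyp

variable {S} {K : Subgroup G} (h : Hyp S K)
include h

theorem e0 (p u : F) : S.e 0 p u ∈ K := h.X0 (by have := S.e_mem 0 p u; simpa using this)
theorem e2 (p u : F) : S.e 2 p u ∈ K := h.X4 (by have := S.e_mem 2 p u; push_cast at this; exact this)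
theorem e4 (p u : F) : S.e 4 p u ∈ K := h.X8 (by have := S.e_mem 4 p u; push_cast at this; exact this)
theorem e6 (p u : F) : S.e 6 p u ∈ K := h.X12 (by have := S.e_mem 6 p u; push_cast at this; exact this)

theorem n2_mem : S.n2 ∈ K := by
  rw [S.n2_word]
  exact mul_mem (mul_mem (h.e4 _ _) (h.e0 _ _)) (h.e4 _ _)

theorem nn_mem : nn S ∈ K := by
  have e : nn S = S.e 6 1 0 * S.e 2 0 1 * (S.e 6 1 0)⁻¹ := by
    conv_rhs => rw [e2_word]
    group
  rw [e]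
  exact mul_mem (mul_mem (h.e6 _ _) (h.e2 _ _)) (inv_mem (h.e6 _ _))

theorem o_n2 {a : ZMod 8} {t : F} (hm : S.o a t ∈ K) : S.o (3 - a) t ∈ K := by
  rw [← S.n2_o]
  exact mul_mem (mul_mem h.n2_mem hm) (inv_mem h.n2_mem)

theorem e_n2 {a : ZMod 8} {p u : F} (hm : S.e a p u ∈ K) : S.e (4 - a) p u ∈ K := by
  rw [← S.n2_e]
  exact mul_mem (mul_mem h.n2_mem hm) (inv_mem h.n2_mem)

theorem o_nn {a : ZMod 8} {t : F} (hm : S.o a t ∈ K) : S.o (-1 - a) t ∈ K := by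
  rw [← nn_o]
  exact mul_mem (mul_mem h.nn_mem hm) (inv_mem h.nn_mem)

theorem e_nn {a : ZMod 8} {p u : F} (hm : S.e a p u ∈ K) : S.e (-a) p u ∈ K := by
  rw [← nn_e]
  exact mul_mem (mul_mem h.nn_mem hm) (inv_mem h.nn_mem)

variable [Finite F]

theorem all_o {b : ZMod 8} {s : F} (hs : s ≠ 0) (hm : S.o b s ∈ K) (t : F) : S.o b t ∈ K := by
  by_cases ht : t = 0
  · rw [ht, S.o_zero]
    exact one_mem _
  obtain ⟨g, hg, e⟩ := trans_o S b hs ht
  rw [← e]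
  exact mul_mem (mul_mem (h.T hg) hm) (inv_mem (h.T hg))

theorem all_z {b : ZMod 8} {s : F} (hs : s ≠ 0) (hm : S.e b 0 s ∈ K) (t : F) : S.e b 0 t ∈ K := by
  by_cases ht : t = 0
  · rw [ht, S.e_zero]
    exact one_mem _
  obtain ⟨g, hg, e⟩ := trans_z S b hs ht
  rw [← e]
  exact mul_mem (mul_mem (h.T hg) hm) (inv_mem (h.T hg))

theorem conj_T {t v : G} (ht : t ∈ S.T) (hv : v ∈ K) : t * v * t⁻¹ ∈ K :=
  mul_mem (mul_mem (h.T ht) hv) (inv_mem (h.T ht))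

/-- `X_1 ≤ K` is impossible -/
theorem not_o0 [Finite G] (hF : ∃ c : Fˣ, c ≠ 1) (hR : S.R.p = 2) {s : F} (hs : s ≠ 0) (hm : S.o 0 s ∈ K) : False := by
  apply h.ne
  have a0 := h.all_o hs hm
  have a3 : ∀ t, S.o 3 t ∈ K := fun t => by have := h.o_n2 (a0 t); rwa [sub_zero] at this
  have a7 : ∀ t, S.o 7 t ∈ K := fun t => by
    have := h.o_nn (a0 t); rwa [show (-1 - 0 : ZMod 8) = 7 by decide] at this
  have a4 : ∀ t, S.o 4 t ∈ K := fun t => by
    have := h.o_nn (a3 t); rwa [show (-1 - 3 : ZMod 8) = 4 by decide] at this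
  -- the commutator of `X_1` and `X_7`
  have c1 : S.o 1 1 * S.o 2 1 ∈ K := by
    have h1 := S.o_o3 0 1 1
    rw [show (0 : ZMod 8) + 3 = 3 by decide, show (0 : ZMod 8) + 1 = 1 by decide, show (0 : ZMod 8) + 2 = 2 by decide,
      map_one, mul_one] at h1
    have h2 : S.o 1 1 * S.o 2 1 = (S.o 3 1 * S.o 0 1)⁻¹ * (S.o 0 1 * S.o 3 1) := by rw [h1]; group
    rw [h2]
    exact mul_mem (inv_mem (mul_mem (a3 _) (a0 _))) (mul_mem (a0 _) (a3 _))
  have x3 : S.o 1 1 ∈ K := by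
    refine peel_left S hF hR (a := 3) (b := 5) (by norm_num) (by norm_num) (fun t ht v hv => h.conj_T ht hv) ?_ ?_ c1
    · have := S.o_mem 1 1; push_cast at this; exact this
    · have := S.o_mem 2 1
      push_cast at this
      exact mem_J (k := 5) this (by norm_num) le_rfl
  have a1 := h.all_o one_ne_zero x3
  have a2 : ∀ t, S.o 2 t ∈ K := fun t => by
    have := h.o_n2 (a1 t); rwa [show (3 - 1 : ZMod 8) = 2 by decide] at this
  have a6 : ∀ t, S.o 6 t ∈ K := fun t => by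
    have := h.o_nn (a1 t); rwa [show (-1 - 1 : ZMod 8) = 6 by decide] at this
  have a5 : ∀ t, S.o 5 t ∈ K := fun t => by
    have := h.o_nn (a2 t); rwa [show (-1 - 2 : ZMod 8) = 5 by decide] at this
  have z1 : ∀ t, S.e 1 0 t ∈ K := fun t => by
    have h1 := S.o_e2 0 t 1 0
    rw [show (0 : ZMod 8) + 2 = 2 by decide, show (0 : ZMod 8) + 1 = 1 by decide, mul_one] at h1
    have h2 : S.e 1 0 t = (S.e 2 1 0 * S.o 0 t)⁻¹ * (S.o 0 t * S.e 2 1 0) := by rw [h1]; group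
    rw [h2]
    exact mul_mem (inv_mem (mul_mem (h.e2 _ _) (a0 _))) (mul_mem (a0 _) (h.e2 _ _))
  have z3 : ∀ t, S.e 3 0 t ∈ K := fun t => by
    have := h.e_n2 (z1 t); rwa [show (4 - 1 : ZMod 8) = 3 by decide] at this
  have z7 : ∀ t, S.e 7 0 t ∈ K := fun t => by
    have := h.e_nn (z1 t); rwa [show (-1 : ZMod 8) = 7 by decide] at this
  have z5 : ∀ t, S.e 5 0 t ∈ K := fun t => by
    have := h.e_nn (z3 t); rwa [show (-3 : ZMod 8) = 5 by decide] at this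
  refine eq_top_of_ZO S hF ?_ ?_
  · intro a t
    rcases eight a with rfl | rfl | rfl | rfl | rfl | rfl | rfl | rfl
    · exact a0 t
    · exact a1 t
    · exact a2 t
    · exact a3 t
    · exact a4 t
    · exact a5 t
    · exact a6 t
    · exact a7 t
  · intro a t
    rcases eight a with rfl | rfl | rfl | rfl | rfl | rfl | rfl | rfl
    · exact h.e0 0 t
    · exact z1 t
    · exact h.e2 0 t
    · exact z3 t
    · exact h.e4 0 t
    · exact z5 t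
    · exact h.e6 0 t
    · exact z7 t

/-- `Z_2 ≤ K` is impossible -/
theorem not_z1 [Finite G] (hF : ∃ c : Fˣ, c ≠ 1) (hR : S.R.p = 2) {s : F} (hs : s ≠ 0) (hm : S.e 1 0 s ∈ K) : False := by
  have z1 := h.all_z hs hm
  have z7 : ∀ t, S.e 7 0 t ∈ K := fun t => by
    have := h.e_nn (z1 t); rwa [show (-1 : ZMod 8) = 7 by decide] at this
  have h1 := S.e_e3 7 0 1 1 0
  rw [show (7 : ZMod 8) + 3 = 2 by decide, show (7 : ZMod 8) + 1 = 0 by decide,
    show (7 : ZMod 8) + 2 = 1 by decide] at h1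
  simp only [map_one, map_zero, mul_zero, zero_mul, mul_one, one_mul, add_zero, zero_add, S.o_zero] at h1
  have h2 : S.o 7 1 = (S.e 2 1 0 * S.e 7 0 1)⁻¹ * (S.e 7 0 1 * S.e 2 1 0) * (S.e 1 0 1)⁻¹ * (S.e 0 0 1)⁻¹ := by
    rw [h1]; group
  have h3 : S.o 7 1 ∈ K := by
    rw [h2]
    exact mul_mem (mul_mem (mul_mem (inv_mem (mul_mem (h.e2 _ _) (z7 _))) (mul_mem (z7 _) (h.e2 _ _)))
      (inv_mem (z1 _))) (inv_mem (h.e0 _ _))
  have h4 := h.o_nn h3
  rw [show (-1 - 7 : ZMod 8) = 0 by decide] at h4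
  exact h.not_o0 hF hR one_ne_zero h4

/-- `X_3 ≤ K` is impossible -/
theorem not_o1 [Finite G] (hF : ∃ c : Fˣ, c ≠ 1) (hR : S.R.p = 2) {s : F} (hs : s ≠ 0) (hm : S.o 1 s ∈ K) : False := by
  have h1 := S.o_e3 1 s 0 1
  rw [show (1 : ZMod 8) + 3 = 4 by decide, show (1 : ZMod 8) + 1 = 2 by decide,
    show (1 : ZMod 8) + 2 = 3 by decide] at h1
  simp only [map_zero, mul_zero, zero_mul, mul_one, zero_add, S.o_zero, S.e_zero] at h1
  have h2 : S.e 3 0 s = (S.e 4 0 1 * S.o 1 s)⁻¹ * (S.o 1 s * S.e 4 0 1) := by rw [h1]; group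
  have h3 : S.e 3 0 s ∈ K := by
    rw [h2]
    exact mul_mem (inv_mem (mul_mem (h.e4 _ _) hm)) (mul_mem hm (h.e4 _ _))
  have h4 := h.e_n2 h3
  rw [show (4 - 3 : ZMod 8) = 1 by decide] at h4
  exact h.not_z1 hF hR hs h4

theorem not_o [Finite G] (hF : ∃ c : Fˣ, c ≠ 1) (hR : S.R.p = 2) {b : ZMod 8} {s : F} (hs : s ≠ 0)
    (hm : S.o b s ∈ K) : False := by
  rcases eight b with rfl | rfl | rfl | rfl | rfl | rfl | rfl | rfl
  · exact h.not_o0 hF hR hs hm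
  · exact h.not_o1 hF hR hs hm
  · have h1 := h.o_n2 hm
    rw [show (3 - 2 : ZMod 8) = 1 by decide] at h1
    exact h.not_o1 hF hR hs h1
  · have h1 := h.o_n2 hm
    rw [show (3 - 3 : ZMod 8) = 0 by decide] at h1
    exact h.not_o0 hF hR hs h1
  · have h1 := h.o_n2 (h.o_nn hm)
    rw [show (3 - (-1 - 4) : ZMod 8) = 0 by decide] at h1
    exact h.not_o0 hF hR hs h1
  · have h1 := h.o_n2 (h.o_nn hm)
    rw [show (3 - (-1 - 5) : ZMod 8) = 1 by decide] at h1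
    exact h.not_o1 hF hR hs h1
  · have h1 := h.o_nn hm
    rw [show (-1 - 6 : ZMod 8) = 1 by decide] at h1
    exact h.not_o1 hF hR hs h1
  · have h1 := h.o_nn hm
    rw [show (-1 - 7 : ZMod 8) = 0 by decide] at h1
    exact h.not_o0 hF hR hs h1

theorem not_z [Finite G] (hF : ∃ c : Fˣ, c ≠ 1) (hR : S.R.p = 2) {b : ZMod 8} (hb : b = 1 ∨ b = 3 ∨ b = 5 ∨ b = 7)
    {s : F} (hs : s ≠ 0) (hm : S.e b 0 s ∈ K) : False := by
  rcases hb with rfl | rfl | rfl | rfl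
  · exact h.not_z1 hF hR hs hm
  · have h1 := h.e_n2 hm
    rw [show (4 - 3 : ZMod 8) = 1 by decide] at h1
    exact h.not_z1 hF hR hs h1
  · have h1 := h.e_n2 (h.e_nn hm)
    rw [show (4 - (-5) : ZMod 8) = 1 by decide] at h1
    exact h.not_z1 hF hR hs h1
  · have h1 := h.e_nn hm
    rw [show (-7 : ZMod 8) = 1 by decide] at h1
    exact h.not_z1 hF hR hs h1

/-- **Step 1.** `K ∩ X_k = 1` for `4 ∤ k` -/
theorem inf_one [Finite G] (hF : ∃ c : Fˣ, c ≠ 1) (hR : S.R.p = 2) {k : ℤ} (hk : ¬ (4 : ℤ) ∣ k) {x : G}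
    (hx : x ∈ S.XZ k) (hxK : x ∈ K) : x = 1 := by
  by_contra hx1
  obtain ⟨b, hb | hb⟩ := Int.even_or_odd' k
  · rw [hb] at hx
    obtain ⟨p, u, rfl⟩ := (S.mem_XZ_even b x).1 hx
    have hb' : (b : ZMod 8) = 1 ∨ (b : ZMod 8) = 3 ∨ (b : ZMod 8) = 5 ∨ (b : ZMod 8) = 7 := by
      have h1 : b % 8 = 1 ∨ b % 8 = 3 ∨ b % 8 = 5 ∨ b % 8 = 7 := by omega
      have h2 : ((b % 8 : ℤ) : ZMod 8) = (b : ZMod 8) := by
        rw [ZMod.intCast_eq_intCast_iff]
        show b % 8 % ((8 : ℕ) : ℤ) = b % ((8 : ℕ) : ℤ)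
        push_cast
        omega
      rw [← h2]
      rcases h1 with h1 | h1 | h1 | h1 <;> rw [h1]
      · left; rfl
      · right; left; rfl
      · right; right; left; rfl
      · right; right; right; rfl
    by_cases hp : p = 0
    · subst hp
      refine h.not_z hF hR hb' (s := u) ?_ hxK
      rintro rfl
      exact hx1 (S.e_zero _)
    · have h1 := mul_mem hxK hxK
      rw [S.e_mul, char2 S, char2 S, zero_add] at h1
      refine h.not_z hF hR hb' (s := p * σ p) ?_ h1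
      refine mul_ne_zero hp ?_
      rwa [Ne, map_eq_zero]
  · rw [hb] at hx
    obtain ⟨t, rfl⟩ := (S.mem_XZ_odd b x).1 hx
    refine h.not_o hF hR (s := t) ?_ hxK
    rintro rfl
    exact hx1 (S.o_zero _)

/-- **Step 2.** `K ∩ J 1 7 = X_4` -/
theorem inf_Q [Finite G] (hF : ∃ c : Fˣ, c ≠ 1) (hR : S.R.p = 2) {g : G} (hg : g ∈ J S.XZ 1 7) (hgK : g ∈ K) :
    g ∈ S.XZ 4 := by
  have hT : ∀ t ∈ S.T, ∀ v ∈ K, t * v * t⁻¹ ∈ K := fun t ht v hv => h.conj_T ht hv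
  have h2 := mem_left S hF hR (a := 1) (b := 7) (by norm_num) (by norm_num) hT
    (fun x hx hxK => h.inf_one hF hR (by norm_num) hx hxK) hgK hg
  have h3 := mem_left S hF hR (a := 2) (b := 7) (by norm_num) (by norm_num) hT
    (fun x hx hxK => h.inf_one hF hR (by norm_num) hx hxK) hgK h2
  have h4 := mem_left S hF hR (a := 3) (b := 7) (by norm_num) (by norm_num) hT
    (fun x hx hxK => h.inf_one hF hR (by norm_num) hx hxK) hgK h3
  have h5 := mem_right S hF hR (a := 4) (b := 7) (by norm_num) (by norm_num) hT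
    (fun x hx hxK => h.inf_one hF hR (by norm_num) hx hxK) hgK h4
  have h6 := mem_right S hF hR (a := 4) (b := 6) (by norm_num) (by norm_num) hT
    (fun x hx hxK => h.inf_one hF hR (by norm_num) hx hxK) hgK h5
  have h7 := mem_right S hF hR (a := 4) (b := 5) (by norm_num) (by norm_num) hT
    (fun x hx hxK => h.inf_one hF hR (by norm_num) hx hxK) hgK h6
  exact mem_of_J_self h7 (by norm_num)

end Hyp

end Cfsg.Agent.H823.TwFSz
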