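import Mathlib
import Cfsg.Agent.H823.TwFSz

/-!
# The normaliser of `Sz(q) × Sz(q)` in `²F₄(q)`, `q ≥ 8`, II (helper823, task 1433)

* `X0_le`, … : `X_0, X_4, X_8, X_12, T ≤ N(RR)`;
* `Hyp.cases` : the conjugates of `Z_4` contained in `K`.
-/

set_option autoImplicit false
set_option linter.unusedSectionVars false

namespace Cfsg.Agent.H823.TwFSz

open Subgroup
open scoped commutatorElement
open Cfsg.Agent.KFacts.TwF4 Cfsg.Agent.KFacts.TwF4.Full Cfsg.Agent.KFacts.TwF4.Arc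
open Cfsg.Agent.KFacts.TwF4.Inv Cfsg.Agent.KFacts.TwF4.SylU Cfsg.Agent.KFacts.TwF4.Perf
open Cfsg.Agent.KFacts.TwF4.Irr
open Cfsg.Agent.SplitTwo Cfsg.Agent.SplitTwo.ZS Cfsg.Agent.TitsThree.RankTwoZ
open Cfsg.Agent.SplitTwo.RootSysZ
open Cfsg.Agent.H99.CL2F4 (nn nn_e e2_word eight eq_top_of_ZO cj_eq_of cj_T_Zc cj_e_Zc)
open Cfsg.Agent.H939.KLat (cj mem_cj conj_mem_cj cj_mul cj_cj_inv cj_inv_cj cj_mono cj_one)

universe u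

variable {F : Type*} [Field F] {σ : F →+* F} {G : Type u} [Group G] (S : Full σ G)

/-- `Sz(q) × Sz(q)` -/
def RR : Subgroup G := S.Zc 0 ⊔ S.Zc 2 ⊔ S.Zc 4 ⊔ S.Zc 6

theorem Z0_RR : S.Zc 0 ≤ RR S := le_sup_left.trans (le_sup_left.trans le_sup_left)
theorem Z2_RR : S.Zc 2 ≤ RR S := le_sup_right.trans (le_sup_left.trans le_sup_left)
theorem Z4_RR : S.Zc 4 ≤ RR S := le_sup_right.trans le_sup_left
theorem Z6_RR : S.Zc 6 ≤ RR S := le_sup_right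

theorem RR_le {K : Subgroup G} (h0 : S.Zc 0 ≤ K) (h2 : S.Zc 2 ≤ K) (h4 : S.Zc 4 ≤ K) (h6 : S.Zc 6 ≤ K) : RR S ≤ K :=
  sup_le (sup_le (sup_le h0 h2) h4) h6

/-- the elements `e 0 1 0` conjugate `Z_8` into `⟨Z_0, Z_8⟩` -/
theorem conj_w (z : G) (hz : z ∈ S.Zc 4) : (S.e 0 1 0)⁻¹ * z * S.e 0 1 0 ∈ S.Zc 0 ⊔ S.Zc 4 := by
  obtain ⟨u, rfl⟩ := hz
  have h1 : S.e 4 0 u = S.n2 * S.e 0 0 u * S.n2⁻¹ := by rw [S.n2_e, sub_zero]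
  have h2 : (S.e 0 1 0)⁻¹ * S.n2 * S.e 0 1 0 = S.e 4 0 1 := by rw [n2_word' S]; group
  have h3 : (S.e 0 1 0)⁻¹ * S.e 0 0 u * S.e 0 1 0 = S.e 0 0 u := by
    have : S.e 0 0 u * S.e 0 1 0 = S.e 0 1 0 * S.e 0 0 u := by
      rw [S.e_mul, S.e_mul, map_zero, mul_zero, zero_mul, add_zero, add_zero, zero_add, zero_add, add_zero, add_zero]
    rw [mul_assoc, this, inv_mul_cancel_left]
  have h4 : (S.e 0 1 0)⁻¹ * S.e 4 0 u * S.e 0 1 0 = S.e 4 0 1 * S.e 0 0 u * (S.e 4 0 1)⁻¹ := by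
    calc (S.e 0 1 0)⁻¹ * S.e 4 0 u * S.e 0 1 0 = ((S.e 0 1 0)⁻¹ * S.n2 * S.e 0 1 0) *
          ((S.e 0 1 0)⁻¹ * S.e 0 0 u * S.e 0 1 0) * ((S.e 0 1 0)⁻¹ * S.n2 * S.e 0 1 0)⁻¹ := by rw [h1]; group
      _ = _ := by rw [h2, h3]
  rw [h4]
  exact mul_mem (mul_mem (mem_sup_right ⟨_, rfl⟩) (mem_sup_left ⟨_, rfl⟩)) (inv_mem (mem_sup_right ⟨_, rfl⟩))

/-- an element of `X_a` commutes with `Z_{2a}` -/
theorem e_comm (a : ZMod 8) (p u v : F) : S.e a p u * S.e a 0 v = S.e a 0 v * S.e a p u := by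
  rw [S.e_mul, S.e_mul, map_zero, mul_zero, zero_mul, add_zero, add_zero, add_zero, zero_add, add_comm]

theorem conj_sup {A B C : Subgroup G} {x : G} (hA : ∀ a ∈ A, x * a * x⁻¹ ∈ C) (hB : ∀ a ∈ B, x * a * x⁻¹ ∈ C) :
    ∀ y ∈ A ⊔ B, x * y * x⁻¹ ∈ C := by
  have h1 : A ⊔ B ≤ C.comap (MulAut.conj x).toMonoidHom := sup_le hA hB
  exact fun y hy => h1 hy

theorem conj_X0 {x : G} (hx : x ∈ S.XZ 0) : ∀ y ∈ S.Zc 0 ⊔ S.Zc 4, x * y * x⁻¹ ∈ S.Zc 0 ⊔ S.Zc 4 := by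
  -- `Z_0`
  have h0 : ∀ p u : F, ∀ a ∈ S.Zc 0, S.e 0 p u * a * (S.e 0 p u)⁻¹ ∈ S.Zc 0 ⊔ S.Zc 4 := by
    rintro p u _ ⟨v, rfl⟩
    rw [e_comm, mul_inv_cancel_right]
    exact mem_sup_left ⟨_, rfl⟩
  have hz : ∀ u : F, ∀ y ∈ S.Zc 0 ⊔ S.Zc 4, S.e 0 0 u * y * (S.e 0 0 u)⁻¹ ∈ S.Zc 0 ⊔ S.Zc 4 := fun u y hy =>
    mul_mem (mul_mem (mem_sup_left ⟨_, rfl⟩) hy) (inv_mem (mem_sup_left ⟨_, rfl⟩))
  have hwi : ∀ y ∈ S.Zc 0 ⊔ S.Zc 4, (S.e 0 1 0)⁻¹ * y * (S.e 0 1 0)⁻¹⁻¹ ∈ S.Zc 0 ⊔ S.Zc 4 := by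
    refine conj_sup ?_ ?_
    · rintro _ ⟨v, rfl⟩
      have := e_comm S 0 1 0 v
      rw [inv_inv, mul_assoc, ← this, inv_mul_cancel_left]
      exact mem_sup_left ⟨_, rfl⟩
    · intro z hz
      rw [inv_inv]
      exact conj_w S z hz
  have hw : ∀ y ∈ S.Zc 0 ⊔ S.Zc 4, S.e 0 1 0 * y * (S.e 0 1 0)⁻¹ ∈ S.Zc 0 ⊔ S.Zc 4 := by
    intro y hy
    have h1 : S.e 0 1 0 * S.e 0 1 0 = S.e 0 0 1 := by
      rw [S.e_mul, map_one, mul_one, add_zero, zero_add, char2 S]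
    have h2 := hwi _ (hz 1 y hy)
    have e : (S.e 0 1 0)⁻¹ * (S.e 0 0 1 * y * (S.e 0 0 1)⁻¹) * (S.e 0 1 0)⁻¹⁻¹ = S.e 0 1 0 * y * (S.e 0 1 0)⁻¹ := by
      rw [← h1]; group
    rwa [e] at h2
  have hT : ∀ t ∈ S.T, ∀ y ∈ S.Zc 0 ⊔ S.Zc 4, t * y * t⁻¹ ∈ S.Zc 0 ⊔ S.Zc 4 := by
    intro t ht
    exact conj_sup (fun a ha => mem_sup_left (S.T_conj_Zc ht ha)) (fun a ha => mem_sup_right (S.T_conj_Zc ht ha))
  obtain ⟨p, u, rfl⟩ := (mem_X0 S).1 hx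
  intro y hy
  by_cases hp : p = 0
  · subst hp
    exact hz u y hy
  -- `e 0 p u = t (e 0 1 0) t⁻¹ (e 0 0 u)`
  set t := S.h (Units.mk0 p hp) 1 with ht
  have htT : t ∈ S.T := S.mem_T.2 ⟨_, _, rfl⟩
  have h1 : t * S.e 0 1 0 * t⁻¹ = S.e 0 p 0 := by
    rw [ht, S.h_e, chE_zero, mul_one, mul_zero]
    rfl
  have h2 : S.e 0 p u = t * S.e 0 1 0 * t⁻¹ * S.e 0 0 u := by
    rw [h1, S.e_mul, map_zero, mul_zero, add_zero, add_zero, zero_add]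
  have h3 := hT t htT _ (hw _ (hT t⁻¹ (inv_mem htT) _ (hz u y hy)))
  have e : t * (S.e 0 1 0 * (t⁻¹ * (S.e 0 0 u * y * (S.e 0 0 u)⁻¹) * t⁻¹⁻¹) * (S.e 0 1 0)⁻¹) * t⁻¹ =
      S.e 0 p u * y * (S.e 0 p u)⁻¹ := by
    rw [h2]; group
  rwa [e] at h3

/-- `X_0` normalises `RR` -/
theorem conj_X0_RR {x : G} (hx : x ∈ S.XZ 0) : ∀ y ∈ RR S, x * y * x⁻¹ ∈ RR S := by
  have hle : S.Zc 0 ⊔ S.Zc 4 ≤ RR S := sup_le (Z0_RR S) (Z4_RR S)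
  have hx' := conj_X0 S hx
  obtain ⟨p, u, rfl⟩ := (mem_X0 S).1 hx
  have h2 : ∀ a ∈ S.Zc 2, S.e 0 p u * a * (S.e 0 p u)⁻¹ ∈ RR S := by
    rintro _ ⟨v, rfl⟩
    have h := S.e_e2 0 p u 0 v
    rw [show (0 : ZMod 8) + 2 = 2 by decide] at h
    rw [h, mul_inv_cancel_right]
    exact Z2_RR S ⟨_, rfl⟩
  have h6 : ∀ a ∈ S.Zc 6, S.e 0 p u * a * (S.e 0 p u)⁻¹ ∈ RR S := by
    rintro _ ⟨v, rfl⟩
    have h := S.e_e2 6 0 v p u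
    rw [show (6 : ZMod 8) + 2 = 0 by decide] at h
    rw [← h, mul_inv_cancel_right]
    exact Z6_RR S ⟨_, rfl⟩
  refine conj_sup (conj_sup (conj_sup ?_ h2) ?_) h6
  · exact fun a ha => hle (hx' a (mem_sup_left ha))
  · exact fun a ha => hle (hx' a (mem_sup_right ha))

/-- `rot²` normalises `RR` -/
theorem rot_RR : ∀ y ∈ RR S, S.ck 2 y ∈ RR S := by
  have h0 : ∀ a ∈ S.Zc 0, S.rot ^ (2 : ℤ) * a * (S.rot ^ (2 : ℤ))⁻¹ ∈ RR S := by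
    rintro _ ⟨v, rfl⟩
    rw [S.rotk_e]
    exact Z2_RR S ⟨v, rfl⟩
  have h2 : ∀ a ∈ S.Zc 2, S.rot ^ (2 : ℤ) * a * (S.rot ^ (2 : ℤ))⁻¹ ∈ RR S := by
    rintro _ ⟨v, rfl⟩
    rw [S.rotk_e]
    exact Z4_RR S ⟨v, rfl⟩
  have h4 : ∀ a ∈ S.Zc 4, S.rot ^ (2 : ℤ) * a * (S.rot ^ (2 : ℤ))⁻¹ ∈ RR S := by
    rintro _ ⟨v, rfl⟩
    rw [S.rotk_e]
    exact Z6_RR S ⟨v, rfl⟩
  have h6 : ∀ a ∈ S.Zc 6, S.rot ^ (2 : ℤ) * a * (S.rot ^ (2 : ℤ))⁻¹ ∈ RR S := by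
    rintro _ ⟨v, rfl⟩
    rw [S.rotk_e]
    exact Z0_RR S ⟨v, rfl⟩
  exact conj_sup (conj_sup (conj_sup h0 h2) h4) h6

theorem rot_RR' : ∀ y ∈ RR S, S.ck (-2) y ∈ RR S := by
  have h0 : ∀ a ∈ S.Zc 0, S.rot ^ (-2 : ℤ) * a * (S.rot ^ (-2 : ℤ))⁻¹ ∈ RR S := by
    rintro _ ⟨v, rfl⟩
    rw [S.rotk_e]
    exact Z6_RR S ⟨v, rfl⟩
  have h2 : ∀ a ∈ S.Zc 2, S.rot ^ (-2 : ℤ) * a * (S.rot ^ (-2 : ℤ))⁻¹ ∈ RR S := by
    rintro _ ⟨v, rfl⟩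
    rw [S.rotk_e]
    exact Z0_RR S ⟨v, rfl⟩
  have h4 : ∀ a ∈ S.Zc 4, S.rot ^ (-2 : ℤ) * a * (S.rot ^ (-2 : ℤ))⁻¹ ∈ RR S := by
    rintro _ ⟨v, rfl⟩
    rw [S.rotk_e]
    exact Z2_RR S ⟨v, rfl⟩
  have h6 : ∀ a ∈ S.Zc 6, S.rot ^ (-2 : ℤ) * a * (S.rot ^ (-2 : ℤ))⁻¹ ∈ RR S := by
    rintro _ ⟨v, rfl⟩
    rw [S.rotk_e]
    exact Z4_RR S ⟨v, rfl⟩
  exact conj_sup (conj_sup (conj_sup h0 h2) h4) h6

/-- rotation of the invariance -/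
theorem conj_step {k : ℤ} (h : ∀ x ∈ S.XZ k, ∀ y ∈ RR S, x * y * x⁻¹ ∈ RR S) :
    ∀ x ∈ S.XZ (k + 4), ∀ y ∈ RR S, x * y * x⁻¹ ∈ RR S := by
  intro x hx y hy
  have h1 := S.rotk_X' (-2) _ hx
  rw [show k + 4 + 2 * -2 = k by ring] at h1
  have h2 := rot_RR S _ (h _ h1 _ (rot_RR' S y hy))
  rw [S.ck_apply, S.ck_apply] at h2
  have e : S.rot ^ (2 : ℤ) * (S.rot ^ (-2 : ℤ) * x * (S.rot ^ (-2 : ℤ))⁻¹ * (S.rot ^ (-2 : ℤ) * y * (S.rot ^ (-2 : ℤ))⁻¹) *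
      (S.rot ^ (-2 : ℤ) * x * (S.rot ^ (-2 : ℤ))⁻¹)⁻¹) * (S.rot ^ (2 : ℤ))⁻¹ = x * y * x⁻¹ := by group
  rwa [e] at h2

theorem conj_X4_RR {x : G} (hx : x ∈ S.XZ 4) : ∀ y ∈ RR S, x * y * x⁻¹ ∈ RR S :=
  conj_step S (k := 0) (fun x hx => conj_X0_RR S hx) x (by simpa using hx)

theorem conj_X8_RR {x : G} (hx : x ∈ S.XZ 8) : ∀ y ∈ RR S, x * y * x⁻¹ ∈ RR S :=
  conj_step S (k := 4) (fun x hx => conj_X4_RR S hx) x (by norm_num; exact hx)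

theorem conj_X12_RR {x : G} (hx : x ∈ S.XZ 12) : ∀ y ∈ RR S, x * y * x⁻¹ ∈ RR S :=
  conj_step S (k := 8) (fun x hx => conj_X8_RR S hx) x (by norm_num; exact hx)

theorem conj_T_RR {t : G} (ht : t ∈ S.T) : ∀ y ∈ RR S, t * y * t⁻¹ ∈ RR S :=
  conj_sup (conj_sup (conj_sup (fun _ ha => Z0_RR S (S.T_conj_Zc ht ha)) (fun _ ha => Z2_RR S (S.T_conj_Zc ht ha)))
    (fun _ ha => Z4_RR S (S.T_conj_Zc ht ha))) (fun _ ha => Z6_RR S (S.T_conj_Zc ht ha))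

theorem le_norm_of {L R : Subgroup G} (h : ∀ x ∈ L, ∀ y ∈ R, x * y * x⁻¹ ∈ R) : L ≤ normalizer (R : Set G) := by
  intro x hx
  rw [mem_normalizer_iff]
  intro y
  refine ⟨fun hy => h x hx y hy, fun hy => ?_⟩
  have h1 := h x⁻¹ (inv_mem hx) _ hy
  have e : x⁻¹ * (x * y * x⁻¹) * x⁻¹⁻¹ = y := by group
  rwa [e] at h1

/-! ### (1) -/

theorem X0_le : S.XZ 0 ≤ normalizer (RR S : Set G) := le_norm_of fun _ hx => conj_X0_RR S hx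
theorem X4_le : S.XZ 4 ≤ normalizer (RR S : Set G) := le_norm_of fun _ hx => conj_X4_RR S hx
theorem X8_le : S.XZ 8 ≤ normalizer (RR S : Set G) := le_norm_of fun _ hx => conj_X8_RR S hx
theorem X12_le : S.XZ 12 ≤ normalizer (RR S : Set G) := le_norm_of fun _ hx => conj_X12_RR S hx
theorem T_le : S.T ≤ normalizer (RR S : Set G) := le_norm_of fun _ hx => conj_T_RR S hx

/-! ### The conjugates of `Z_4` -/

theorem cj_Zc_rot (k : ℤ) (a : ZMod 8) : cj (S.rot ^ k) (S.Zc a) = S.Zc (a + k) := S.map_Zc k a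

theorem cj_Zc_n2 (a : ZMod 8) : cj S.n2 (S.Zc a) = S.Zc (4 - a) := by
  have hi : S.n2⁻¹ = S.n2 := inv_eq_of_mul_eq_one_left S.n2_sq
  ext x
  rw [mem_cj, hi]
  constructor
  · rintro ⟨u, hu⟩
    refine ⟨u, ?_⟩
    rw [← S.n2_e, hu, hi]
    calc S.n2 * (S.n2 * x * S.n2) * S.n2 = (S.n2 * S.n2) * x * (S.n2 * S.n2) := by group
      _ = x := by rw [S.n2_sq]; group
  · rintro ⟨u, rfl⟩
    refine ⟨u, ?_⟩
    have := S.n2_e (4 - a) 0 u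
    rw [hi, sub_sub_cancel] at this
    exact this.symm

theorem cj_Zc_PL {y : G} (hy : y ∈ S.PL) : cj y (S.Zc 2) = S.Zc 2 := by
  refine cj_eq_of (fun x hx => ?_) fun x hx => ?_
  · rw [S.comm_PL hy hx, mul_inv_cancel_right]
    exact hx
  · rw [mul_assoc, ← S.comm_PL hy hx, inv_mul_cancel_left]
    exact hx

/-- the form of a conjugate of `Z_4` -/
theorem form (g : G) : ∃ x ∈ S.XZ 8, ∃ y ∈ J S.XZ 1 7, ∃ a : ZMod 8, cj g (S.Zc 2) = cj x (cj y (S.Zc a)) := by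
  obtain ⟨b, hb, t, ht, w, ⟨c, hc | hc⟩, b', hb', rfl⟩ := S.bruhatE g
  · obtain ⟨v, hv⟩ : ∃ v, v = w * S.rot ^ (-c) := ⟨_, rfl⟩
    have hwT : v ∈ S.T := by
      rw [hv, S.T_iff]
      exact (hc.mul (S.rot_maps (-c))).congr fun k => by
        show ((2 * c : ℤ) : ZMod (2 * 8)) + (((2 * -c : ℤ) : ZMod (2 * 8)) + k) = id k
        push_cast
        simp only [id]
        ring
    obtain ⟨x, hx, y, hy, rfl⟩ := S.zsys8.split_rl (a := 1) (b := 8) (by norm_num) (by norm_num) hb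
    refine ⟨x, hx, y, hy, 2 + c, ?_⟩
    have e : x * y * t * w * b' = x * (y * (t * (v * (S.rot ^ c * b')))) := by rw [hv]; group
    rw [e, cj_mul, cj_mul, cj_mul, cj_mul, cj_mul, cj_Zc_PL S (J_mono (by norm_num) le_rfl hb'), cj_Zc_rot,
      cj_T_Zc S hwT, cj_T_Zc S ht]
  · obtain ⟨v, hv⟩ : ∃ v, v = w * (S.n2 * S.rot ^ (4 - c)) := ⟨_, rfl⟩
    have hwT : v ∈ S.T := by
      rw [hv, S.T_iff]
      exact (hc.mul (S.n2_maps.mul (S.rot_maps (4 - c)))).congr fun k => by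
        show ((2 * c : ℤ) : ZMod (2 * 8)) - (8 - (((2 * (4 - c) : ℤ) : ZMod (2 * 8)) + k)) = id k
        push_cast
        simp only [id]
        ring
    obtain ⟨x, hx, y, hy, rfl⟩ := S.zsys8.split_rl (a := 1) (b := 8) (by norm_num) (by norm_num) hb
    have hi : S.n2⁻¹ = S.n2 := inv_eq_of_mul_eq_one_left S.n2_sq
    refine ⟨x, hx, y, hy, 2 + ((-(4 - c) : ℤ) : ZMod 8), ?_⟩
    have e : x * y * t * w * b' = x * (y * (t * (v * (S.rot ^ (-(4 - c)) * (S.n2 * b'))))) := by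
      rw [hv]
      nth_rewrite 2 [← hi]
      group
    rw [e, cj_mul, cj_mul, cj_mul, cj_mul, cj_mul, cj_mul, cj_Zc_PL S (J_mono (by norm_num) le_rfl hb'), cj_Zc_n2,
      show (4 - 2 : ZMod 8) = 2 by decide, cj_Zc_rot, cj_T_Zc S hwT, cj_T_Zc S ht]

theorem X4_sq {q : G} (hq : q ∈ S.XZ 4) (h2 : q * q = 1) : q ∈ S.Zc 2 := by
  obtain ⟨p, u, rfl⟩ := (S.mem_XZ_even 2 q).1 hq
  rw [S.e_mul, char2 S, char2 S, zero_add] at h2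
  have h3 := (S.e_eq_one h2).2
  have hp : p = 0 := by
    rcases mul_eq_zero.1 h3 with h4 | h4
    · exact h4
    · exact (map_eq_zero σ).1 h4
  subst hp
  exact ⟨u, rfl⟩

theorem n2_J17 {y : G} (hy : y ∈ J S.XZ 1 7) : S.n2 * y * S.n2⁻¹ ∈ J S.XZ 1 7 :=
  S.n2_refl.mem_J hy (by norm_num) (by norm_num)

/-- an element of the torus in `⟨Z_0, Z_8⟩` -/
theorem exists_h (hF : ∃ c : Fˣ, c ≠ 1) : ∃ t ∈ S.Tk 4, t ≠ 1 ∧ t ∈ S.Zc 0 ⊔ S.Zc 4 := by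
  obtain ⟨c, hc⟩ := hF
  set t0 := S.h c (Units.map (σ : F →* F) c) with ht0
  have ht0T : t0 ∈ S.T := S.mem_T.2 ⟨_, _, rfl⟩
  have hn2 : S.n2 ∈ S.Zc 0 ⊔ S.Zc 4 := by
    rw [n2_word' S]
    refine conj_X0 S ((mem_X0 S).2 ⟨1, 0, rfl⟩) _ (mem_sup_right ⟨_, rfl⟩)
  have h1 : t0 * S.n2 * t0⁻¹ ∈ S.Zc 0 ⊔ S.Zc 4 :=
    conj_sup (fun a ha => mem_sup_left (S.T_conj_Zc ht0T ha)) (fun a ha => mem_sup_right (S.T_conj_Zc ht0T ha)) _ hn2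
  have h2 := mul_mem h1 (inv_mem hn2)
  have e1 : t0 * S.n2 * t0⁻¹ * S.n2⁻¹ = t0 * (S.n2 * t0⁻¹ * S.n2⁻¹) := by group
  rw [e1, ht0, S.h_inv, S.n2_h, S.h_mul, inv_inv] at h2
  have e2 : (Units.map (σ : F →* F) c)⁻¹ / Units.map (σ : F →* F) c⁻¹ = 1 := by rw [map_inv, div_self']
  rw [e2, mul_one] at h2
  refine ⟨S.h (c * c) (Units.map (σ : F →* F) c), mem_inf.mpr ⟨S.mem_T.2 ⟨_, _, rfl⟩, ?_⟩, ?_, h2⟩
  · have hle : S.Zc 0 ⊔ S.Zc 4 ≤ centralizer (S.XZ 4 : Set G) := by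
      refine sup_le ?_ ?_
      · rintro _ ⟨v, rfl⟩
        refine mem_centralizer_iff.2 fun x hx => ?_
        obtain ⟨p, u, rfl⟩ := (S.mem_XZ_even 2 x).1 hx
        have h := S.e_e2 0 0 v p u
        rw [show (0 : ZMod 8) + 2 = 2 by decide] at h
        exact h.symm
      · rintro _ ⟨v, rfl⟩
        refine mem_centralizer_iff.2 fun x hx => ?_
        obtain ⟨p, u, rfl⟩ := (S.mem_XZ_even 2 x).1 hx
        have h := S.e_e2 2 p u 0 v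
        rw [show (2 : ZMod 8) + 2 = 4 by decide] at h
        exact h
    exact hle h2
  · intro h
    have h3 := (S.h_inj _ _ _ _ (h.trans S.h_one.symm)).1
    exact hc (unit_sq S h3)

/-- an element of the torus in `⟨Z_4, Z_12⟩` -/
theorem exists_h' (hF : ∃ c : Fˣ, c ≠ 1) : ∃ t ∈ S.Tk 8, t ≠ 1 ∧ t ∈ S.Zc 2 ⊔ S.Zc 6 := by
  obtain ⟨t, ht, ht1, htA⟩ := exists_h S hF
  refine ⟨S.ck 2 t, ?_, ?_, ?_⟩
  · have := S.ck_Tk 2 ht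
    norm_num at this
    exact this
  · intro h
    exact ht1 ((map_eq_one_iff (S.ck 2) (S.ck 2).injective).1 h)
  · have h1 : S.Zc 0 ⊔ S.Zc 4 ≤ (S.Zc 2 ⊔ S.Zc 6).comap (S.ck 2).toMonoidHom := by
      refine sup_le ?_ ?_
      · rintro _ ⟨v, rfl⟩
        refine mem_sup_left ?_
        show S.ck 2 (S.e 0 0 v) ∈ S.Zc 2
        rw [S.ck_e]
        exact ⟨v, rfl⟩
      · rintro _ ⟨v, rfl⟩
        refine mem_sup_right ?_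
        show S.ck 2 (S.e 4 0 v) ∈ S.Zc 6
        rw [S.ck_e]
        exact ⟨v, rfl⟩
    exact h1 htA

theorem y_comm {y z : G} (hy : y ∈ J S.XZ 1 7) (hz : z ∈ S.Zc 2) : y * z * y⁻¹ = z := by
  rw [S.comm_PL (J_mono (by norm_num) (by norm_num) hy) hz, mul_inv_cancel_right]

namespace Hyp

variable {S} {K : Subgroup G} (h : Hyp S K)
include h

section Cases

variable [Finite F] [Finite G] (hF : ∃ c : Fˣ, c ≠ 1) (hR : S.R.p = 2)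
include hF hR

theorem no_near {y z : G} (hy : y ∈ J S.XZ 1 7) (hz7 : z ∈ J S.XZ 1 7) (hz2 : z * z = 1) (hz4 : z ∉ S.XZ 4)
    (hK : y * z * y⁻¹ ∈ K) : False := by
  have h1 := h.inf_Q hF hR (mul_mem (mul_mem hy hz7) (inv_mem hy)) hK
  have h2 : y * z * y⁻¹ * (y * z * y⁻¹) = 1 := by
    have e : y * z * y⁻¹ * (y * z * y⁻¹) = y * (z * z) * y⁻¹ := by group
    rw [e, hz2]; group
  have h3 := X4_sq S h1 h2
  have h4 := y_comm S (inv_mem hy) h3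
  have e : y⁻¹ * (y * z * y⁻¹) * y⁻¹⁻¹ = z := by group
  rw [e] at h4
  apply hz4
  rw [h4]
  exact h1

theorem no_seven {y : G} (hy : y ∈ J S.XZ 1 7) (hK : ∀ z ∈ S.Zc 7, y * z * y⁻¹ ∈ K) : False := by
  set V := ⁅S.Zc 7, S.Zc 2⁆ with hV
  have hVT : ∀ t ∈ S.T, ∀ v ∈ V, t * v * t⁻¹ ∈ V := by
    intro t ht
    have h1 : V ≤ V.comap (MulAut.conj t).toMonoidHom := by
      rw [hV, commutator_le]
      intro a ha b hb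
      show (MulAut.conj t) ⁅a, b⁆ ∈ (⁅S.Zc 7, S.Zc 2⁆ : Subgroup G)
      rw [map_commutatorElement]
      exact commutator_mem_commutator (S.T_conj_Zc ht ha) (S.T_conj_Zc ht hb)
    exact fun v hv => h1 hv
  have hVK : ∀ v ∈ V, y * v * y⁻¹ ∈ K := by
    have h1 : V ≤ K.comap (MulAut.conj y).toMonoidHom := by
      rw [hV, commutator_le]
      intro a ha b hb
      have hb' : y * b * y⁻¹ ∈ K := by
        rw [y_comm S hy hb]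
        obtain ⟨v, rfl⟩ := hb
        exact h.e2 0 v
      show (MulAut.conj y) ⁅a, b⁆ ∈ K
      rw [map_commutatorElement, commutatorElement_def]
      exact mul_mem (mul_mem (mul_mem (hK a ha) hb') (inv_mem (hK a ha))) (inv_mem hb')
    exact fun v hv => h1 hv
  have hrel := S.e_e3 7 0 1 0 1
  rw [show (7 : ZMod 8) + 3 = 2 by decide, show (7 : ZMod 8) + 1 = 0 by decide,
    show (7 : ZMod 8) + 2 = 1 by decide] at hrel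
  simp only [map_one, map_zero, mul_zero, mul_one, add_zero, zero_add, S.o_zero] at hrel
  have hm : S.e 0 0 1 * (S.o 0 1 * S.e 1 0 1) ∈ V := by
    have h1 : ⁅(S.e 7 0 1)⁻¹, (S.e 2 0 1)⁻¹⁆ ∈ V :=
      commutator_mem_commutator (inv_mem ⟨1, rfl⟩) (inv_mem ⟨1, rfl⟩)
    have e : ⁅(S.e 7 0 1)⁻¹, (S.e 2 0 1)⁻¹⁆ = (S.e 2 0 1 * S.e 7 0 1)⁻¹ * (S.e 7 0 1 * S.e 2 0 1) := by
      rw [commutatorElement_def]; group
    rw [e, hrel] at h1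
    have e2 : (S.e 2 0 1 * S.e 7 0 1)⁻¹ * (S.e 2 0 1 * S.e 7 0 1 * S.e 0 0 1 * S.o 0 1 * S.e 1 0 1) =
        S.e 0 0 1 * (S.o 0 1 * S.e 1 0 1) := by group
    rwa [e2] at h1
  have hX0 : S.e 0 0 1 ∈ S.XZ 0 := (mem_X0 S).2 ⟨0, 1, rfl⟩
  have hX1 : S.o 0 1 ∈ S.XZ 1 := (mem_X1 S).2 ⟨1, rfl⟩
  have hX2 : S.e 1 0 1 ∈ S.XZ 2 := by have := S.e_mem 1 0 1; push_cast at this; exact this
  have h1 := peel_left S hF hR (a := 0) (b := 2) (by norm_num) (by norm_num) hVT hX0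
    (mul_mem (mem_J hX1 (by norm_num) (by norm_num)) (mem_J hX2 (by norm_num) (by norm_num))) hm
  have h2 : S.o 0 1 * S.e 1 0 1 ∈ V := (mul_mem_cancel_left h1).1 hm
  have h3 := peel_left S hF hR (a := 1) (b := 2) (by norm_num) (by norm_num) hVT hX1
    (mem_J hX2 (by norm_num) (by norm_num)) h2
  have h4 := hVK _ h3
  have h5 := h.inf_Q hF hR (mul_mem (mul_mem hy (mem_J hX1 (by norm_num) (by norm_num))) (inv_mem hy)) h4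
  obtain ⟨x1, hx1, y', hy', rfl⟩ := S.zsys8.split_ll (a := 1) (b := 7) (by norm_num) (by norm_num) hy
  have h6 := S.zsys8.comm_J_left' (c := 1) (a := 2) (b := 7) (by norm_num) (by norm_num) hy' hX1
  have h7 := S.zsys8.conj_X (a := 2) (b := 6) (k := 1) (by norm_num) (by norm_num) (by norm_num) hx1
    (by simpa using h6)
  have hc : x1 * S.o 0 1 * x1⁻¹ = S.o 0 1 := by
    obtain ⟨s, rfl⟩ := (mem_X1 S).1 hx1
    rw [S.o_add, add_comm, ← S.o_add, mul_inv_cancel_right]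
  have h8 : S.o 0 1 = (x1 * ⁅y', S.o 0 1⁆ * x1⁻¹)⁻¹ * (x1 * y' * S.o 0 1 * (x1 * y')⁻¹) := by
    conv_lhs => rw [← hc]
    rw [commutatorElement_def]
    group
  have h9 : S.o 0 1 ∈ J S.XZ 2 8 := by
    rw [h8]
    exact mul_mem (inv_mem (J_mono le_rfl (by norm_num) h7)) (mem_J h5 (by norm_num) (by norm_num))
  exact one_ne_zero (S.o_eq_one (S.zsys8.inter 1 _ hX1 (by simpa using h9)))

theorem no_five {y : G} (hy : y ∈ J S.XZ 1 7) (hK : ∀ z ∈ S.Zc 5, y * z * y⁻¹ ∈ K) : False := by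
  refine h.no_seven hF hR (n2_J17 S hy) ?_
  rintro _ ⟨v, rfl⟩
  have h1 : S.e 7 0 v = S.n2 * S.e 5 0 v * S.n2⁻¹ := by
    rw [S.n2_e, show (4 - 5 : ZMod 8) = 7 by decide]
  have e : S.n2 * y * S.n2⁻¹ * S.e 7 0 v * (S.n2 * y * S.n2⁻¹)⁻¹ = S.n2 * (y * S.e 5 0 v * y⁻¹) * S.n2⁻¹ := by
    rw [h1]; group
  rw [e]
  exact mul_mem (mul_mem h.n2_mem (hK _ ⟨v, rfl⟩)) (inv_mem h.n2_mem)

/-- `y Z_12 y⁻¹ ≤ K` only for `y ∈ X_4` -/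
theorem six {y : G} (hy : y ∈ J S.XZ 1 7) (hK : ∀ z ∈ S.Zc 6, y * z * y⁻¹ ∈ K) : y ∈ S.XZ 4 := by
  obtain ⟨t, ht, ht1, htC⟩ := exists_h' S hF
  have htT := S.Tk_le _ ht
  have hle : S.Zc 2 ⊔ S.Zc 6 ≤ K.comap (MulAut.conj y).toMonoidHom := by
    refine sup_le ?_ hK
    intro z hz
    show y * z * y⁻¹ ∈ K
    rw [y_comm S hy hz]
    obtain ⟨v, rfl⟩ := hz
    exact h.e2 0 v
  have h1 : y * t * y⁻¹ ∈ K := hle htC
  have h2 : y * t * y⁻¹ * t⁻¹ ∈ K := mul_mem h1 (inv_mem (h.T htT))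
  have h3 : y * t * y⁻¹ * t⁻¹ ∈ J S.XZ 1 7 := by
    have e : y * t * y⁻¹ * t⁻¹ = y * (t * y⁻¹ * t⁻¹) := by group
    rw [e]
    exact mul_mem hy (S.T_conj_J htT (inv_mem hy))
  have h4 := h.inf_Q hF hR h3 h2
  -- a bijection of `X_4`
  let f : S.XZ 4 → S.XZ 4 := fun x => ⟨x * t * (x : G)⁻¹ * t⁻¹, by
    have e : (x : G) * t * (x : G)⁻¹ * t⁻¹ = x * (t * (x : G)⁻¹ * t⁻¹) := by group
    rw [e]
    exact mul_mem x.2 (S.T_conj htT 4 (inv_mem x.2))⟩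
  have hfpf : ∀ j : ℤ, 1 ≤ j → j ≤ 7 → ∀ x ∈ S.XZ j, t * x * t⁻¹ = x → x = 1 := fun j h1 h2 x hx hfix =>
    S.fpf (k := 8) (j := j) (by omega) ht ht1 hx hfix
  have hf : Function.Injective f := by
    intro a b hab
    have h5 : (a : G) * t * (a : G)⁻¹ * t⁻¹ = b * t * (b : G)⁻¹ * t⁻¹ := congrArg Subtype.val hab
    have h6 : t * ((b : G)⁻¹ * a) * t⁻¹ = (b : G)⁻¹ * a := by
      have h7 : (a : G) * t * (a : G)⁻¹ = b * t * (b : G)⁻¹ := mul_right_cancel h5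
      calc t * ((b : G)⁻¹ * a) * t⁻¹ = (b : G)⁻¹ * (b * t * (b : G)⁻¹) * a * t⁻¹ := by group
        _ = (b : G)⁻¹ * (a * t * (a : G)⁻¹) * a * t⁻¹ := by rw [h7]
        _ = _ := by group
    have h8 := hfpf 4 (by norm_num) (by norm_num) _ (mul_mem (inv_mem b.2) a.2) h6
    exact Subtype.ext (inv_mul_eq_one.1 h8).symm
  obtain ⟨⟨x, hx⟩, hxf⟩ := (Finite.injective_iff_surjective.1 hf) ⟨_, h4⟩
  have h5 : x * t * x⁻¹ * t⁻¹ = y * t * y⁻¹ * t⁻¹ := congrArg Subtype.val hxf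
  have h6 : t * (x⁻¹ * y) * t⁻¹ = x⁻¹ * y := by
    have h7 : x * t * x⁻¹ = y * t * y⁻¹ := mul_right_cancel h5
    calc t * (x⁻¹ * y) * t⁻¹ = x⁻¹ * (x * t * x⁻¹) * y * t⁻¹ := by group
      _ = x⁻¹ * (y * t * y⁻¹) * y * t⁻¹ := by rw [h7]
      _ = _ := by group
  have h7 := S.fix_J_one htT (a := 1) (b := 7) (by norm_num) hfpf
    (mul_mem (inv_mem (mem_J hx (by norm_num) (by norm_num))) hy) h6
  rw [inv_mul_eq_one.1 h7] at hx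
  exact hx

/-- `y Z_8 y⁻¹ ≤ K` only if `y` centralises `Z_8` -/
theorem four {y : G} (hy : y ∈ J S.XZ 1 7) (hK : ∀ z ∈ S.Zc 4, y * z * y⁻¹ ∈ K) : ∀ z ∈ S.Zc 4, y * z * y⁻¹ = z := by
  rintro _ ⟨u, rfl⟩
  have hz8 : S.e 4 0 u ∈ S.XZ 8 := (mem_X8 S).2 ⟨0, u, rfl⟩
  have hzK : S.e 4 0 u ∈ K := h.e4 0 u
  set z := S.e 4 0 u with hz
  have hzz : z * z = 1 := z_sq S 4 u
  set q := z⁻¹ * (y * z * y⁻¹) with hq
  have hqK : q ∈ K := mul_mem (inv_mem hzK) (hK _ ⟨u, rfl⟩)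
  have hqJ : q ∈ J S.XZ 1 7 := by
    have e : q = (z⁻¹ * y * z⁻¹⁻¹) * y⁻¹ := by rw [hq]; group
    rw [e]
    exact mul_mem (S.zsys8.conj_X (a := 1) (b := 7) (k := 8) (by norm_num) (by norm_num) (by norm_num)
      (inv_mem hz8) hy) (inv_mem hy)
  have hq4 := h.inf_Q hF hR hqJ hqK
  have hcomm : z * q = q * z := by
    obtain ⟨p, v, hpv⟩ := (S.mem_XZ_even 2 q).1 hq4
    rw [← hpv, hz]
    have h := S.e_e2 2 p v 0 u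
    rw [show (2 : ZMod 8) + 2 = 4 by decide] at h
    exact h.symm
  have hyz : y * z * y⁻¹ = z * q := by rw [hq]; group
  have hqq : q * q = 1 := by
    have h1 : (z * q) * (z * q) = 1 := by
      rw [← hyz]
      have e : y * z * y⁻¹ * (y * z * y⁻¹) = y * (z * z) * y⁻¹ := by group
      rw [e, hzz]; group
    have h2 : (z * q) * (z * q) = (z * z) * (q * q) := by
      calc (z * q) * (z * q) = z * (q * z) * q := by group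
        _ = z * (z * q) * q := by rw [hcomm]
        _ = _ := by group
    rw [h2, hzz, one_mul] at h1
    exact h1
  obtain ⟨v, hv⟩ := X4_sq S hq4 hqq
  by_cases hu : u = 0
  · subst hu
    rw [hz, S.e_zero]; group
  by_cases hv0 : v = 0
  · subst hv0
    rw [hyz, ← hv, S.e_zero, mul_one]
  exfalso
  obtain ⟨w, hw⟩ := TorEx.exists_pw S (e := ((2, 1) : ℤ × ℤ)) (by decide) (Units.mk0 v hv0 / Units.mk0 u hu)
  have hwv : (w : F) * w * σ w * u = v := by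
    have h1 := congrArg Units.val hw
    rw [Units.val_div_eq_div_val] at h1
    have h2 : ((TorEx.pw σ w ((2, 1) : ℤ × ℤ) : Fˣ) : F) = (w : F) * w * σ w := by
      unfold TorEx.pw
      rw [Units.val_mul]
      show ((w ^ (2 : ℤ) : Fˣ) : F) * (((Units.map (σ : F →* F) w) ^ (1 : ℤ) : Fˣ) : F) = _
      rw [zpow_one, show ((2 : ℤ)) = ((2 : ℕ) : ℤ) by rfl, zpow_natCast, pow_two, Units.val_mul]
      rfl
    rw [h2] at h1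
    rw [h1]
    show v / u * u = v
    exact div_mul_cancel₀ _ hu
  have hcj : Cj (S.o 3 (w * u)) (z * q) := by
    have := zz_conj S (p := (w : F)) (v := u) w.ne_zero hu
    rwa [hwv, hv, ← hz] at this
  obtain ⟨k, hk⟩ := hcj
  -- `o 3 ~ o 2`, `e 4 ~ e 2`
  have h1 : S.rot ^ (-2 : ℤ) * S.e 4 0 u * (S.rot ^ (-2 : ℤ))⁻¹ = S.e 2 0 u := by
    rw [S.rotk_e, show (4 : ZMod 8) + ((-2 : ℤ) : ZMod 8) = 2 by decide]
  have h2 : S.rot ^ (-1 : ℤ) * S.o 3 (w * u) * (S.rot ^ (-1 : ℤ))⁻¹ = S.o 2 (w * u) := by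
    rw [S.rotk_o, show (3 : ZMod 8) + ((-1 : ℤ) : ZMod 8) = 2 by decide]
  refine S.not_conj (z := S.e 2 0 u) ⟨u, rfl⟩ (s := w * u) (mul_ne_zero w.ne_zero hu)
    (S.rot ^ (-1 : ℤ) * k⁻¹ * y * (S.rot ^ (-2 : ℤ))⁻¹) ?_
  rw [← h1, ← h2]
  have h3 : k⁻¹ * (y * z * y⁻¹) * k = S.o 3 (w * u) := by
    rw [hyz, ← hk]; group
  rw [← h3, hz]
  group

theorem zero {y : G} (hy : y ∈ J S.XZ 1 7) (hK : ∀ z ∈ S.Zc 0, y * z * y⁻¹ ∈ K) : ∀ z ∈ S.Zc 0, y * z * y⁻¹ = z := by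
  have h1 : ∀ z ∈ S.Zc 4, (S.n2 * y * S.n2⁻¹) * z * (S.n2 * y * S.n2⁻¹)⁻¹ = z := by
    refine h.four hF hR (n2_J17 S hy) ?_
    rintro _ ⟨v, rfl⟩
    have h1 : S.e 4 0 v = S.n2 * S.e 0 0 v * S.n2⁻¹ := by rw [S.n2_e, sub_zero]
    have e : S.n2 * y * S.n2⁻¹ * S.e 4 0 v * (S.n2 * y * S.n2⁻¹)⁻¹ = S.n2 * (y * S.e 0 0 v * y⁻¹) * S.n2⁻¹ := by
      rw [h1]; group
    rw [e]
    exact mul_mem (mul_mem h.n2_mem (hK _ ⟨v, rfl⟩)) (inv_mem h.n2_mem)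
  rintro _ ⟨v, rfl⟩
  have h2 := h1 (S.e 4 0 v) ⟨v, rfl⟩
  have h3 : S.e 4 0 v = S.n2 * S.e 0 0 v * S.n2⁻¹ := by rw [S.n2_e, sub_zero]
  rw [h3] at h2
  have e : S.n2 * y * S.n2⁻¹ * (S.n2 * S.e 0 0 v * S.n2⁻¹) * (S.n2 * y * S.n2⁻¹)⁻¹ =
      S.n2 * (y * S.e 0 0 v * y⁻¹) * S.n2⁻¹ := by group
  rw [e] at h2
  exact mul_left_cancel (mul_right_cancel h2)

end Cases

end Hyp

end Cfsg.Agent.H823.TwFSz
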