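import Mathlib
import Cfsg.Agent.H823.TwFSzB
import Cfsg.Agent.H392.TwFFour.Card

/-!
# The normaliser of `Sz(q) × Sz(q)` in `²F₄(q)`, `q ≥ 8`, III (helper823, task 1433)

* `Hyp.cases` : the conjugates of `Z_4` contained in `K`; `cls`;
* `le_norm`, `coatom`, `no_sylow`.
-/

set_option autoImplicit false
set_option linter.unusedSectionVars false

namespace Cfsg.Agent.H823.TwFSz

open Subgroup
open scoped commutatorElement
open Cfsg.Agent.KFacts.TwF4 Cfsg.Agent.KFacts.TwF4.Full Cfsg.Agent.KFacts.TwF4.Arc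
open Cfsg.Agent.KFacts.TwF4.Inv Cfsg.Agent.KFacts.TwF4.SylU Cfsg.Agent.KFacts.TwF4.Perf
open Cfsg.Agent.KFacts.TwF4.Irr
open Cfsg.Agent.SplitTwo Cfsg.Agent.SplitTwo.ZS Cfsg.Agent.TitsThree.RankTwoZ
open Cfsg.Agent.SplitTwo.RootSysZ
open Cfsg.Agent.H99.CL2F4 (nn nn_e e2_word eight eq_top_of_ZO cj_eq_of cj_T_Zc cj_e_Zc odd_order)
open Cfsg.Agent.H939.KLat (cj mem_cj conj_mem_cj cj_mul cj_cj_inv cj_inv_cj cj_mono cj_one)

universe u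

variable {F : Type*} [Field F] {σ : F →+* F} {G : Type u} [Group G] (S : Full σ G)

/-! ### commutation at 90 degrees -/

theorem cj_eq_of_comm {x : G} {A : Subgroup G} (h : ∀ z ∈ A, x * z = z * x) : cj x A = A := by
  refine cj_eq_of (fun z hz => ?_) fun z hz => ?_
  · rw [h z hz, mul_inv_cancel_right]
    exact hz
  · rw [mul_assoc, ← h z hz, inv_mul_cancel_left]
    exact hz

theorem X8_Z4 {x : G} (hx : x ∈ S.XZ 8) : cj x (S.Zc 4) = S.Zc 4 := by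
  obtain ⟨p, u, rfl⟩ := (mem_X8 S).1 hx
  exact cj_e_Zc S 4 p u

theorem X8_Z2 {x : G} (hx : x ∈ S.XZ 8) : cj x (S.Zc 2) = S.Zc 2 :=
  cj_Zc_PL S (mem_J hx (by norm_num) (by norm_num))

theorem X8_Z6 {x : G} (hx : x ∈ S.XZ 8) : cj x (S.Zc 6) = S.Zc 6 := by
  obtain ⟨p, u, rfl⟩ := (mem_X8 S).1 hx
  refine cj_eq_of_comm ?_
  rintro _ ⟨v, rfl⟩
  have h := S.e_e2 4 p u 0 v
  rwa [show (4 : ZMod 8) + 2 = 6 by decide] at h

theorem X8_X4 {x y : G} (hx : x ∈ S.XZ 8) (hy : y ∈ S.XZ 4) : x * y = y * x := by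
  obtain ⟨p, u, rfl⟩ := (mem_X8 S).1 hx
  obtain ⟨p', u', rfl⟩ := (S.mem_XZ_even 2 y).1 hy
  have h := S.e_e2 2 p' u' p u
  rw [show (2 : ZMod 8) + 2 = 4 by decide] at h
  exact h.symm

theorem X4_Z2 {x : G} (hx : x ∈ S.XZ 4) : cj x (S.Zc 2) = S.Zc 2 :=
  cj_Zc_PL S (mem_J hx (by norm_num) (by norm_num))

theorem X4_Z4 {x : G} (hx : x ∈ S.XZ 4) : cj x (S.Zc 4) = S.Zc 4 := by
  refine cj_eq_of_comm ?_
  rintro _ ⟨v, rfl⟩
  exact (X8_X4 S ((mem_X8 S).2 ⟨0, v, rfl⟩) hx).symm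

theorem X4_Z0 {x : G} (hx : x ∈ S.XZ 4) : cj x (S.Zc 0) = S.Zc 0 := by
  obtain ⟨p, u, rfl⟩ := (S.mem_XZ_even 2 x).1 hx
  refine cj_eq_of_comm ?_
  rintro _ ⟨v, rfl⟩
  have h := S.e_e2 0 0 v p u
  rw [show (0 : ZMod 8) + 2 = 2 by decide] at h
  exact h.symm

theorem Zc0_le : S.Zc 0 ≤ S.XZ 0 := by
  rintro _ ⟨u, rfl⟩
  exact (mem_X0 S).2 ⟨0, u, rfl⟩

theorem Zc2_le : S.Zc 2 ≤ S.XZ 4 := by
  rintro _ ⟨u, rfl⟩
  exact (S.mem_XZ_even 2 _).2 ⟨0, u, rfl⟩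

theorem Zc4_le : S.Zc 4 ≤ S.XZ 8 := by
  rintro _ ⟨u, rfl⟩
  exact (mem_X8 S).2 ⟨0, u, rfl⟩

theorem Zc6_le : S.Zc 6 ≤ S.XZ 12 := by
  rintro _ ⟨u, rfl⟩
  exact (S.mem_XZ_even 6 _).2 ⟨0, u, rfl⟩

theorem cj_le_RR {x : G} (hx : ∀ y ∈ RR S, x * y * x⁻¹ ∈ RR S) {A : Subgroup G} (hA : A ≤ RR S) :
    cj x A ≤ RR S := by
  rintro _ ⟨a, ha, rfl⟩
  exact hx a (hA ha)

namespace Hyp

variable {S} {K : Subgroup G} (h : Hyp S K)
include h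

section Cases

variable [Finite F] [Finite G] (hF : ∃ c : Fˣ, c ≠ 1) (hR : S.R.p = 2)
include hF hR

/-- the conjugates of `Z_4` contained in `K` -/
theorem cases {g : G} (hg : ∀ z ∈ S.Zc 2, g * z * g⁻¹ ∈ K) :
    cj g (S.Zc 2) = S.Zc 2 ∨ cj g (S.Zc 2) = S.Zc 4 ∨ (∃ x ∈ S.XZ 8, cj g (S.Zc 2) = cj x (S.Zc 0)) ∨
      ∃ x ∈ S.XZ 4, cj g (S.Zc 2) = cj x (S.Zc 6) := by
  obtain ⟨x, hx, y, hy, a, hf⟩ := form S g
  have hyK : ∀ z ∈ S.Zc a, y * z * y⁻¹ ∈ K := by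
    intro z hz
    have h1 : x * (y * z * y⁻¹) * x⁻¹ ∈ cj g (S.Zc 2) := by
      rw [hf]
      exact conj_mem_cj (conj_mem_cj hz)
    have h2 : x * (y * z * y⁻¹) * x⁻¹ ∈ K := by
      have h3 := hg _ (mem_cj.1 h1)
      have e : g * (g⁻¹ * (x * (y * z * y⁻¹) * x⁻¹) * g) * g⁻¹ = x * (y * z * y⁻¹) * x⁻¹ := by group
      rwa [e] at h3
    have h3 := mul_mem (mul_mem (inv_mem (h.X8 hx)) h2) (h.X8 hx)
    have e : x⁻¹ * (x * (y * z * y⁻¹) * x⁻¹) * x = y * z * y⁻¹ := by group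
    rwa [e] at h3
  rcases eight a with rfl | rfl | rfl | rfl | rfl | rfl | rfl | rfl
  · right; right; left
    refine ⟨x, hx, ?_⟩
    have h1 := h.zero hF hR hy hyK
    rw [hf, cj_eq_of_comm fun z hz => mul_inv_eq_iff_eq_mul.1 (h1 z hz)]
  · exfalso
    have hz : S.e 1 0 1 ∈ S.XZ 2 := by have := S.e_mem 1 0 1; push_cast at this; exact this
    refine h.no_near hF hR hy (mem_J hz (by norm_num) (by norm_num)) (z_sq S 1 1) (fun h4 => ?_) (hyK _ ⟨1, rfl⟩)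
    exact one_ne_zero (S.e_eq_one (S.zsys8.inter 2 _ hz (mem_J h4 (by norm_num) (by norm_num)))).2
  · left
    rw [hf, cj_Zc_PL S (J_mono (by norm_num) (by norm_num) hy), X8_Z2 S hx]
  · exfalso
    have hz : S.e 3 0 1 ∈ S.XZ 6 := by have := S.e_mem 3 0 1; push_cast at this; exact this
    refine h.no_near hF hR hy (mem_J hz (by norm_num) (by norm_num)) (z_sq S 3 1) (fun h4 => ?_) (hyK _ ⟨1, rfl⟩)
    exact one_ne_zero (S.e_eq_one (S.zsys8.inter 4 _ h4 (mem_J hz (by norm_num) (by norm_num)))).2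
  · right; left
    have h1 := h.four hF hR hy hyK
    rw [hf, cj_eq_of_comm fun z hz => mul_inv_eq_iff_eq_mul.1 (h1 z hz), X8_Z4 S hx]
  · exact (h.no_five hF hR hy hyK).elim
  · right; right; right
    have hy4 := h.six hF hR hy hyK
    refine ⟨y, hy4, ?_⟩
    rw [hf, ← cj_mul, X8_X4 S hx hy4, cj_mul, X8_Z6 S hx]
  · exact (h.no_seven hF hR hy hyK).elim

/-- the conjugates of `Z_4` in `K` -/
theorem cls' {g : G} (hg : ∀ z ∈ S.Zc 2, g * z * g⁻¹ ∈ K) :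
    ∃ k ∈ K, ∃ a : ZMod 8, (a = 0 ∨ a = 2 ∨ a = 4 ∨ a = 6) ∧ cj g (S.Zc 2) = cj k (S.Zc a) ∧
      cj g (S.Zc 2) ≤ RR S := by
  rcases h.cases hF hR hg with h1 | h1 | ⟨x, hx, h1⟩ | ⟨x, hx, h1⟩
  · refine ⟨1, one_mem _, 2, by decide, by rw [h1, cj_one], ?_⟩
    rw [h1]
    exact Z2_RR S
  · refine ⟨1, one_mem _, 4, by decide, by rw [h1, cj_one], ?_⟩
    rw [h1]
    exact Z4_RR S
  · refine ⟨x, h.X8 hx, 0, by decide, h1, ?_⟩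
    rw [h1]
    exact cj_le_RR S (conj_X8_RR S hx) (Z0_RR S)
  · refine ⟨x, h.X4 hx, 6, by decide, h1, ?_⟩
    rw [h1]
    exact cj_le_RR S (conj_X4_RR S hx) (Z6_RR S)

omit [Finite F] [Finite G] hF hR in
theorem Zc_le {a : ZMod 8} (ha : a = 0 ∨ a = 2 ∨ a = 4 ∨ a = 6) : S.Zc a ≤ K := by
  rcases ha with rfl | rfl | rfl | rfl
  · exact (Zc0_le S).trans h.X0
  · exact (Zc2_le S).trans h.X4
  · exact (Zc4_le S).trans h.X8
  · exact (Zc6_le S).trans h.X12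

/-- (3) -/
theorem le_norm : K ≤ normalizer (RR S : Set G) := by
  refine le_norm_of fun k hk => ?_
  have key : ∀ a : ZMod 8, (a = 0 ∨ a = 2 ∨ a = 4 ∨ a = 6) → ∀ z ∈ S.Zc a, k * z * k⁻¹ ∈ RR S := by
    intro a ha z hz
    obtain ⟨c, hc⟩ : ∃ c : ℤ, 2 + (c : ZMod 8) = a := by
      rcases ha with rfl | rfl | rfl | rfl
      · exact ⟨-2, by decide⟩
      · exact ⟨0, by decide⟩
      · exact ⟨2, by decide⟩
      · exact ⟨4, by decide⟩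
    have h1 : cj (k * S.rot ^ c) (S.Zc 2) = cj k (S.Zc a) := by
      rw [cj_mul, cj_Zc_rot, hc]
    obtain ⟨k', hk', a', ha', h2, h3⟩ := h.cls' hF hR (g := k * S.rot ^ c) (fun z hz => by
      have h4 : k * S.rot ^ c * z * (k * S.rot ^ c)⁻¹ ∈ cj k (S.Zc a) := by
        rw [← h1]
        exact conj_mem_cj hz
      have h5 := mul_mem (mul_mem hk (h.Zc_le ha (mem_cj.1 h4))) (inv_mem hk)
      have e : k * (k⁻¹ * (k * S.rot ^ c * z * (k * S.rot ^ c)⁻¹) * k) * k⁻¹ =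
          k * S.rot ^ c * z * (k * S.rot ^ c)⁻¹ := by group
      rwa [e] at h5)
    apply h3
    rw [h1]
    exact conj_mem_cj hz
  exact conj_sup (conj_sup (conj_sup (key 0 (by decide)) (key 2 (by decide))) (key 4 (by decide))) (key 6 (by decide))

omit [Finite F] [Finite G] hF hR in
theorem RR_le : RR S ≤ K :=
  sup_le (sup_le (sup_le (h.Zc_le (by decide)) (h.Zc_le (by decide))) (h.Zc_le (by decide))) (h.Zc_le (by decide))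

end Cases

end Hyp

/-! ### (2), (3), (4) -/

section Main

variable [Finite F] [Finite G]

/-- `Z_0 ∩ X_8 = 1` -/
theorem Z0_X8 {z : G} (h0 : z ∈ S.Zc 0) (h8 : z ∈ S.XZ 8) : z = 1 :=
  (S.J07_inf_UT (Zc0_le S h0) (mem_J h8 (by norm_num) le_rfl) (one_mem _) (mul_one z).symm).1

/-- `Z_0` and `Z_8` do not commute -/
theorem not_comm (hR : S.R.p = 2) (h : ∀ x ∈ S.Zc 4, ∀ y ∈ S.Zc 0, x * y = y * x) : False := by
  have hx1 : S.e 4 0 1 ≠ 1 := fun h => one_ne_zero (S.e_eq_one h).2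
  have hy1 : S.e 0 0 1 ≠ 1 := fun h => one_ne_zero (S.e_eq_one h).2
  have hx : S.e 4 0 1 ∈ S.Zc 4 := ⟨1, rfl⟩
  have hy : S.e 0 0 1 ∈ S.Zc 0 := ⟨1, rfl⟩
  have hodd := odd_order hR hx hy hx1 hy1
  have h2 : (S.e 4 0 1 * S.e 0 0 1) ^ 2 = 1 := by
    calc (S.e 4 0 1 * S.e 0 0 1) ^ 2 = S.e 4 0 1 * (S.e 0 0 1 * S.e 4 0 1) * S.e 0 0 1 := by
          rw [pow_two]; simp only [mul_assoc]
      _ = S.e 4 0 1 * (S.e 4 0 1 * S.e 0 0 1) * S.e 0 0 1 := by rw [h _ hx _ hy]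
      _ = (S.e 4 0 1 * S.e 4 0 1) * (S.e 0 0 1 * S.e 0 0 1) := by simp only [mul_assoc]
      _ = 1 := by rw [z_sq, z_sq, one_mul]
  have h3 : orderOf (S.e 4 0 1 * S.e 0 0 1) ∣ 2 := orderOf_dvd_of_pow_eq_one h2
  have h4 : orderOf (S.e 4 0 1 * S.e 0 0 1) = 1 := by
    rcases (Nat.dvd_prime Nat.prime_two).1 h3 with h4 | h4
    · exact h4
    · rw [h4] at hodd
      exact absurd hodd (by decide)
  rw [orderOf_eq_one_iff] at h4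
  apply hy1
  refine Z0_X8 S hy ?_
  rw [← inv_eq_of_mul_eq_one_right h4]
  exact inv_mem (Zc4_le S hx)

/-- `N(RR)` is proper -/
theorem norm_ne_top (hF : ∃ c : Fˣ, c ≠ 1) (hR : S.R.p = 2) : normalizer (RR S : Set G) ≠ ⊤ := by
  intro htop
  have hn : ∀ g : G, ∀ y ∈ RR S, g * y * g⁻¹ ∈ RR S := fun g y hy =>
    (mem_normalizer_iff.1 (by rw [htop]; exact mem_top g : g ∈ normalizer (RR S : Set G)) y).1 hy
  -- `RR = ⊤`
  have hz : ∀ (a : ZMod 8) (u : F), S.e a 0 u ∈ RR S := by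
    intro a u
    obtain ⟨c, hc⟩ := ZMod.intCast_surjective a
    have h1 := hn (S.rot ^ c) _ (Z0_RR S ⟨u, rfl⟩ : S.e 0 0 u ∈ RR S)
    rwa [S.rotk_e, zero_add, hc] at h1
  have hrel := S.e_e3 7 0 1 0 1
  rw [show (7 : ZMod 8) + 3 = 2 by decide, show (7 : ZMod 8) + 1 = 0 by decide,
    show (7 : ZMod 8) + 2 = 1 by decide] at hrel
  simp only [map_one, map_zero, mul_zero, mul_one, add_zero, zero_add, S.o_zero] at hrel
  have ho0 : S.o 0 1 ∈ RR S := by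
    have e : S.o 0 1 = (S.e 2 0 1 * S.e 7 0 1 * S.e 0 0 1)⁻¹ * (S.e 7 0 1 * S.e 2 0 1) * (S.e 1 0 1)⁻¹ := by
      rw [hrel]; group
    rw [e]
    exact mul_mem (mul_mem (inv_mem (mul_mem (mul_mem (hz _ _) (hz _ _)) (hz _ _))) (mul_mem (hz _ _) (hz _ _)))
      (inv_mem (hz _ _))
  have ho : ∀ (a : ZMod 8) (t : F), S.o a t ∈ RR S := by
    intro a t
    have h1 : S.o 0 t ∈ RR S := by
      by_cases ht : t = 0
      · rw [ht, S.o_zero]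
        exact one_mem _
      · obtain ⟨g, -, e⟩ := trans_o S 0 one_ne_zero ht
        rw [← e]
        exact hn g _ ho0
    obtain ⟨c, hc⟩ := ZMod.intCast_surjective a
    have h2 := hn (S.rot ^ c) _ h1
    rwa [S.rotk_o, zero_add, hc] at h2
  have hRR : RR S = ⊤ := eq_top_of_ZO S hF ho hz
  -- `A = ⟨Z_0, Z_8⟩`, `C = ⟨Z_4, Z_12⟩`
  have comm02 : ∀ x ∈ S.Zc 0, ∀ y ∈ S.Zc 2, x * y = y * x := by
    rintro _ ⟨u, rfl⟩ _ ⟨v, rfl⟩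
    have h := S.e_e2 0 0 u 0 v
    rwa [show (0 : ZMod 8) + 2 = 2 by decide] at h
  have comm24 : ∀ x ∈ S.Zc 2, ∀ y ∈ S.Zc 4, x * y = y * x := by
    rintro _ ⟨u, rfl⟩ _ ⟨v, rfl⟩
    have h := S.e_e2 2 0 u 0 v
    rwa [show (2 : ZMod 8) + 2 = 4 by decide] at h
  have comm46 : ∀ x ∈ S.Zc 4, ∀ y ∈ S.Zc 6, x * y = y * x := by
    rintro _ ⟨u, rfl⟩ _ ⟨v, rfl⟩
    have h := S.e_e2 4 0 u 0 v
    rwa [show (4 : ZMod 8) + 2 = 6 by decide] at h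
  have comm60 : ∀ x ∈ S.Zc 6, ∀ y ∈ S.Zc 0, x * y = y * x := by
    rintro _ ⟨u, rfl⟩ _ ⟨v, rfl⟩
    have h := S.e_e2 6 0 u 0 v
    rwa [show (6 : ZMod 8) + 2 = 0 by decide] at h
  have hAC : ∀ a ∈ S.Zc 0 ⊔ S.Zc 4, ∀ c ∈ S.Zc 2 ⊔ S.Zc 6, a * c = c * a := by
    have h1 : S.Zc 2 ⊔ S.Zc 6 ≤ centralizer ((S.Zc 0 ⊔ S.Zc 4 : Subgroup G) : Set G) := by
      rw [le_centralizer_iff]
      refine sup_le ?_ ?_
      · intro x hx
        rw [mem_centralizer_iff]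
        have h2 : S.Zc 2 ⊔ S.Zc 6 ≤ centralizer {x} := by
          refine sup_le ?_ ?_
          · intro y hy
            rw [mem_centralizer_singleton_iff]
            exact (comm02 x hx y hy).symm
          · intro y hy
            rw [mem_centralizer_singleton_iff]
            exact comm60 y hy x hx
        intro y hy
        exact mem_centralizer_singleton_iff.1 (h2 hy)
      · intro x hx
        rw [mem_centralizer_iff]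
        have h2 : S.Zc 2 ⊔ S.Zc 6 ≤ centralizer {x} := by
          refine sup_le ?_ ?_
          · intro y hy
            rw [mem_centralizer_singleton_iff]
            exact comm24 y hy x hx
          · intro y hy
            rw [mem_centralizer_singleton_iff]
            exact (comm46 x hx y hy).symm
        intro y hy
        exact mem_centralizer_singleton_iff.1 (h2 hy)
    intro a ha c hc
    exact mem_centralizer_iff.1 (h1 hc) a ha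
  -- `A` is normal
  have hAn : ∀ g : G, ∀ y ∈ S.Zc 0 ⊔ S.Zc 4, g * y * g⁻¹ ∈ S.Zc 0 ⊔ S.Zc 4 := by
    have h1 : RR S ≤ normalizer ((S.Zc 0 ⊔ S.Zc 4 : Subgroup G) : Set G) := by
      have hA : S.Zc 0 ⊔ S.Zc 4 ≤ normalizer ((S.Zc 0 ⊔ S.Zc 4 : Subgroup G) : Set G) := le_normalizer
      have hC : S.Zc 2 ⊔ S.Zc 6 ≤ normalizer ((S.Zc 0 ⊔ S.Zc 4 : Subgroup G) : Set G) := by
        refine le_norm_of fun c hc y hy => ?_
        rw [← hAC y hy c hc, mul_inv_cancel_right]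
        exact hy
      exact sup_le (sup_le (sup_le (le_sup_left.trans hA) (le_sup_left.trans hC)) (le_sup_right.trans hA))
        (le_sup_right.trans hC)
    intro g y hy
    exact (mem_normalizer_iff.1 (h1 (by rw [hRR]; exact mem_top g)) y).1 hy
  refine not_comm S hR ?_
  rintro _ ⟨u, rfl⟩ _ ⟨v, rfl⟩
  have h6 : S.e 6 0 u ∈ S.Zc 0 ⊔ S.Zc 4 := by
    have h1 := hAn (S.rot ^ (2 : ℤ)) (S.e 4 0 u) (mem_sup_right ⟨u, rfl⟩)
    rwa [S.rotk_e, show (4 : ZMod 8) + ((2 : ℤ) : ZMod 8) = 6 by decide] at h1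
  have h7 := hAC _ h6 (S.e 2 0 v) (mem_sup_left ⟨v, rfl⟩)
  have h8 : S.rot ^ (2 : ℤ) * (S.e 4 0 u * S.e 0 0 v) * (S.rot ^ (2 : ℤ))⁻¹ =
      S.rot ^ (2 : ℤ) * (S.e 0 0 v * S.e 4 0 u) * (S.rot ^ (2 : ℤ))⁻¹ := by
    have e1 : S.rot ^ (2 : ℤ) * (S.e 4 0 u * S.e 0 0 v) * (S.rot ^ (2 : ℤ))⁻¹ =
        (S.rot ^ (2 : ℤ) * S.e 4 0 u * (S.rot ^ (2 : ℤ))⁻¹) * (S.rot ^ (2 : ℤ) * S.e 0 0 v * (S.rot ^ (2 : ℤ))⁻¹) := by
      group
    have e2 : S.rot ^ (2 : ℤ) * (S.e 0 0 v * S.e 4 0 u) * (S.rot ^ (2 : ℤ))⁻¹ =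
        (S.rot ^ (2 : ℤ) * S.e 0 0 v * (S.rot ^ (2 : ℤ))⁻¹) * (S.rot ^ (2 : ℤ) * S.e 4 0 u * (S.rot ^ (2 : ℤ))⁻¹) := by
      group
    rw [e1, e2, S.rotk_e, S.rotk_e, show (4 : ZMod 8) + ((2 : ℤ) : ZMod 8) = 6 by decide,
      show (0 : ZMod 8) + ((2 : ℤ) : ZMod 8) = 2 by decide]
    exact h7
  exact mul_left_cancel (mul_right_cancel h8)

/-- `N(RR)` satisfies the hypotheses -/
theorem hyp_norm (hF : ∃ c : Fˣ, c ≠ 1) (hR : S.R.p = 2) : Hyp S (normalizer (RR S : Set G)) :=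
  ⟨X0_le S, X4_le S, X8_le S, X12_le S, T_le S, norm_ne_top S hF hR⟩

/-- (2) -/
theorem cls (hF : ∃ c : Fˣ, c ≠ 1) (hR : S.R.p = 2) {K : Subgroup G} (h0 : S.XZ 0 ≤ K) (h4 : S.XZ 4 ≤ K)
    (h8 : S.XZ 8 ≤ K) (h12 : S.XZ 12 ≤ K) (hT : S.T ≤ K) (hK : K ≠ ⊤) (g : G)
    (hg : ∀ x ∈ S.Zc 2, g * x * g⁻¹ ∈ K) :
    ∃ k ∈ K, ∃ a : ZMod 8, (a = 0 ∨ a = 2 ∨ a = 4 ∨ a = 6) ∧
      (S.Zc 2).map (MulAut.conj g).toMonoidHom = (S.Zc a).map (MulAut.conj k).toMonoidHom ∧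
      (S.Zc 2).map (MulAut.conj g).toMonoidHom ≤ RR S :=
  (Hyp.mk h0 h4 h8 h12 hT hK).cls' hF hR hg

/-- (3) -/
theorem le_norm (hF : ∃ c : Fˣ, c ≠ 1) (hR : S.R.p = 2) {K : Subgroup G} (h0 : S.XZ 0 ≤ K) (h4 : S.XZ 4 ≤ K)
    (h8 : S.XZ 8 ≤ K) (h12 : S.XZ 12 ≤ K) (hT : S.T ≤ K) (hK : K ≠ ⊤) : K ≤ normalizer (RR S : Set G) :=
  (Hyp.mk h0 h4 h8 h12 hT hK).le_norm hF hR

/-- (3) -/
theorem coatom (hF : ∃ c : Fˣ, c ≠ 1) (hR : S.R.p = 2) : IsCoatom (normalizer (RR S : Set G)) := by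
  refine ⟨norm_ne_top S hF hR, fun K hK => ?_⟩
  by_contra hne
  have h := le_norm S hF hR ((X0_le S).trans hK.le) ((X4_le S).trans hK.le) ((X8_le S).trans hK.le)
    ((X12_le S).trans hK.le) ((T_le S).trans hK.le) hne
  exact absurd (lt_of_lt_of_le hK h) (lt_irrefl _)

/-- (4) -/
theorem no_sylow (hF : ∃ c : Fˣ, c ≠ 1) (hR : S.R.p = 2) (g : G) :
    ¬ ((J S.XZ 1 8).map (MulAut.conj g).toMonoidHom ≤ normalizer (RR S : Set G)) := by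
  intro hle
  have hH := hyp_norm S hF hR
  set K := normalizer (RR S : Set G) with hK
  obtain ⟨k, hk, a, ha, h1, -⟩ := hH.cls' hF hR (g := g) (fun z hz =>
    hle (conj_mem_cj (mem_J (Zc2_le S hz) (by norm_num) (by norm_num))))
  obtain ⟨c, hc⟩ : ∃ c : ℤ, (2 : ZMod 8) + (2 * c : ℤ) = a := by
    rcases ha with rfl | rfl | rfl | rfl
    · exact ⟨-1, by decide⟩
    · exact ⟨0, by decide⟩
    · exact ⟨1, by decide⟩
    · exact ⟨2, by decide⟩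
  obtain ⟨r, hr⟩ : ∃ r, r = S.rot ^ (2 * c) := ⟨_, rfl⟩
  -- `v = r⁻¹ k⁻¹ g` normalises `Z_4`
  have h2 : cj (r⁻¹ * k⁻¹ * g) (S.Zc 2) = S.Zc 2 := by
    rw [cj_mul, cj_mul, h1, cj_cj_inv, ← hc, ← cj_Zc_rot S (2 * c) 2, ← hr, cj_cj_inv]
  have hz : S.e 2 0 1 ∈ S.Zc 2 := ⟨1, rfl⟩
  have hz1 : S.e 2 0 1 ≠ 1 := fun h => one_ne_zero (S.e_eq_one h).2
  have h3 : (r⁻¹ * k⁻¹ * g) * S.e 2 0 1 * (r⁻¹ * k⁻¹ * g)⁻¹ ∈ S.Zc 2 := by
    have h4 : (r⁻¹ * k⁻¹ * g) * S.e 2 0 1 * (r⁻¹ * k⁻¹ * g)⁻¹ ∈ cj (r⁻¹ * k⁻¹ * g) (S.Zc 2) := conj_mem_cj hz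
    rwa [h2] at h4
  obtain ⟨y, hy, t, ht, hyt⟩ := S.mem_of_conj hz hz1 h3
  -- `X_3` conjugated by `r`
  obtain ⟨x, hx, hx1⟩ := S.zsys8.exists_ne 3
  have hx' : (y * t)⁻¹ * x * (y * t) ∈ J S.XZ 1 7 := by
    have h4 : x ∈ J S.XZ 1 7 := mem_J hx (by norm_num) (by norm_num)
    have h5 := Q_norm S (inv_mem hy) h4
    have h6 : t⁻¹ * (y⁻¹ * x * y⁻¹⁻¹) * t⁻¹⁻¹ ∈ J S.XZ 1 7 := S.T_conj_J (inv_mem ht) h5
    have e : t⁻¹ * (y⁻¹ * x * y⁻¹⁻¹) * t⁻¹⁻¹ = (y * t)⁻¹ * x * (y * t) := by group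
    rwa [e] at h6
  have h7 : g * ((y * t)⁻¹ * x * (y * t)) * g⁻¹ ∈ K :=
    hle (conj_mem_cj (J_mono le_rfl (by norm_num) hx'))
  have h8 : g * ((y * t)⁻¹ * x * (y * t)) * g⁻¹ = k * (r * x * r⁻¹) * k⁻¹ := by
    rw [← hyt]; group
  rw [h8] at h7
  have h9 : r * x * r⁻¹ ∈ K := by
    have h10 := mul_mem (mul_mem (inv_mem hk) h7) hk
    have e : k⁻¹ * (k * (r * x * r⁻¹) * k⁻¹) * k = r * x * r⁻¹ := by group
    rwa [e] at h10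
  have h10 : r * x * r⁻¹ ∈ S.XZ (3 + 2 * (2 * c)) := by
    rw [hr]
    exact S.rotk_X' (2 * c) 3 hx
  have h11 := hH.inf_one hF hR (k := 3 + 2 * (2 * c)) (by omega) h10 h9
  apply hx1
  rw [mul_inv_eq_one, mul_eq_left] at h11
  exact h11

end Main

end Cfsg.Agent.H823.TwFSz
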