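import Mathlib
import Cfsg.Agent.H823.TwFSzC

/-!
# The normaliser of `Sz(q) × Sz(q)` in `²F₄(q)`, `q ≥ 8`, IV (helper823, task 1433)

* `card_Om` : `N(RR)` contains exactly `2 (q² + 1)` conjugates of `Z_4`;
* `not_dvd_of`, `not_dvd`, `not_dvd_three` : prime numbers not dividing `|N(RR)|`.
-/

set_option autoImplicit false
set_option linter.unusedSectionVars false

namespace Cfsg.Agent.H823.TwFSz

open Subgroup
open scoped commutatorElement
open Cfsg.Agent.KFacts.TwF4 Cfsg.Agent.KFacts.TwF4.Full Cfsg.Agent.KFacts.TwF4.Arc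
open Cfsg.Agent.KFacts.TwF4.Inv Cfsg.Agent.KFacts.TwF4.SylU Cfsg.Agent.KFacts.TwF4.Perf
open Cfsg.Agent.KFacts.TwF4.Irr
open Cfsg.Agent.SplitTwo Cfsg.Agent.SplitTwo.ZS Cfsg.Agent.TitsThree.RankTwoZ
open Cfsg.Agent.SplitTwo.RootSysZ
open Cfsg.Agent.H99.CL2F4 (nn nn_e e2_word eight eq_top_of_ZO cj_eq_of cj_T_Zc cj_e_Zc odd_order)
open Cfsg.Agent.H939.KLat (cj mem_cj conj_mem_cj cj_mul cj_cj_inv cj_inv_cj cj_mono cj_one)

universe u

variable {F : Type*} [Field F] {σ : F →+* F} {G : Type u} [Group G] (S : Full σ G)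

variable [Finite F] [Finite G]

/-! ### The groups `Z_{2a}` are distinct -/

theorem Zc_near {c : ℤ} (h1 : 1 ≤ c) (h2 : c ≤ 3) (h : S.Zc 0 = S.Zc (c : ZMod 8)) : False := by
  have h3 : S.e 0 0 1 ∈ S.Zc 0 := ⟨1, rfl⟩
  have h4 : S.e 0 0 1 ∈ S.Zc (c : ZMod 8) := by rw [← h]; exact h3
  obtain ⟨v, hv⟩ := h4
  have h5 : S.e 0 0 1 ∈ S.XZ (2 * c) := by
    rw [← hv]
    exact S.e_mem c 0 v
  exact one_ne_zero (S.e_eq_one (S.zsys8.inter 0 _ (Zc0_le S h3) (mem_J h5 (by omega) (by omega)))).2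

theorem Zc_ne0 {c : ZMod 8} (h : S.Zc 0 = S.Zc c) : c = 0 := by
  have hrot : ∀ (k : ℤ) (a b : ZMod 8), S.Zc a = S.Zc b → S.Zc (a + k) = S.Zc (b + k) := by
    intro k a b hab
    rw [← cj_Zc_rot, ← cj_Zc_rot, hab]
  rcases eight c with rfl | rfl | rfl | rfl | rfl | rfl | rfl | rfl
  · rfl
  · exact (Zc_near S (c := 1) (by norm_num) (by norm_num) (by push_cast; exact h)).elim
  · exact (Zc_near S (c := 2) (by norm_num) (by norm_num) (by push_cast; exact h)).elim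
  · exact (Zc_near S (c := 3) (by norm_num) (by norm_num) (by push_cast; exact h)).elim
  · exfalso
    have h3 : S.e 0 0 1 ∈ S.Zc 0 := ⟨1, rfl⟩
    have h4 : S.e 0 0 1 ∈ S.Zc 4 := by rw [← h]; exact h3
    exact one_ne_zero (S.e_eq_one (Z0_X8 S h3 (Zc4_le S h4))).2
  · exfalso
    have h1 := hrot 3 _ _ h
    rw [show (0 : ZMod 8) + ((3 : ℤ) : ZMod 8) = ((3 : ℤ) : ZMod 8) by decide,
      show (5 : ZMod 8) + ((3 : ℤ) : ZMod 8) = 0 by decide] at h1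
    exact Zc_near S (c := 3) (by norm_num) (by norm_num) h1.symm
  · exfalso
    have h1 := hrot 2 _ _ h
    rw [show (0 : ZMod 8) + ((2 : ℤ) : ZMod 8) = ((2 : ℤ) : ZMod 8) by decide,
      show (6 : ZMod 8) + ((2 : ℤ) : ZMod 8) = 0 by decide] at h1
    exact Zc_near S (c := 2) (by norm_num) (by norm_num) h1.symm
  · exfalso
    have h1 := hrot 1 _ _ h
    rw [show (0 : ZMod 8) + ((1 : ℤ) : ZMod 8) = ((1 : ℤ) : ZMod 8) by decide,
      show (7 : ZMod 8) + ((1 : ℤ) : ZMod 8) = 0 by decide] at h1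
    exact Zc_near S (c := 1) (by norm_num) (by norm_num) h1.symm

theorem Zc_inj {a b : ZMod 8} (h : S.Zc a = S.Zc b) : a = b := by
  obtain ⟨c, hc⟩ := ZMod.intCast_surjective (-a)
  have h1 : S.Zc 0 = S.Zc (b + (c : ZMod 8)) := by
    rw [← cj_Zc_rot, ← h, cj_Zc_rot, hc, add_neg_cancel]
  have h2 := Zc_ne0 S h1
  rw [hc] at h2
  exact (add_neg_eq_zero.1 h2).symm

/-! ### Normalisers -/

theorem norm_Z8 (hR : S.R.p = 2) {x : G} (hx : x ∈ S.Zc 4) (h : cj x (S.Zc 0) = S.Zc 0) : x = 1 := by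
  by_contra hx1
  have hy : S.e 0 0 1 ∈ S.Zc 0 := ⟨1, rfl⟩
  have hy1 : S.e 0 0 1 ≠ 1 := fun h => one_ne_zero (S.e_eq_one h).2
  have hodd := odd_order hR hx hy hx1 hy1
  have hxx : x * x = 1 := by
    obtain ⟨u, rfl⟩ := hx
    exact z_sq S 4 u
  have h2 : x * S.e 0 0 1 * x⁻¹ ∈ S.Zc 0 := by
    have h3 : x * S.e 0 0 1 * x⁻¹ ∈ cj x (S.Zc 0) := conj_mem_cj hy
    rwa [h] at h3
  have h3 : (x * S.e 0 0 1) ^ 2 ∈ S.Zc 0 := by
    have e : (x * S.e 0 0 1) ^ 2 = (x * S.e 0 0 1 * x⁻¹) * (x * x) * S.e 0 0 1 := by rw [pow_two]; group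
    rw [e, hxx, mul_one]
    exact mul_mem h2 hy
  have h4 : (x * S.e 0 0 1) ^ 4 = 1 := by
    obtain ⟨v, hv⟩ := h3
    calc (x * S.e 0 0 1) ^ 4 = (x * S.e 0 0 1) ^ 2 * (x * S.e 0 0 1) ^ 2 := by rw [← pow_add]
      _ = 1 := by rw [← hv, z_sq]
  have h5 : orderOf (x * S.e 0 0 1) ∣ 2 ^ 2 := orderOf_dvd_of_pow_eq_one h4
  have h6 : orderOf (x * S.e 0 0 1) = 1 :=
    Nat.Coprime.eq_one_of_dvd (Nat.Coprime.pow_right 2 hodd.coprime_two_right) h5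
  rw [orderOf_eq_one_iff] at h6
  apply hy1
  refine Z0_X8 S hy ?_
  rw [← inv_eq_of_mul_eq_one_right h6]
  exact inv_mem (Zc4_le S hx)

theorem norm_X8 (hR : S.R.p = 2) {x : G} (hx : x ∈ S.XZ 8) (h : cj x (S.Zc 0) = S.Zc 0) : x = 1 := by
  obtain ⟨p, u, rfl⟩ := (mem_X8 S).1 hx
  have h2 : cj (S.e 4 p u * S.e 4 p u) (S.Zc 0) = S.Zc 0 := by rw [cj_mul, h, h]
  rw [S.e_mul, char2 S, char2 S, zero_add] at h2
  have h3 := norm_Z8 S hR ⟨_, rfl⟩ h2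
  have hp : p = 0 := by
    rcases mul_eq_zero.1 (S.e_eq_one h3).2 with h4 | h4
    · exact h4
    · exact (map_eq_zero σ).1 h4
  subst hp
  exact norm_Z8 S hR ⟨u, rfl⟩ h

theorem norm_X4 (hR : S.R.p = 2) {x : G} (hx : x ∈ S.XZ 4) (h : cj x (S.Zc 6) = S.Zc 6) : x = 1 := by
  have h1 := S.rotk_X' 2 4 hx
  rw [show (4 : ℤ) + 2 * 2 = 8 by norm_num] at h1
  have h2 : cj (S.rot ^ (2 : ℤ)) (S.Zc 6) = S.Zc 0 := by
    rw [cj_Zc_rot, show (6 : ZMod 8) + ((2 : ℤ) : ZMod 8) = 0 by decide]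
  have h3 : cj (S.rot ^ (2 : ℤ) * x * (S.rot ^ (2 : ℤ))⁻¹) (S.Zc 0) = S.Zc 0 := by
    rw [cj_mul, cj_mul, ← h2, cj_cj_inv, h]
  have h4 := norm_X8 S hR h1 h3
  rw [mul_inv_eq_one, mul_eq_left] at h4
  exact h4

/-! ### Counting -/

/-- the conjugates of `Z_4` in `N(RR)` -/
abbrev Om : Type u := {A : Subgroup G // (∃ g, A = cj g (S.Zc 2)) ∧ A ≤ normalizer (RR S : Set G)}

/-- the list of the conjugates -/
def val : (S.XZ 8 ⊕ S.XZ 4) ⊕ Bool → Subgroup G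
  | Sum.inl (Sum.inl x) => cj (x : G) (S.Zc 0)
  | Sum.inl (Sum.inr x) => cj (x : G) (S.Zc 6)
  | Sum.inr true => S.Zc 2
  | Sum.inr false => S.Zc 4

theorem val_mem (w : (S.XZ 8 ⊕ S.XZ 4) ⊕ Bool) :
    (∃ g, val S w = cj g (S.Zc 2)) ∧ val S w ≤ normalizer (RR S : Set G) := by
  have hle : RR S ≤ normalizer (RR S : Set G) := le_normalizer
  rcases w with (x | x) | (_ | _)
  · refine ⟨⟨(x : G) * S.rot ^ (-2 : ℤ), ?_⟩, (cj_le_RR S (conj_X8_RR S x.2) (Z0_RR S)).trans hle⟩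
    rw [cj_mul, cj_Zc_rot, show (2 : ZMod 8) + ((-2 : ℤ) : ZMod 8) = 0 by decide]
    rfl
  · refine ⟨⟨(x : G) * S.rot ^ (4 : ℤ), ?_⟩, (cj_le_RR S (conj_X4_RR S x.2) (Z6_RR S)).trans hle⟩
    rw [cj_mul, cj_Zc_rot, show (2 : ZMod 8) + ((4 : ℤ) : ZMod 8) = 6 by decide]
    rfl
  · refine ⟨⟨S.rot ^ (2 : ℤ), ?_⟩, (Z4_RR S).trans hle⟩
    rw [cj_Zc_rot, show (2 : ZMod 8) + ((2 : ℤ) : ZMod 8) = 4 by decide]
    rfl
  · refine ⟨⟨1, ?_⟩, (Z2_RR S).trans hle⟩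
    rw [cj_one]
    rfl

theorem cj_inj {g : G} {A B : Subgroup G} (h : cj g A = cj g B) : A = B := by
  rw [← cj_cj_inv g A, h, cj_cj_inv]

theorem val_inj (hR : S.R.p = 2) : Function.Injective (val S) := by
  -- the mixed cases
  have m1 : ∀ (x : S.XZ 8) (a : ZMod 8), (a = 2 ∨ a = 4) → cj (x : G) (S.Zc 0) = S.Zc a → False := by
    intro x a ha h
    have h1 : cj (x : G) (S.Zc a) = S.Zc a := by
      rcases ha with rfl | rfl
      · exact X8_Z2 S x.2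
      · exact X8_Z4 S x.2
    have h2 := Zc_inj S (cj_inj (h.trans h1.symm))
    rcases ha with rfl | rfl <;> exact absurd h2 (by decide)
  have m2 : ∀ (x : S.XZ 4) (a : ZMod 8), (a = 2 ∨ a = 4) → cj (x : G) (S.Zc 6) = S.Zc a → False := by
    intro x a ha h
    have h1 : cj (x : G) (S.Zc a) = S.Zc a := by
      rcases ha with rfl | rfl
      · exact X4_Z2 S x.2
      · exact X4_Z4 S x.2
    have h2 := Zc_inj S (cj_inj (h.trans h1.symm))
    rcases ha with rfl | rfl <;> exact absurd h2 (by decide)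
  have m3 : ∀ (x : S.XZ 8) (y : S.XZ 4), cj (x : G) (S.Zc 0) = cj (y : G) (S.Zc 6) → False := by
    intro x y h
    have h1 : cj (y : G) (S.Zc 6) = cj (x : G) (cj (y : G) (S.Zc 6)) := by
      rw [← cj_mul, X8_X4 S x.2 y.2, cj_mul, X8_Z6 S x.2]
    have h2 := cj_inj (h.trans h1)
    have h3 := cj_inj ((X4_Z0 S y.2).trans h2)
    exact absurd (Zc_inj S h3) (by decide)
  have m4 : S.Zc 2 ≠ S.Zc 4 := fun h => absurd (Zc_inj S h) (by decide)
  rintro ((x | x) | (_ | _)) ((y | y) | (_ | _)) hxy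
  · have h1 : cj (x : G) (S.Zc 0) = cj (y : G) (S.Zc 0) := hxy
    have h2 : cj ((y : G)⁻¹ * x) (S.Zc 0) = S.Zc 0 := by rw [cj_mul, h1, cj_cj_inv]
    have h3 := norm_X8 S hR (mul_mem (inv_mem y.2) x.2) h2
    rw [inv_mul_eq_one] at h3
    rw [Subtype.ext h3]
  · exact (m3 x y hxy).elim
  · exact (m1 x 4 (by decide) hxy).elim
  · exact (m1 x 2 (by decide) hxy).elim
  · exact (m3 y x hxy.symm).elim
  · have h1 : cj (x : G) (S.Zc 6) = cj (y : G) (S.Zc 6) := hxy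
    have h2 : cj ((y : G)⁻¹ * x) (S.Zc 6) = S.Zc 6 := by rw [cj_mul, h1, cj_cj_inv]
    have h3 := norm_X4 S hR (mul_mem (inv_mem y.2) x.2) h2
    rw [inv_mul_eq_one] at h3
    rw [Subtype.ext h3]
  · exact (m2 x 4 (by decide) hxy).elim
  · exact (m2 x 2 (by decide) hxy).elim
  · exact (m1 y 4 (by decide) hxy.symm).elim
  · exact (m2 y 4 (by decide) hxy.symm).elim
  · rfl
  · exact (m4 hxy.symm).elim
  · exact (m1 y 2 (by decide) hxy.symm).elim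
  · exact (m2 y 2 (by decide) hxy.symm).elim
  · exact (m4 hxy).elim
  · rfl

/-- `N(RR)` contains `2 (q² + 1)` conjugates of `Z_4` -/
theorem card_Om (hF : ∃ c : Fˣ, c ≠ 1) (hR : S.R.p = 2) : Nat.card (Om S) = 2 * Nat.card F ^ 2 + 2 := by
  have h8 := H392.TwFFour.card_even S 4
  have h4 := H392.TwFFour.card_even S 2
  norm_num at h8 h4
  have h1 : Nat.card ((S.XZ 8 ⊕ S.XZ 4) ⊕ Bool) = 2 * Nat.card F ^ 2 + 2 := by
    have hb : Nat.card Bool = 2 := by rw [Nat.card_eq_fintype_card, Fintype.card_bool]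
    rw [Nat.card_sum, Nat.card_sum, h8, h4, hb]
    ring
  rw [← h1]
  symm
  refine Nat.card_congr (Equiv.ofBijective (fun w => (⟨val S w, val_mem S w⟩ : Om S)) ⟨?_, ?_⟩)
  · intro w w' h
    exact val_inj S hR (congrArg Subtype.val h)
  · rintro ⟨A, ⟨g, rfl⟩, hle⟩
    rcases (hyp_norm S hF hR).cases hF hR (g := g) (fun z hz => hle (conj_mem_cj hz)) with
      h1 | h1 | ⟨x, hx, h1⟩ | ⟨x, hx, h1⟩
    · exact ⟨Sum.inr true, Subtype.ext h1.symm⟩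
    · exact ⟨Sum.inr false, Subtype.ext h1.symm⟩
    · exact ⟨Sum.inl (Sum.inl ⟨x, hx⟩), Subtype.ext h1.symm⟩
    · exact ⟨Sum.inl (Sum.inr ⟨x, hx⟩), Subtype.ext h1.symm⟩

/-- prime numbers not dividing `|N(RR)|` -/
theorem not_dvd_of (hF : ∃ c : Fˣ, c ≠ 1) (hR : S.R.p = 2) {u : ℕ} (hu : u.Prime)
    (h1 : ¬ u ∣ 2 * Nat.card F ^ 2 + 2)
    (h2 : ¬ u ∣ Nat.card F ^ 12 * (Nat.card F - 1) ^ 2 * (Nat.card F ^ 2 + 1)) :
    ¬ u ∣ Nat.card (normalizer (RR S : Set G)) := by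
  classical
  intro hdvd
  have := Fact.mk hu
  obtain ⟨⟨x, hx⟩, hxo⟩ := exists_prime_orderOf_dvd_card' u hdvd
  have hxu : x ^ u = 1 := by
    have h3 : (⟨x, hx⟩ : normalizer (RR S : Set G)) ^ u = 1 := by rw [← hxo]; exact pow_orderOf_eq_one _
    exact congrArg Subtype.val h3
  have hx1 : x ≠ 1 := by
    rintro rfl
    have h4 : (⟨1, hx⟩ : normalizer (RR S : Set G)) = 1 := rfl
    rw [h4, orderOf_one] at hxo
    exact hu.one_lt.ne hxo
  let f : Om S → Om S := fun A => ⟨cj x A.1, by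
    obtain ⟨A, ⟨g, rfl⟩, hle⟩ := A
    refine ⟨⟨x * g, (cj_mul _ _ _).symm⟩, ?_⟩
    rintro _ ⟨a, ha, rfl⟩
    exact mul_mem (mul_mem hx (hle ha)) (inv_mem hx)⟩
  have hf : Function.Injective f := by
    intro A B hAB
    exact Subtype.ext (cj_inj (congrArg Subtype.val hAB))
  have hfinO : Finite (Om S) := Subtype.finite
  let e : Equiv.Perm (Om S) := Equiv.ofBijective f (Finite.injective_iff_bijective.1 hf)
  have hpow : ∀ (n : ℕ) (A : Om S), ((e ^ n) A).1 = cj (x ^ n) A.1 := by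
    intro n
    induction n with
    | zero => intro A; rw [pow_zero, pow_zero, cj_one]; rfl
    | succ n ih =>
      intro A
      rw [pow_succ', Equiv.Perm.mul_apply]
      show cj x ((e ^ n) A).1 = _
      rw [ih, pow_succ', cj_mul]
  have he : e ^ u ^ 1 = 1 := by
    rw [pow_one]
    apply Equiv.ext
    intro A
    apply Subtype.ext
    rw [hpow, hxu, cj_one]
    rfl
  have hfin : Fintype (Om S) := Fintype.ofFinite _
  obtain ⟨⟨A, ⟨g, rfl⟩, hle⟩, hfix⟩ := Equiv.Perm.exists_fixed_point_of_prime (p := u) (n := 1)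
    (by rw [← Nat.card_eq_fintype_card, card_Om S hF hR]; exact h1) he
  have hfix' : cj x (cj g (S.Zc 2)) = cj g (S.Zc 2) := congrArg Subtype.val hfix
  have h3 : cj (g⁻¹ * x * g) (S.Zc 2) = S.Zc 2 := by rw [cj_mul, cj_mul, hfix', cj_cj_inv]
  have h4 : g⁻¹ * x * g ∈ H392.TwFFour.P S := by
    refine H392.TwFFour.mem_P_of S (H392.TwFFour.e201 S).1 (H392.TwFFour.e201 S).2 ?_
    have h5 : (g⁻¹ * x * g) * S.e 2 0 1 * (g⁻¹ * x * g)⁻¹ ∈ cj (g⁻¹ * x * g) (S.Zc 2) :=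
      conj_mem_cj (H392.TwFFour.e201 S).1
    rwa [h3] at h5
  apply h2
  rw [← H392.TwFFour.card_P S]
  have h5 : (g⁻¹ * x * g) ^ u = 1 := by
    have e : (g⁻¹ * x * g) ^ u = g⁻¹ * x ^ u * g := by
      have := conj_pow (i := u) (a := g⁻¹) (b := x)
      rwa [inv_inv] at this
    rw [e, hxu]; group
  have h6 : g⁻¹ * x * g ≠ 1 := by
    intro h7
    apply hx1
    have e : x = g * (g⁻¹ * x * g) * g⁻¹ := by group
    rw [e, h7]; group
  have h7 : orderOf (⟨g⁻¹ * x * g, h4⟩ : H392.TwFFour.P S) = u := by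
    refine orderOf_eq_prime (Subtype.ext h5) fun h8 => h6 (congrArg Subtype.val h8)
  rw [← h7]
  exact orderOf_dvd_natCard _

/-- (5) -/
theorem not_dvd (hF : ∃ c : Fˣ, c ≠ 1) (hR : S.R.p = 2) {a u : ℕ} (hu : H436.Prim 2 (12 * a) u)
    (ha : Nat.card F = 2 ^ a) : ¬ u ∣ Nat.card (normalizer (RR S : Set G)) := by
  have ha0 : 0 < a := by
    rcases Nat.eq_zero_or_pos a with rfl | h
    · rw [pow_zero] at ha
      have : 1 < Nat.card F := Finite.one_lt_card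
      omega
    · exact h
  have k1 : ¬ u ∣ Nat.card F ^ 2 + 1 := by
    rw [ha, ← pow_mul]
    refine hu.not_dvd_add fun h => ?_
    have := Nat.le_of_dvd (by omega) h
    omega
  refine not_dvd_of S hF hR hu.prime ?_ ?_
  · rw [show 2 * Nat.card F ^ 2 + 2 = 2 * (Nat.card F ^ 2 + 1) by ring, hu.prime.dvd_mul]
    exact not_or.2 ⟨hu.not_dvd, k1⟩
  · rw [hu.prime.dvd_mul, hu.prime.dvd_mul]
    refine not_or.2 ⟨not_or.2 ⟨?_, ?_⟩, k1⟩
    · rw [ha, ← pow_mul]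
      exact hu.not_dvd_pow _
    · intro h
      have h1 := hu.prime.dvd_of_dvd_pow h
      rw [ha] at h1
      have h2 := (hu.dvd_iff a).1 h1
      have := Nat.le_of_dvd ha0 h2
      omega

omit [Finite F] [Finite G] [Field F] [Group G] in
theorem two_pow_mod (m : ℕ) : 2 ^ (2 * m + 1) % 3 = 2 := by
  induction m with
  | zero => rfl
  | succ n ih =>
    have e : 2 ^ (2 * (n + 1) + 1) = 2 ^ (2 * n + 1) * 4 := by ring
    omega

/-- (5) -/
theorem not_dvd_three (hF : ∃ c : Fˣ, c ≠ 1) (hR : S.R.p = 2) (m : ℕ) (hm : Nat.card F = 2 ^ (2 * m + 1)) :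
    ¬ 3 ∣ Nat.card (normalizer (RR S : Set G)) := by
  have h3 : Nat.card F % 3 = 2 := by rw [hm]; exact two_pow_mod m
  obtain ⟨q, hq⟩ : ∃ q, q = Nat.card F := ⟨_, rfl⟩
  have h4 : q % 3 = 2 := by rw [hq]; exact h3
  obtain ⟨k, hk⟩ : ∃ k, q = 3 * k + 2 := ⟨q / 3, by omega⟩
  have k1 : q ^ 2 + 1 = 3 * (3 * k ^ 2 + 4 * k + 1) + 2 := by rw [hk]; ring
  refine not_dvd_of S hF hR Nat.prime_three ?_ ?_
  · rw [← hq]
    have k2 : 2 * q ^ 2 + 2 = 3 * (2 * (3 * k ^ 2 + 4 * k + 1) + 1) + 1 := by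
      have : 2 * q ^ 2 + 2 = 2 * (q ^ 2 + 1) := by ring
      rw [this, k1]; ring
    rw [k2]
    omega
  · rw [← hq, Nat.prime_three.dvd_mul, Nat.prime_three.dvd_mul]
    refine not_or.2 ⟨not_or.2 ⟨?_, ?_⟩, ?_⟩
    · intro h
      have := Nat.prime_three.dvd_of_dvd_pow h
      omega
    · intro h
      have := Nat.prime_three.dvd_of_dvd_pow h
      omega
    · rw [k1]
      omega

omit [Finite F] [Finite G] in
/-- (1) -/
theorem X_le : S.XZ 0 ≤ normalizer (RR S : Set G) ∧ S.XZ 4 ≤ normalizer (RR S : Set G) ∧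
    S.XZ 8 ≤ normalizer (RR S : Set G) ∧ S.XZ 12 ≤ normalizer (RR S : Set G) ∧
    S.T ≤ normalizer (RR S : Set G) :=
  ⟨X0_le S, X4_le S, X8_le S, X12_le S, T_le S⟩

end Cfsg.Agent.H823.TwFSz
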