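import Cfsg.Agent.H823.Core
import Cfsg.Agent.J2.ExtQuot
import Cfsg.Agent.Lib.KleinGen

/-!
# From `Large Q z` back to `IsLargeExtraspecial Q`

* `center_map`, `isExtraspecial`, `isLarge_of`: the converse of `large_of_isLarge`;
* `eq_one_of_comm`: `C_K(z) = 1` for an odd subgroup `K` normalised by `Q`;
* `inverts`: `z` inverts such a `K`.
-/

set_option autoImplicit false

namespace Cfsg.Agent.H823

open Cfsg Cfsg.Agent.Co2Type.Quad Cfsg.Agent.LargeExtra.Base

variable {G : Type*} [Group G] {Q : Subgroup G} {z : G}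

/-- `Z(Q) = ⟨z⟩` -/
theorem center_map (h : Large Q z) : (Subgroup.center ↥Q).map Q.subtype = Subgroup.zpowers z := by
  apply le_antisymm
  · rintro _ ⟨x, hx, rfl⟩
    rcases h.mem_center.1 hx with h1 | h1
    · rw [Subgroup.coe_subtype, h1]; exact one_mem _
    · rw [Subgroup.coe_subtype, h1]; exact Subgroup.mem_zpowers z
  · rw [Subgroup.zpowers_le]
    exact ⟨⟨z, h.z_mem⟩, h.mem_center.2 (Or.inr rfl), rfl⟩

/-- `Q` is extraspecial as soon as it is finite and not `⟨z⟩`. -/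
theorem isExtraspecial_of [Finite Q] (h : Large Q z) (h2 : Nat.card Q ≠ 2) : Cfsg.IsExtraspecial 2 Q := by
  refine Cfsg.Agent.J2.ExtQuot.isExtraspecial_two (isPGroup h) h.card_center
    (fun x => by rw [pow_two]; exact h.sq_mem x) ?_
  by_contra hcon
  push Not at hcon
  apply h2
  rw [← h.card_center]
  have : (Subgroup.center Q : Subgroup Q) = ⊤ := by
    rw [eq_top_iff]
    intro x _
    rw [Subgroup.mem_center_iff]
    intro y
    exact hcon y x
  rw [this]
  exact (Nat.card_congr Subgroup.topEquiv.toEquiv).symm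

/-- `C_G(Q) = Z(Q)` -/
theorem centralizer_eq (h : Large Q z) :
    Subgroup.centralizer (Q : Set G) = (Subgroup.center ↥Q).map Q.subtype := by
  apply le_antisymm
  · intro g hg
    have h1 := Subgroup.mem_centralizer_iff.1 hg
    have h2 : g ∈ Q := h.self g (h1 z h.z_mem).symm (fun x hx => (h1 x hx).symm)
    refine ⟨⟨g, h2⟩, ?_, rfl⟩
    exact h.mem_center.2 (h.cent g h2 (fun y hy => (h1 y hy).symm))
  · rintro _ ⟨x, hx, rfl⟩
    rw [Subgroup.mem_centralizer_iff]
    intro y hy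
    exact congrArg Subtype.val (Subgroup.mem_center_iff.1 hx ⟨y, hy⟩)

/-- `Q` is normalised by `C_G(z)` -/
theorem centralizer_le_normalizer (h : Large Q z) :
    Subgroup.centralizer (((Subgroup.center ↥Q).map Q.subtype : Subgroup G) : Set G) ≤
      Subgroup.normalizer (Q : Set G) := by
  intro g hg
  rw [center_map h] at hg
  have h1 : g * z = z * g := (Subgroup.mem_centralizer_iff.1 hg z (Subgroup.mem_zpowers z)).symm
  have h2 : g⁻¹ * z = z * g⁻¹ := by
    calc g⁻¹ * z = g⁻¹ * (z * g) * g⁻¹ := by group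
      _ = g⁻¹ * (g * z) * g⁻¹ := by rw [h1]
      _ = z * g⁻¹ := by group
  rw [Subgroup.mem_normalizer_iff]
  intro x
  refine ⟨fun hx => h.conj_mem g h1 x hx, fun hx => ?_⟩
  have h3 := h.conj_mem g⁻¹ h2 _ hx
  have h4 : g⁻¹ * (g * x * g⁻¹) * g⁻¹⁻¹ = x := by group
  rwa [h4] at h3

/-- the converse of `large_of_isLarge` -/
theorem isLarge_of [Finite Q] (h : Large Q z) (h2 : Nat.card Q ≠ 2)
    (hodd : ∀ K : Subgroup G, Odd (Nat.card K) → Q ≤ Subgroup.normalizer (K : Set G) → K = ⊥) :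
    Cfsg.IsLargeExtraspecial Q :=
  ⟨isExtraspecial_of h h2, centralizer_eq h, centralizer_le_normalizer h, hodd⟩

/-- an element of a 2-group and of a group of odd order is trivial -/
theorem eq_one_of_mem {P K : Subgroup G} (hP : IsPGroup 2 P) (hK : Odd (Nat.card K)) {x : G}
    (h1 : x ∈ P) (h2 : x ∈ K) : x = 1 := by
  obtain ⟨k, hk⟩ := hP ⟨x, h1⟩
  have hk' : x ^ 2 ^ k = 1 := congrArg Subtype.val hk
  have h3 : orderOf x ∣ 2 ^ k := orderOf_dvd_of_pow_eq_one hk'
  have h4 : orderOf x ∣ Nat.card K := by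
    have := orderOf_dvd_natCard (⟨x, h2⟩ : K)
    rwa [← Subgroup.orderOf_coe] at this
  rw [← orderOf_eq_one_iff]
  exact Nat.eq_one_of_dvd_coprimes (Nat.Coprime.pow_left _ (Nat.coprime_two_left.2 hK)) h3 h4

/-- `C_K(z) = 1` -/
theorem eq_one_of_comm (h : Large Q z) {K : Subgroup G} (hK : Odd (Nat.card K))
    (hn : Q ≤ Subgroup.normalizer (K : Set G)) {k : G} (hk : k ∈ K) (hkz : k * z = z * k) : k = 1 := by
  have hcomm : ∀ x ∈ Q, k * x = x * k := by
    intro x hx
    have h1 : k * x * k⁻¹ * x⁻¹ ∈ Q := mul_mem (h.conj_mem k hkz x hx) (inv_mem hx)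
    have h2 : k * x * k⁻¹ * x⁻¹ ∈ K := by
      have h3 : x * k⁻¹ * x⁻¹ ∈ K := (Subgroup.mem_normalizer_iff.1 (hn hx) _).1 (inv_mem hk)
      have h4 : k * x * k⁻¹ * x⁻¹ = k * (x * k⁻¹ * x⁻¹) := by group
      rw [h4]; exact mul_mem hk h3
    have h3 := eq_one_of_mem (isPGroup h) hK h1 h2
    have h4 : k * x = (k * x * k⁻¹ * x⁻¹) * (x * k) := by group
    rw [h4, h3, one_mul]
  exact eq_one_of_mem (isPGroup h) hK (h.self k hkz hcomm) hk

/-- `z` inverts an odd subgroup normalised by `Q` -/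
theorem inverts (h : Large Q z) {K : Subgroup G} (hK : Odd (Nat.card K))
    (hn : Q ≤ Subgroup.normalizer (K : Set G)) {k : G} (hk : k ∈ K) : z * k * z⁻¹ = k⁻¹ := by
  obtain ⟨c, hc, l, hl, h1, h2, rfl⟩ := Cfsg.Agent.Lib.KleinGen.exists_centralizer_mul_inverted K hK z h.z_sq
    (fun k hk => (Subgroup.mem_normalizer_iff.1 (hn h.z_mem) k).1 hk) hk
  have h3 : c = 1 := eq_one_of_comm h hK hn hc h1.symm
  rw [h3, one_mul]; exact h2

end Cfsg.Agent.H823
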