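import Cfsg.Agent.H823.TowerLift
import Cfsg.Agent.H575.Tower
import Cfsg.Agent.Lib.BenderMaximal

/-!
# Existence of towers (for S4363)
-/

set_option autoImplicit false

open Subgroup
open scoped commutatorElement

namespace Cfsg.Agent.H823.Tow

open Cfsg.Agent.Lib Cfsg.Agent.Blocks Cfsg.Agent.H575

universe u

variable {Γ : Type u} [Group Γ]

/-- `O_q(X)` as a subgroup of the ambient group -/
def OO (q : ℕ) (X : Subgroup Γ) : Subgroup Γ := (Cfsg.pCore q X).map X.subtype

theorem OO_normal (q : ℕ) {X : Subgroup Γ} (hX : X.Normal) : (OO q X).Normal := by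
  have h : OO q X = X ⊓ Cfsg.pCore q Γ := Cores.map_subtype_pCore q hX
  rw [h]
  have := Cores.pCore_normal (G := Γ) q
  exact inferInstance

theorem OO_le (q : ℕ) (X : Subgroup Γ) : OO q X ≤ X := map_subtype_le _

theorem OO_isPGroup (q : ℕ) (X : Subgroup Γ) : IsPGroup q (OO q X) :=
  (Cores.pCore_isPGroup q).map _

/-- a normal subgroup centralizing `O_q(X)` for `q ≠ p` which is a `p`-group modulo `F(X)` -/
theorem mem_fitting [Finite Γ] {X : Subgroup Γ} (hX : X.Normal) (p : ℕ) [Fact p.Prime] {F E : Subgroup Γ}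
    (hF : F = (Cfsg.fittingSubgroup X).map X.subtype) (hE : E.Normal) (hEX : E ≤ X)
    (hEF : ∀ x ∈ E, ∃ k : ℕ, x ^ p ^ k ∈ F) {x : Γ} (hx : x ∈ E)
    (hc : ∀ q : ℕ, q.Prime → q ≠ p → x ∈ centralizer (OO q X : Set Γ)) : x ∈ F := by
  have hON : ∀ q : ℕ, (OO q X).Normal := fun q => OO_normal q hX
  -- the normal subgroup `D`
  let D : Subgroup Γ := E ⊓ ⨅ q : {q : ℕ // q.Prime ∧ q ≠ p}, centralizer (OO q.1 X : Set Γ)
  have hDn : D.Normal := by
    have h1 : (⨅ q : {q : ℕ // q.Prime ∧ q ≠ p}, centralizer (OO q.1 X : Set Γ)).Normal := by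
      apply normal_iInf_normal
      intro q
      have := hON q.1
      exact inferInstance
    exact inferInstance
  have hDE : D ≤ E := inf_le_left
  have hDc : ∀ d ∈ D, ∀ q : ℕ, q.Prime → q ≠ p → d ∈ centralizer (OO q X : Set Γ) :=
    fun d hd q hq hqp => (mem_iInf.mp hd.2) ⟨q, hq, hqp⟩
  have hxD : x ∈ D := ⟨hx, mem_iInf.mpr fun q => hc q.1 q.2.1 q.2.2⟩
  -- elements of `q`-power order of `D` are central
  have hcen : ∀ q : ℕ, q.Prime → q ≠ p → ∀ y ∈ D, IsPGroup q (zpowers y) → ∀ d ∈ D, d * y = y * d := by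
    intro q hq hqp y hy hyq d hd
    have : Fact q.Prime := ⟨hq⟩
    obtain ⟨k, hk⟩ := hEF y (hDE hy)
    obtain ⟨j, hj⟩ := (IsPGroup.iff_orderOf.mp hyq) ⟨y, mem_zpowers y⟩
    have hj' : orderOf y = q ^ j := by
      rw [← hj]
      exact (orderOf_mk y _).symm
    have hcop : (p ^ k).Coprime (orderOf y) := by
      rw [hj']
      exact Nat.Coprime.pow _ _ ((Nat.coprime_primes (Fact.out : p.Prime) hq).mpr (Ne.symm hqp))
    have hyF : y ∈ F := by
      have h1 : zpowers (y ^ p ^ k) = zpowers y := by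
        apply le_antisymm
        · rw [zpowers_le]
          exact pow_mem (mem_zpowers y) _
        · rw [zpowers_le, mem_zpowers_iff]
          obtain ⟨m, hm⟩ := exists_pow_eq_self_of_coprime hcop
          exact ⟨m, by rw [zpow_natCast]; exact hm⟩
      have h2 : zpowers y ≤ F := by
        rw [← h1, zpowers_le]; exact hk
      exact h2 (mem_zpowers y)
    have h3 : zpowers y ≤ OO q X := by
      apply BenderMaximal.le_map_pCore_of_le_fitting hyq
      rw [← hF, zpowers_le]
      exact hyF
    exact (mem_centralizer_iff.mp (hDc d hd q hq hqp) y (h3 (mem_zpowers y))).symm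
  -- `D` is nilpotent
  have hnil : Group.IsNilpotent D := by
    apply Group.of_quotient_center_nilpotent
    have hpg : IsPGroup p (D ⧸ center D) := by
      have h0 : Nat.card (D ⧸ center D) ≠ 0 := Nat.card_pos.ne'
      apply IsPGroup.of_card (n := (Nat.card (D ⧸ center D)).primeFactorsList.length)
      apply Nat.eq_prime_pow_of_unique_prime_dvd h0
      intro q hq hqd
      by_contra hqp
      have : Fact q.Prime := ⟨hq⟩
      obtain ⟨Q⟩ : Nonempty (Sylow q D) := inferInstance
      have hQ : (Q : Subgroup D) ≤ center D := by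
        intro y hy
        rw [mem_center_iff]
        intro d
        apply Subtype.ext
        refine hcen q hq hqp y.1 y.2 ?_ d.1 d.2
        have h4 : IsPGroup q (zpowers y) := Q.isPGroup'.to_le (zpowers_le.mpr hy)
        have h5 := h4.map D.subtype
        rwa [MonoidHom.map_zpowers] at h5
      have h6 : (center D).index ∣ (Q : Subgroup D).index := index_dvd_of_le hQ
      exact Q.not_dvd_index (hqd.trans h6)
    exact hpg.isNilpotent
  -- so it lies in the Fitting subgroup
  have hDX : D ≤ X := hDE.trans hEX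
  have h7 : D.subgroupOf X ≤ Cfsg.fittingSubgroup X := by
    apply Cores.le_fittingSubgroup inferInstance
    exact (Group.isNilpotent_congr (subgroupOfEquivOfLe hDX)).mpr hnil
  rw [hF]
  exact ⟨⟨x, hDX hxD⟩, h7 hxD, rfl⟩

/-! ### kernels of towers -/

theorem ker_le (P : ℕ → Subgroup Γ) (i : ℕ) : Tower.ker P i ≤ P i := by
  cases i with
  | zero => exact bot_le
  | succ i => exact inf_le_left

theorem mem_normalizer_ker {P : ℕ → Subgroup Γ} {g : Γ} : ∀ i : ℕ,
    (∀ k ≤ i, g ∈ normalizer (P k : Set Γ)) → g ∈ normalizer (Tower.ker P i : Set Γ) := by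
  intro i
  induction i with
  | zero =>
    intro _
    rw [mem_normalizer_iff]
    intro h
    show h ∈ (⊥ : Subgroup Γ) ↔ _ ∈ (⊥ : Subgroup Γ)
    rw [mem_bot, mem_bot]
    constructor
    · rintro rfl; group
    · intro hh
      have : h = g⁻¹ * (g * h * g⁻¹) * g := by group
      rw [this, hh]; group
  | succ i ih =>
    intro hg
    have h1 := ih fun k hk => hg k (hk.trans (Nat.le_succ i))
    have hone : ∀ {a : Γ}, (∀ k ≤ i + 1, a ∈ normalizer (P k : Set Γ)) →
        a ∈ normalizer (Tower.ker P i : Set Γ) → ∀ x, x ∈ Tower.ker P (i + 1) →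
          a * x * a⁻¹ ∈ Tower.ker P (i + 1) := by
      intro a ha ha1 x hx
      refine ⟨(mem_normalizer_iff.mp (ha (i + 1) le_rfl) x).mp hx.1, ?_, ?_⟩
      · exact mul_mem (mul_mem ha1 hx.2.1) (inv_mem ha1)
      · intro y hy
        have h2 : a⁻¹ * y * a ∈ P i := by
          have h3 := mem_normalizer_iff.mp (ha i (Nat.le_succ i)) (a⁻¹ * y * a)
          rw [h3]
          have h4 : a * (a⁻¹ * y * a) * a⁻¹ = y := by group
          rwa [h4]
        have h5 := hx.2.2 _ h2
        have h6 : ⁅a * x * a⁻¹, y⁆ = a * ⁅x, a⁻¹ * y * a⁆ * a⁻¹ := by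
          simp only [commutatorElement_def]; group
        rw [h6]
        exact (mem_normalizer_iff.mp ha1 _).mp h5
    rw [mem_normalizer_iff]
    intro x
    refine ⟨hone hg h1 x, fun hx => ?_⟩
    have h7 := hone (a := g⁻¹) (fun k hk => inv_mem (hg k hk)) (inv_mem h1) _ hx
    have h8 : g⁻¹ * (g * x * g⁻¹) * g⁻¹⁻¹ = x := by group
    rwa [h8] at h7

theorem ker_succ_of {P : ℕ → Subgroup Γ} {i : ℕ} (hn : P (i + 1) ≤ normalizer (P i : Set Γ))
    (h : P i ≤ Tower.ker P i) : P (i + 1) ≤ Tower.ker P (i + 1) := by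
  have h1 : Tower.ker P i = P i := le_antisymm (ker_le P i) h
  intro x hx
  refine ⟨hx, ?_, ?_⟩
  · rw [h1]; exact hn hx
  · intro y hy
    rw [h1, commutatorElement_def]
    exact mul_mem ((mem_normalizer_iff.mp (hn hx) y).mp hy) (inv_mem hy)

theorem nontriv_of_top {P : ℕ → Subgroup Γ} {n : ℕ}
    (hn : ∀ i j, i ≤ j → j < n + 1 → P j ≤ normalizer (P i : Set Γ)) (h : ¬ P n ≤ Tower.ker P n) :
    ∀ i < n + 1, ¬ P i ≤ Tower.ker P i := by
  intro i hi hP
  apply h
  have : ∀ k, i + k < n + 1 → P (i + k) ≤ Tower.ker P (i + k) := by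
    intro k
    induction k with
    | zero => intro _; exact hP
    | succ k ih =>
      intro hk
      exact ker_succ_of (hn _ _ (Nat.le_succ _) hk) (ih (by omega))
  have h1 := this (n - i) (by omega)
  have h2 : i + (n - i) = n := by omega
  rwa [h2] at h1

/-- the tower with a new bottom -/
def cons (A : Subgroup Γ) (P : ℕ → Subgroup Γ) : ℕ → Subgroup Γ
  | 0 => A
  | i + 1 => P i

/-- the primes with a new bottom -/
def consN (a : ℕ) (p : ℕ → ℕ) : ℕ → ℕ
  | 0 => a
  | i + 1 => p i

theorem exists_OO_ne_bot [Finite Γ] {X : Subgroup Γ} (hsol : Group.IsSolvable X) (hX : X ≠ ⊥) :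
    ∃ q : ℕ, q.Prime ∧ OO q X ≠ ⊥ := by
  by_contra hcon
  push Not at hcon
  apply hX
  have h1 : (Cfsg.fittingSubgroup X).map X.subtype = ⊥ := by
    rw [BenderMaximal.map_fittingSubgroup_eq_iSup, iSup_eq_bot]
    intro q
    exact hcon q q.2
  have h2 := BenderMaximal.inf_centralizer_fitting_le hsol
  rw [h1] at h2
  rw [eq_bot_iff]
  intro x hx
  refine h2 (mem_inf.mpr ⟨hx, ?_⟩)
  rw [mem_centralizer_iff]
  · intro y hy
    have : y = 1 := hy
    rw [this, one_mul, mul_one]

theorem exists_tower_aux : ∀ (m : ℕ) {Γ : Type u} [Group Γ] [Finite Γ] (X R : Subgroup Γ),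
    X.Normal → Group.IsSolvable X → (Nat.card R).Prime → ¬ Nat.card R ∣ Nat.card X →
    ¬ Chain.FChain m X →
    ∃ (P : ℕ → Subgroup Γ) (p : ℕ → ℕ), Tower.IsTower R P p (m + 1) ∧ (∀ i < m + 1, P i ≤ X) ∧
      P 0 = OO (p 0) X := by
  intro m
  induction m with
  | zero =>
    intro Γ _ _ X R hX hsol hR hcop h
    have hX1 : X ≠ ⊥ := by
      rintro rfl
      exact h Chain.fchain_zero
    obtain ⟨q, hq, hne⟩ := exists_OO_ne_bot hsol hX1
    have hON := OO_normal q hX
    refine ⟨fun _ => OO q X, fun _ => q, ⟨fun _ _ => hq, fun _ _ => OO_isPGroup q X,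
      fun i hi => absurd hi (by omega), fun i j _ _ => ?_, fun i _ => ?_, fun i hi => ?_⟩,
      fun _ _ => OO_le q X, rfl⟩
    · rw [normalizer_eq_top]; exact le_top
    · rw [normalizer_eq_top]; exact le_top
    · have : i = 0 := by omega
      subst this
      intro hle
      exact hne (le_bot_iff.mp hle)
  | succ m ih =>
    intro Γ _ _ X R hX hsol hR hcop h
    set F : Subgroup Γ := (Cfsg.fittingSubgroup X).map X.subtype with hF
    have hFn : F.Normal := by
      rw [hF, Cores.map_subtype_fittingSubgroup hX]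
      have := Cores.fittingSubgroup_normal (G := Γ)
      exact inferInstance
    have hFX : F ≤ X := map_subtype_le _
    let f : Γ →* Γ ⧸ F := QuotientGroup.mk' F
    have hfs : Function.Surjective f := QuotientGroup.mk'_surjective F
    have hfk : ∀ x : Γ, f x = 1 ↔ x ∈ F := fun x => QuotientGroup.eq_one_iff x
    have hX' : (X.map f).Normal := hX.map f hfs
    have hsol' : Group.IsSolvable (X.map f) := by
      have hs : Function.Surjective (f.subgroupMap X) := f.subgroupMap_surjective X
      have := hsol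
      exact Group.isSolvable_of_surjective hs
    have hRc : Nat.card (R.map f) = Nat.card R := by
      refine (Nat.card_congr (Equiv.ofBijective (f.subgroupMap R)
        ⟨?_, f.subgroupMap_surjective R⟩)).symm
      rw [injective_iff_map_eq_one]
      intro a ha
      have h1 : (a : Γ) ∈ F := (hfk a).mp (congrArg Subtype.val ha)
      have h2 : orderOf (a : Γ) ∣ Nat.card R := by
        rw [Subgroup.orderOf_coe]
        exact orderOf_dvd_natCard a
      rcases (Nat.dvd_prime hR).mp h2 with h3 | h3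
      · exact Subtype.ext (orderOf_eq_one_iff.mp h3)
      · exfalso
        apply hcop
        rw [← h3]
        have h4 : orderOf (⟨a, hFX h1⟩ : X) = orderOf (a : Γ) := Subgroup.orderOf_mk _ _
        rw [← h4]
        exact orderOf_dvd_natCard _
    have hcop' : ¬ Nat.card (R.map f) ∣ Nat.card (X.map f) := by
      rw [hRc]
      intro h1
      exact hcop (h1.trans (card_map_dvd X f))
    have hch : ¬ Chain.FChain m (X.map f) := by
      intro h1
      apply h
      apply Chain.FChain.extend (f.subgroupMap X) ?_ h1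
      have hk : (f.subgroupMap X).ker = Cfsg.fittingSubgroup X := by
        ext x
        rw [MonoidHom.mem_ker]
        constructor
        · intro hx
          have h2 : (x : Γ) ∈ F := (hfk x).mp (congrArg Subtype.val hx)
          obtain ⟨y, hy, hyx⟩ := h2
          have : y = x := Subtype.ext hyx
          exact this ▸ hy
        · intro hx
          apply Subtype.ext
          exact (hfk x).mpr ⟨x, hx, rfl⟩
      rw [hk]
      exact Cores.fittingSubgroup_isNilpotent
    obtain ⟨Q, p, hQ, hQX, hQ0⟩ := ih (X.map f) (R.map f) hX' hsol' (by rw [hRc]; exact hR) hcop' hch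
    obtain ⟨P, hP1, hP2, hP3, hP4, hP5⟩ := lift_aux f X R hX hR hcop (m + 1) Q p ⊤ le_top hQ.prime
      hQ.pgroup (fun i hi => by rw [top_inf_eq]; exact hQX i hi) hQ.norm hQ.inv
    have hp0 : (p 0).Prime := hQ.prime 0 (Nat.succ_pos m)
    have hfp0 : Fact (p 0).Prime := ⟨hp0⟩
    have hPX : ∀ i < m + 1, P i ≤ X := fun i hi => (hP2 i hi).trans inf_le_right
    -- the key
    have key : ∀ i < m + 1, ∀ x : Γ,
        (∀ q : ℕ, q.Prime → q ≠ p 0 → x ∈ Tower.ker (cons (OO q X) P) (i + 1)) →
        f x ∈ Tower.ker Q i := by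
      obtain ⟨q₀, hq₀l, hq₀⟩ := Nat.exists_infinite_primes (p 0 + 1)
      have hq₀' : q₀ ≠ p 0 := by omega
      intro i
      induction i with
      | zero =>
        intro _ x hx
        have hxP : x ∈ P 0 := (hx q₀ hq₀ hq₀').1
        rw [show Tower.ker Q 0 = ⊥ from rfl, mem_bot, hfk]
        have hQn : (Q 0).Normal := by
          rw [hQ0]; exact OO_normal _ hX'
        have hEn : (X ⊓ (Q 0).comap f).Normal := by
          have := hQn.comap f
          exact inferInstance
        refine mem_fitting hX (p 0) hF hEn inf_le_left ?_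
          (mem_inf.mpr ⟨hPX 0 (Nat.succ_pos m) hxP, ?_⟩) ?_
        · rintro y ⟨-, hy⟩
          obtain ⟨k, hk⟩ := hQ.pgroup 0 (Nat.succ_pos m) ⟨f y, hy⟩
          refine ⟨k, (hfk _).mp ?_⟩
          rw [map_pow]
          exact congrArg Subtype.val hk
        · rw [mem_comap, ← hP3 0 (Nat.succ_pos m)]
          exact ⟨x, hxP, rfl⟩
        · intro q hq hqp
          rw [mem_centralizer_iff]
          intro y hy
          have h1 : ⁅x, y⁆ ∈ (⊥ : Subgroup Γ) := (hx q hq hqp).2.2 y hy
          rw [mem_bot, commutatorElement_eq_one_iff_mul_comm] at h1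
          exact h1.symm
      | succ i ihi =>
        intro hi x hx
        have hi' : i < m + 1 := Nat.lt_of_succ_lt hi
        have hxP : x ∈ P (i + 1) := (hx q₀ hq₀ hq₀').1
        have hfx : f x ∈ Q (i + 1) := by
          rw [← hP3 (i + 1) hi]
          exact ⟨x, hxP, rfl⟩
        refine ⟨hfx, ?_, ?_⟩
        · apply mem_normalizer_ker
          intro k hk
          exact hQ.norm k (i + 1) (by omega) hi hfx
        · intro z hz
          rw [← hP3 i hi'] at hz
          obtain ⟨y, hy, rfl⟩ := hz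
          have h2 := ihi hi' ⁅x, y⁆ fun q hq hqp => (hx q hq hqp).2.2 y hy
          rwa [map_commutatorElement] at h2
    have hex : ∃ q : ℕ, q.Prime ∧ q ≠ p 0 ∧
        ¬ P m ≤ Tower.ker (cons (OO q X) P) (m + 1) := by
      by_contra hcon
      push Not at hcon
      apply hQ.nontriv m (Nat.lt_succ_self m)
      rw [← hP3 m (Nat.lt_succ_self m)]
      rintro _ ⟨x, hx, rfl⟩
      exact key m (Nat.lt_succ_self m) x fun q hq hqp => hcon q hq hqp hx
    obtain ⟨q, hq, hqp, hqm⟩ := hex
    have hON := OO_normal q hX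
    have hnorm : ∀ i j, i ≤ j → j < m + 1 + 1 →
        cons (OO q X) P j ≤ normalizer (cons (OO q X) P i : Set Γ) := by
      rintro (_ | i) j hij hj
      · show _ ≤ normalizer (OO q X : Set Γ)
        rw [normalizer_eq_top]; exact le_top
      · obtain ⟨j, rfl⟩ : ∃ j', j = j' + 1 := ⟨j - 1, by omega⟩
        exact hP5 i j (by omega) (by omega)
    refine ⟨cons (OO q X) P, consN q p, ⟨?_, ?_, ?_, hnorm, ?_, ?_⟩, ?_, rfl⟩
    · rintro (_ | i) hi
      · exact hq
      · exact hQ.prime i (by omega)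
    · rintro (_ | i) hi
      · exact OO_isPGroup q X
      · exact hP1 i (by omega)
    · rintro (_ | i) hi
      · exact hqp
      · exact hQ.ne i (by omega)
    · rintro (_ | i) hi
      · show _ ≤ normalizer (OO q X : Set Γ)
        rw [normalizer_eq_top]; exact le_top
      · exact hP4 i (by omega)
    · exact nontriv_of_top hnorm hqm
    · rintro (_ | i) hi
      · exact OO_le q X
      · exact hPX i (by omega)

/-- **Existence of towers** -/
theorem exists_tower {Γ : Type u} [Group Γ] [Finite Γ] (X R : Subgroup Γ) (hX : X.Normal)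
    (hsol : Group.IsSolvable X) (hR : (Nat.card R).Prime) (hcop : ¬ Nat.card R ∣ Nat.card X) (m : ℕ)
    (h : ¬ Chain.FChain m X) :
    ∃ (P : ℕ → Subgroup Γ) (p : ℕ → ℕ), Tower.IsTower R P p (m + 1) ∧ ∀ i < m + 1, P i ≤ X := by
  obtain ⟨P, p, h1, h2, -⟩ := exists_tower_aux m X R hX hsol hR hcop h
  exact ⟨P, p, h1, h2⟩

end Cfsg.Agent.H823.Tow
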