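import Cfsg.Agent.H823.Case27B
import Cfsg.Agent.OrdDiv.Table

/-!
# Elimination of the case `|K|_3 = 27` for S3339 (helper823, for helper941)

`case27`: `K ⊴ G` known simple, `C_G(K) = 1`, `|K|_3 = 27`, `3 ∣ |G : K|`, `J ≤ K` elementary abelian of order 27,
`|N_G(J)|` divides `648`: impossible.
-/

set_option autoImplicit false

namespace Cfsg.Agent.H823.Case27

open Subgroup Cfsg OrdDiv

universe u

section Sylow

variable {K : Type u} [Group K] [Finite K]

theorem card_sylow (h27 : 27 ∣ Nat.card K) (h81 : ¬ 81 ∣ Nat.card K) [Fact (Nat.Prime 3)] (P : Sylow 3 K) :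
    Nat.card P = 27 := by
  obtain ⟨n, hn⟩ := P.isPGroup'.exists_card_eq
  have h1 : 3 ^ 3 ∣ Nat.card P := P.pow_dvd_card_of_pow_dvd_card (by simpa using h27)
  have h2 : ¬ 4 ≤ n := fun h => h81 (by
    have h3 : 3 ^ 4 ∣ 3 ^ n := pow_dvd_pow 3 h
    rw [← hn] at h3
    exact (by simpa using h3 : 81 ∣ Nat.card P).trans (P.card_subgroup_dvd_card))
  rw [hn] at h1
  have h4 := (Nat.pow_dvd_pow_iff_le_right (by norm_num : 1 < 3)).1 h1
  have h5 : n = 3 := by omega
  rw [hn, h5]
  norm_num

/-- two subgroups of order 27 are conjugate -/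
theorem exists_conj (h27 : 27 ∣ Nat.card K) (h81 : ¬ 81 ∣ Nat.card K) {A B : Subgroup K} (hA : Nat.card A = 27)
    (hB : Nat.card B = 27) : ∃ g : K, A = B.comap (MulAut.conj g).toMonoidHom := by
  have : Fact (Nat.Prime 3) := ⟨Nat.prime_three⟩
  have hpA : IsPGroup 3 A := IsPGroup.of_card (n := 3) (by rw [hA]; norm_num)
  have hpB : IsPGroup 3 B := IsPGroup.of_card (n := 3) (by rw [hB]; norm_num)
  obtain ⟨P, hP⟩ := hpA.exists_le_sylow
  obtain ⟨Q, hQ⟩ := hpB.exists_le_sylow
  have hP' : A = (P : Subgroup K) := by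
    apply eq_of_le_of_card_ge hP
    rw [hA]
    exact (card_sylow h27 h81 P).le
  have hQ' : B = (Q : Subgroup K) := by
    apply eq_of_le_of_card_ge hQ
    rw [hB]
    exact (card_sylow h27 h81 Q).le
  obtain ⟨g, hg⟩ := MulAction.exists_smul_eq K P Q
  refine ⟨g, ?_⟩
  rw [hP', hQ', ← hg]
  ext x
  rw [mem_comap]
  change x ∈ (P : Subgroup K) ↔ g * x * g⁻¹ ∈ ((g • P : Sylow 3 K) : Subgroup K)
  rw [Sylow.coe_subgroup_smul]
  constructor
  · intro hx
    exact ⟨x, hx, rfl⟩
  · rintro ⟨y, hy, hxy⟩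
    have h1 : g * y * g⁻¹ = g * x * g⁻¹ := hxy
    have h2 : y = x := by simpa using h1
    rwa [← h2]

end Sylow

variable {G : Type u} [Group G] [Finite G]

omit [Finite G] in
/-- the index of `K` divides the order of `Out K` -/
theorem index_dvd (K : Subgroup G) [K.Normal] (hc : centralizer (K : Set G) = ⊥) :
    K.index ∣ (MulAut.conj : K →* MulAut K).range.index := by
  let f : G →* MulAut K := MulAut.conjNormal
  have hf : Function.Injective f := by
    rw [injective_iff_map_eq_one]
    intro g hg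
    have h1 : g ∈ centralizer (K : Set G) := by
      rw [mem_centralizer_iff]
      intro k hk
      have h2 : ((f g) ⟨k, hk⟩ : G) = k := by rw [hg]; rfl
      have h3 : g * k * g⁻¹ = k := h2
      exact (mul_inv_eq_iff_eq_mul.1 h3).symm
    rw [hc, mem_bot] at h1
    exact h1
  have h1 : (MulAut.conj : K →* MulAut K).range = K.map f := by
    ext φ
    rw [MonoidHom.mem_range, mem_map]
    constructor
    · rintro ⟨k, rfl⟩
      refine ⟨k, k.2, ?_⟩
      ext x
      rfl
    · rintro ⟨k, hk, rfl⟩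
      refine ⟨⟨k, hk⟩, ?_⟩
      ext x
      rfl
  have h2 : (K.map f).relIndex f.range = K.index := by
    rw [MonoidHom.range_eq_map, relIndex_map_map_of_injective K ⊤ hf, relIndex_top_right]
  rw [h1, ← h2]
  exact relIndex_dvd_index_of_le (map_le_range f K)

/-- **The case `|K|_3 = 27`.** -/
theorem case27 (K : Subgroup G) [K.Normal] (hs : IsSimpleGroup K) (hK : Cfsg.IsKnownSimple' K)
    (hc : centralizer (K : Set G) = ⊥) (h27 : 27 ∣ Nat.card K) (h81 : ¬ 81 ∣ Nat.card K) (hidx : 3 ∣ K.index)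
    (J : Subgroup G) (hJK : J ≤ K) (_hJc : ∀ a ∈ J, ∀ b ∈ J, a * b = b * a) (hJe : ∀ a ∈ J, a ^ 3 = 1)
    (hJ : Nat.card J = 27) (hN : Nat.card (normalizer (J : Set G)) ∣ 648) : False := by
  have hJ' : Nat.card (J.subgroupOf K) = 27 := by
    rw [Nat.card_congr (subgroupOfEquivOfLe hJK).toEquiv, hJ]
  have hna : ¬ ∀ a b : K, a * b = b * a := by
    intro hab
    have h1 : K ≤ centralizer (K : Set G) := by
      intro a ha
      rw [mem_centralizer_iff]
      intro b hb
      exact congrArg Subtype.val (hab ⟨b, hb⟩ ⟨a, ha⟩)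
    rw [hc, le_bot_iff] at h1
    rw [h1] at h27
    simp at h27
  have hNK : Nat.card (normalizer ((J.subgroupOf K : Subgroup K) : Set K)) ∣ 648 := by
    refine dvd_trans ?_ hN
    have h1 : (normalizer ((J.subgroupOf K : Subgroup K) : Set K)).map K.subtype ≤ normalizer (J : Set G) := by
      rintro _ ⟨k, hk, rfl⟩
      rw [SetLike.mem_coe, Subgroup.mem_normalizer_iff] at hk
      rw [Subgroup.mem_normalizer_iff]
      intro x
      constructor
      · intro hx
        have h2 := (hk ⟨x, hJK hx⟩).1 (by rw [mem_subgroupOf]; exact hx)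
        rw [mem_subgroupOf] at h2
        exact h2
      · intro hx
        have hxK : x ∈ K := by
          have h3 : (k : G) * x * (k : G)⁻¹ ∈ K := hJK hx
          have h4 : (k : G)⁻¹ * ((k : G) * x * (k : G)⁻¹) * (k : G) ∈ K := mul_mem (mul_mem (inv_mem k.2) h3) k.2
          have h5 : (k : G)⁻¹ * ((k : G) * x * (k : G)⁻¹) * (k : G) = x := by group
          rwa [h5] at h4
        have h2 := (hk ⟨x, hxK⟩).2 (by rw [mem_subgroupOf]; exact hx)
        rw [mem_subgroupOf] at h2
        exact h2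
    have h2 := card_dvd_of_le h1
    rwa [Nat.card_congr (equivMapOfInjective _ K.subtype K.subtype_injective).symm.toEquiv] at h2
  refine H27.false Cfsg.Agent.OrdDiv.table hK hna
    { dvd := by simpa using h27
      ndvd := by simpa using h81
      ord := ?_
      out := hidx.trans (index_dvd K hc)
      nrm := ?_ }
  · intro x hx
    have h1 : Nat.card (zpowers x) = 27 := by rw [Nat.card_zpowers, hx]
    obtain ⟨g, hg⟩ := exists_conj h27 h81 h1 hJ'
    have h2 : x ∈ (J.subgroupOf K).comap (MulAut.conj g).toMonoidHom := hg ▸ mem_zpowers x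
    rw [mem_comap, mem_subgroupOf] at h2
    have h3 : (MulAut.conj g x) ^ 3 = 1 := Subtype.ext (hJe _ h2)
    rw [← map_pow] at h3
    have h4 : x ^ 3 = 1 := (MulAut.conj g).injective (h3.trans (map_one _).symm)
    have h5 := orderOf_dvd_of_pow_eq_one h4
    rw [hx] at h5
    exact absurd (Nat.le_of_dvd (by norm_num) h5) (by norm_num)
  · intro A hA h13
    obtain ⟨g, hg⟩ := exists_conj h27 h81 hA hJ'
    have h1 := card_normalizer_comap (MulAut.conj g) (J.subgroupOf K)
    rw [← hg] at h1
    rw [h1] at h13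
    exact absurd (h13.trans hNK) (by norm_num)

end Cfsg.Agent.H823.Case27
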