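import Cfsg.Agent.H344.List81
import Cfsg.Agent.H356.KillPSU
import Cfsg.Agent.S2601
import Cfsg.Agent.S2603
import Cfsg.Agent.S2121
import Cfsg.Agent.S2128
import Cfsg.Agent.S2061
import Cfsg.Agent.S2064
import Cfsg.Agent.S2066
import Cfsg.Agent.S2068
import Cfsg.Agent.S2075
import Cfsg.Agent.S2077
import Cfsg.Agent.TitsK.RankRK

/-!
# Simple groups with `|K|_3 = 27` having an outer automorphism of order 3 modulo inner ones (helper823)

`H27.false`: no known simple group `S` satisfies: `27` divides `|S|` exactly, no element of order `27`, `3` divides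
`|Out S|`, and `13` does not divide the order of the normalizer of a subgroup of order `27`.
-/

set_option autoImplicit false

namespace Cfsg.Agent.H823.Case27

open Subgroup Cfsg Matrix Cfsg.Agent.H344.List81 Cfsg.Agent.H341.ThreeList

universe u v

/-! ### the index of the group of inner automorphisms -/

theorem index_congr {S : Type u} {T : Type v} [Group S] [Group T] (e : S ≃* T) :
    (MulAut.conj : S →* MulAut S).range.index = (MulAut.conj : T →* MulAut T).range.index := by
  have h : (MulAut.conj : S →* MulAut S).range =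
      ((MulAut.conj : T →* MulAut T).range).comap (MulAut.congr e).toMonoidHom := by
    ext φ
    rw [mem_comap, MonoidHom.mem_range, MonoidHom.mem_range]
    constructor
    · rintro ⟨g, rfl⟩
      refine ⟨e g, ?_⟩
      ext x
      change e g * x * (e g)⁻¹ = e (g * e.symm x * g⁻¹)
      rw [map_mul, map_mul, e.apply_symm_apply, map_inv]
    · rintro ⟨g, hg⟩
      refine ⟨e.symm g, ?_⟩
      ext x
      have h1 := congrArg (fun f : MulAut T => f (e x)) hg
      have h2 : g * e x * g⁻¹ = e (φ (e.symm (e x))) := h1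
      rw [e.symm_apply_apply] at h2
      change e.symm g * x * (e.symm g)⁻¹ = φ x
      apply e.injective
      rw [← h2, map_mul, map_mul, e.apply_symm_apply, map_inv, e.apply_symm_apply]
  rw [h, index_comap_of_surjective _ (MulAut.congr e).surjective]

/-- the conditions -/
structure H27 (S : Type u) [Group S] : Prop where
  dvd : 3 ^ 3 ∣ Nat.card S
  ndvd : ¬ 3 ^ 4 ∣ Nat.card S
  ord : ∀ x : S, orderOf x ≠ 27
  out : 3 ∣ (MulAut.conj : S →* MulAut S).range.index
  nrm : ∀ A : Subgroup S, Nat.card A = 27 → ¬ 13 ∣ Nat.card (normalizer (A : Set S))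

theorem card_normalizer_comap {S : Type u} {T : Type v} [Group S] [Group T] (e : S ≃* T) (A : Subgroup T) :
    Nat.card (normalizer ((A.comap e.toMonoidHom : Subgroup S) : Set S)) = Nat.card (normalizer (A : Set T)) := by
  have h1 : normalizer ((A.comap e.toMonoidHom : Subgroup S) : Set S) = (normalizer (A : Set T)).comap e.toMonoidHom := by
    ext x
    rw [mem_comap, Subgroup.mem_normalizer_iff, Subgroup.mem_normalizer_iff]
    constructor
    · intro h y
      have h2 := h (e.symm y)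
      rw [mem_comap, mem_comap] at h2
      change e (e.symm y) ∈ A ↔ e (x * e.symm y * x⁻¹) ∈ A at h2
      rw [map_mul, map_mul, e.apply_symm_apply, map_inv] at h2
      exact h2
    · intro h y
      have h2 := h (e y)
      rw [mem_comap, mem_comap]
      change e y ∈ A ↔ e (x * y * x⁻¹) ∈ A
      rw [map_mul, map_mul, map_inv]
      exact h2
  rw [h1]
  exact Cfsg.Agent.H356.card_comap e _

theorem H27.of_equiv {S : Type u} {T : Type v} [Group S] [Group T] (e : S ≃* T) (h : H27 S) : H27 T where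
  dvd := by
    rw [← Nat.card_congr e.toEquiv]
    exact h.dvd
  ndvd := by
    rw [← Nat.card_congr e.toEquiv]
    exact h.ndvd
  ord x hx := h.ord (e.symm x) (by rw [MulEquiv.orderOf_eq]; exact hx)
  out := by
    rw [← index_congr e]
    exact h.out
  nrm A hA := by
    rw [← card_normalizer_comap e]
    exact h.nrm _ ((Cfsg.Agent.H356.card_comap e A).trans hA)

theorem H27.of_out {S : Type u} {T : Type v} [Group S] [Group T] (e : S ≃* T) (h : H27 S)
    (ho : Nat.card (Out T) = 1 ∨ Nat.card (Out T) = 2) : False := by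
  have h1 : 3 ∣ Nat.card (Out T) := (h.of_equiv e).out
  rcases ho with ho | ho <;> rw [ho] at h1 <;> norm_num at h1

/-! ### classical groups -/

theorem three_psl {F : Type*} [Field F] [Fintype F] (hF : Fintype.card F = 3) :
    Nat.card (Out (Matrix.ProjectiveSpecialLinearGroup (Fin 3) F)) = 2 := by
  have : Fact (Nat.Prime 3) := ⟨Nat.prime_three⟩
  obtain ⟨φ, hφ, -, hk⟩ := Cfsg.Agent.S2601.result (p := 3) (f := 1) (n := 3) le_rfl (hF.trans (by norm_num)) le_rfl
  have h1 := φ.ker.card_mul_index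
  rw [hk, index_ker, (MonoidHom.range_eq_top.2 hφ), card_top, Nat.card_congr Multiplicative.toAdd,
    Nat.card_prod, Nat.card_zmod, Nat.card_zmod] at h1
  rw [← h1]
  norm_num

theorem three_psu {F : Type*} [Field F] [Fintype F] (hF : Fintype.card F = 3 ^ 2) :
    Nat.card (Out (PSU 3 F 3)) = 2 := by
  have : Fact (Nat.Prime 3) := ⟨Nat.prime_three⟩
  obtain ⟨φ, hφ, -, hk⟩ := Cfsg.Agent.S2603.result (p := 3) (f := 1) (q := 3) (n := 3) le_rfl (by norm_num) hF le_rfl
    (by norm_num)
  have h1 := φ.ker.card_mul_index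
  rw [hk, index_ker, (MonoidHom.range_eq_top.2 hφ), card_top, Nat.card_congr Multiplicative.toAdd, Nat.card_zmod] at h1
  rw [← h1]
  norm_num

theorem psl_order {F : Type*} [Field F] [Fintype F] {n : ℕ} (hn : 2 ≤ n) (h3 : Fintype.card F % 3 ≠ 0)
    (h27 : 27 ∣ Fintype.card F ^ 2 - 1) : ∃ x : Matrix.ProjectiveSpecialLinearGroup (Fin n) F, orderOf x = 27 := by
  have hb : 2 * 1 ≤ n := hn
  obtain ⟨A, hA, hcA, a, ha, ho⟩ := Cfsg.Agent.H356.SLTorus.exists_one (F := F)
      (Cfsg.Agent.H356.KillPSL.three_ne_zero_of h3) (n := 3) (by rw [Nat.card_eq_fintype_card]; exact h27)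
      (QuotientGroup.mk' (center (Matrix.SpecialLinearGroup (Fin n) F))) (by rw [QuotientGroup.ker_mk'])
      (Cfsg.Agent.H356.KillPSL.f hb 0) (Cfsg.Agent.H356.KillPSL.f_injective hb 0)
  exact ⟨a, by rw [ho]; norm_num⟩

theorem psu_order {F : Type*} [Field F] [Fintype F] {q : ℕ} (hF : Fintype.card F = q ^ 2) (h3 : q % 3 ≠ 0)
    (h27 : 27 ∣ q ^ 2 - 1) : ∃ x : PSU 3 F q, orderOf x = 27 := by
  obtain ⟨K, _, _, hK, hf⟩ := Cfsg.Agent.H356.KillPSU.exists_blocks hF
  obtain ⟨f, hi, -⟩ := hf 3
  obtain ⟨A, hA, hcA, a, ha, ho⟩ := Cfsg.Agent.H356.SLTorus.exists_one (F := K)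
    (Cfsg.Agent.H356.KillPSL.three_ne_zero_of (by rw [hK]; exact h3)) (n := 3)
    (by rw [Nat.card_eq_fintype_card, hK]; exact h27)
    (QuotientGroup.mk' (center (SU 3 F q))) (by rw [QuotientGroup.ker_mk'])
    (f 0 (by omega)) (hi _ _)
  exact ⟨a, by rw [ho]; norm_num⟩

/-! ### `PSL₂(27)` -/

section Borel

variable {F : Type*} [Field F]

/-- upper unitriangular matrices -/
def up (F : Type*) [Field F] : Multiplicative F →* Matrix.SpecialLinearGroup (Fin 2) F where
  toFun t := ⟨!![1, t.toAdd; 0, 1], by simp [det_fin_two]⟩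
  map_one' := by
    apply Subtype.ext
    change !![(1 : F), 0; 0, 1] = 1
    exact one_fin_two.symm
  map_mul' := fun s t => by
    apply Subtype.ext
    change !![(1 : F), s.toAdd + t.toAdd; 0, 1] = !![1, s.toAdd; 0, 1] * !![1, t.toAdd; 0, 1]
    rw [mul_fin_two]
    simp [add_comm]

/-- diagonal matrices -/
def dg (F : Type*) [Field F] : Fˣ →* Matrix.SpecialLinearGroup (Fin 2) F where
  toFun a := ⟨!![(a : F), 0; 0, ((a⁻¹ : Fˣ) : F)], by simp [det_fin_two]⟩
  map_one' := by
    apply Subtype.ext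
    change !![((1 : Fˣ) : F), 0; 0, (((1 : Fˣ)⁻¹ : Fˣ) : F)] = 1
    rw [inv_one, Units.val_one]
    exact one_fin_two.symm
  map_mul' := fun a b => by
    apply Subtype.ext
    change !![((a * b : Fˣ) : F), 0; 0, (((a * b)⁻¹ : Fˣ) : F)] =
      !![(a : F), 0; 0, ((a⁻¹ : Fˣ) : F)] * !![(b : F), 0; 0, ((b⁻¹ : Fˣ) : F)]
    rw [mul_fin_two, mul_inv, Units.val_mul, Units.val_mul]
    simp

theorem dg_up (a : Fˣ) (t : F) :
    dg F a * up F (Multiplicative.ofAdd t) = up F (Multiplicative.ofAdd (a * a * t)) * dg F a := by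
  apply Subtype.ext
  change !![(a : F), 0; 0, ((a⁻¹ : Fˣ) : F)] * !![1, t; 0, 1] =
    !![1, (a : F) * a * t; 0, 1] * !![(a : F), 0; 0, ((a⁻¹ : Fˣ) : F)]
  rw [mul_fin_two, mul_fin_two]
  have h : (a : F) * a * t * ((a⁻¹ : Fˣ) : F) = a * t := by
    have h1 : (a : F) * ((a⁻¹ : Fˣ) : F) = 1 := Units.mul_inv a
    calc (a : F) * a * t * ((a⁻¹ : Fˣ) : F) = (a : F) * ((a⁻¹ : Fˣ) : F) * (a * t) := by ring
      _ = a * t := by rw [h1, one_mul]
  rw [Units.val_inv_eq_inv_val] at h
  simp only [mul_one, mul_zero, zero_mul, add_zero, zero_add, one_mul, Units.val_inv_eq_inv_val, h]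

/-- the image of the unitriangular matrices in `PSL₂` -/
def vv (F : Type*) [Field F] : Multiplicative F →* Matrix.ProjectiveSpecialLinearGroup (Fin 2) F :=
  (QuotientGroup.mk' (center (Matrix.SpecialLinearGroup (Fin 2) F))).comp (up F)

/-- the image of the diagonal matrices in `PSL₂` -/
def tt (F : Type*) [Field F] : Fˣ →* Matrix.ProjectiveSpecialLinearGroup (Fin 2) F :=
  (QuotientGroup.mk' (center (Matrix.SpecialLinearGroup (Fin 2) F))).comp (dg F)

theorem vv_injective : Function.Injective (vv F) := by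
  rw [injective_iff_map_eq_one]
  intro t ht
  have h1 : up F t ∈ center (Matrix.SpecialLinearGroup (Fin 2) F) := (QuotientGroup.eq_one_iff _).1 ht
  obtain ⟨r, -, hr⟩ := Matrix.SpecialLinearGroup.mem_center_iff.1 h1
  have h2 : (scalar (Fin 2) r) 0 1 = t.toAdd := by
    rw [hr]
    rfl
  rw [scalar_apply, diagonal_apply_ne _ (by decide)] at h2
  exact Multiplicative.toAdd.injective h2.symm

theorem sq_of_ker {a : Fˣ} (ha : a ∈ (tt F).ker) : a ^ 2 = 1 := by
  have h1 : dg F a ∈ center (Matrix.SpecialLinearGroup (Fin 2) F) := (QuotientGroup.eq_one_iff _).1 ha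
  obtain ⟨r, -, hr⟩ := Matrix.SpecialLinearGroup.mem_center_iff.1 h1
  have h2 : (scalar (Fin 2) r) 0 0 = (a : F) := by
    rw [hr]
    rfl
  have h3 : (scalar (Fin 2) r) 1 1 = ((a⁻¹ : Fˣ) : F) := by
    rw [hr]
    rfl
  rw [scalar_apply, diagonal_apply_eq] at h2 h3
  have h4 : a = a⁻¹ := Units.ext (h2.symm.trans h3)
  rw [pow_two]
  nth_rw 2 [h4]
  exact mul_inv_cancel a

theorem borel [Fintype F] (hF : Fintype.card F = 27) :
    ∃ A : Subgroup (Matrix.ProjectiveSpecialLinearGroup (Fin 2) F), Nat.card A = 27 ∧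
      13 ∣ Nat.card (normalizer (A : Set (Matrix.ProjectiveSpecialLinearGroup (Fin 2) F))) := by
  classical
  have h13 : Nat.Prime 13 := by norm_num
  have : Fact (Nat.Prime 13) := ⟨h13⟩
  refine ⟨(vv F).range, ?_, ?_⟩
  · rw [Nat.card_congr (MonoidHom.ofInjective vv_injective).symm.toEquiv, ← hF, ← Nat.card_eq_fintype_card]
    rfl
  · have h1 : 13 ∣ Nat.card (tt F).range := by
      have h2 := (tt F).ker.card_mul_index
      rw [index_ker, Nat.card_eq_fintype_card (α := Fˣ), Fintype.card_units, hF] at h2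
      have h3 : 13 ∣ Nat.card (tt F).ker * Nat.card (tt F).range := by
        rw [h2]
        norm_num
      rcases h13.dvd_mul.1 h3 with h4 | h4
      · exfalso
        obtain ⟨x, hx⟩ := exists_prime_orderOf_dvd_card' (G := (tt F).ker) 13 h4
        have h5 : x ^ 2 = 1 := Subtype.ext (sq_of_ker x.2)
        have h6 := orderOf_dvd_of_pow_eq_one h5
        rw [hx] at h6
        exact absurd (Nat.le_of_dvd (by norm_num) h6) (by norm_num)
      · exact h4
    refine h1.trans (card_dvd_of_le ?_)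
    have key : ∀ a : Fˣ, ∀ b ∈ (vv F).range, tt F a * b * (tt F a)⁻¹ ∈ (vv F).range := by
      rintro a _ ⟨s, rfl⟩
      refine ⟨Multiplicative.ofAdd ((a : F) * a * s.toAdd), ?_⟩
      rw [eq_mul_inv_iff_mul_eq]
      change QuotientGroup.mk' (center (Matrix.SpecialLinearGroup (Fin 2) F)) _ *
        QuotientGroup.mk' (center (Matrix.SpecialLinearGroup (Fin 2) F)) _ =
        QuotientGroup.mk' (center (Matrix.SpecialLinearGroup (Fin 2) F)) _ *
        QuotientGroup.mk' (center (Matrix.SpecialLinearGroup (Fin 2) F)) _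
      rw [← map_mul, ← map_mul]
      exact congrArg _ (dg_up a s.toAdd).symm
    rintro _ ⟨a, rfl⟩
    rw [Subgroup.mem_normalizer_iff]
    intro b
    refine ⟨key a b, fun hb => ?_⟩
    have h2 := key a⁻¹ _ hb
    rw [map_inv] at h2
    have h3 : (tt F a)⁻¹ * (tt F a * b * (tt F a)⁻¹) * ((tt F a)⁻¹)⁻¹ = b := by group
    rwa [h3] at h2

end Borel

end Cfsg.Agent.H823.Case27
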