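import Cfsg.Agent.H823.Case27A

/-!
# No known simple group satisfies `H27` (helper823)
-/

set_option autoImplicit false

namespace Cfsg.Agent.H823.Case27

open Subgroup Cfsg OrdDiv Cfsg.Agent.H344.List81 Cfsg.Agent.H341.ThreeList

universe u v

/-! ### the Tits group -/

theorem tits {S : Type u} [Group S] [Finite S] [hs : IsSimpleGroup S] (hna : ¬ ∀ a b : S, a * b = b * a)
    (h : Lie.IsoTits S) (hh : H27 S) : False := by
  have hn : (MulAut.conj : S →* MulAut S).range.Normal := Cfsg.Agent.Schreier.Basic.conj_range_normal _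
  have hcen : center S = ⊥ := by
    rcases hs.eq_bot_or_eq_top_of_normal (center S) inferInstance with h | h
    · exact h
    · exfalso
      apply hna
      intro a b
      have : b ∈ center S := by rw [h]; trivial
      exact Subgroup.mem_center_iff.1 this a
  have hinj : Function.Injective (MulAut.conj : S →* MulAut S) := by
    rw [injective_iff_map_eq_one]
    intro k hk
    have h1 : k ∈ center S := by
      rw [Subgroup.mem_center_iff]
      intro g
      have h2 : MulAut.conj k g = g := by rw [hk]; rfl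
      rw [MulAut.conj_apply] at h2
      exact (mul_inv_eq_iff_eq_mul.1 h2).symm
    rwa [hcen, Subgroup.mem_bot] at h1
  have hle := Cfsg.Agent.TitsK.index_le h (MulAut.conj : S →* MulAut S).range
    ⟨(MonoidHom.ofInjective hinj).symm⟩ (by
      rw [eq_bot_iff]
      intro φ hφ
      rw [Subgroup.mem_bot]
      apply MulEquiv.ext
      intro x
      rw [Subgroup.mem_centralizer_iff] at hφ
      have h1 := hφ (MulAut.conj x) ⟨x, rfl⟩
      have h2 : φ * MulAut.conj x * φ⁻¹ = MulAut.conj (φ x) := by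
        apply MulEquiv.ext
        intro y
        simp [MulAut.conj_apply]
      have h3 : MulAut.conj x = MulAut.conj (φ x) := by
        rw [← h2, ← h1]; group
      exact (hinj h3).symm)
  have h0 : (MulAut.conj : S →* MulAut S).range.index ≠ 0 := Subgroup.index_ne_zero_of_finite
  have h3 := Nat.le_of_dvd (Nat.pos_of_ne_zero h0) hh.out
  omega

/-! ### numbers -/

theorem nine_of_cube {p f : ℕ} (hp : ¬ 3 ∣ p ^ f) (hf : 3 ∣ f) : 9 ∣ (p ^ f) ^ 2 - 1 := by
  obtain ⟨k, rfl⟩ := hf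
  have h1 : ¬ 3 ∣ p ^ k := fun h => hp (h.trans (pow_dvd_pow p (by omega)))
  have h2 : (p ^ (3 * k)) ^ 2 = (p ^ k) ^ 6 := by rw [← pow_mul, ← pow_mul]; congr 1; ring
  rw [h2]
  exact nine_six h1

theorem nine_of_two {m : ℕ} (hf : 3 ∣ 2 * m + 1) : 9 ∣ 2 ^ (2 * m + 1) + 1 := by
  obtain ⟨k, hk⟩ := hf
  have h1 : (2 ^ k) % 3 = 2 := by
    have hko : k % 2 = 1 := by omega
    obtain ⟨j, rfl⟩ : ∃ j, k = 2 * j + 1 := ⟨k / 2, by omega⟩
    exact two_pow_mod j
  have h2 : 2 ^ (2 * m + 1) = (2 ^ k) ^ 3 := by rw [hk, ← pow_mul]; congr 1; ring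
  rw [h2]
  exact nine_cube' h1

/-- **No known simple group satisfies `H27`.** -/
theorem H27.false (T : OrderTable.{u}) {S : Type u} [Group S] [Finite S] [IsSimpleGroup S]
    (hk : IsKnownSimple' S) (hna : ¬ ∀ a b : S, a * b = b * a) (h : H27 S) : False := by
  have h5 : ¬ 3 ^ 5 ∣ Nat.card S := fun h5 => h.ndvd ((pow_dvd_pow 3 (by norm_num)).trans h5)
  have h4 := h.ndvd
  have hd := h.dvd
  cases kind_of_known T hk hna h.dvd h5 with
  | alt n h9 h11 e =>
    obtain ⟨e⟩ := e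
    have h1 := alt_card (show 5 ≤ n by omega) e
    apply h4
    refine dvd_of_mul (d := 2) (by norm_num) h1.symm ?_
    exact dvd_trans (by decide) (Nat.factorial_dvd_factorial h9)
  | psl2 F i1 i2 hq e =>
    obtain ⟨e⟩ := e
    have h' := h.of_equiv e
    rw [Nat.card_congr e.toEquiv] at h4 hd
    have hq1 : 1 < Fintype.card F := Fintype.one_lt_card
    have hc := card_psl (F := F) (n := 2) le_rfl
    rw [show 2 * (2 - 1) / 2 = 1 by norm_num, pow_one, show 2 - 1 = 1 by norm_num, Finset.prod_range_one,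
      zero_add] at hc
    have h27 : 3 ^ 3 ∣ Fintype.card F * (Fintype.card F ^ 2 - 1) := hc ▸ dvd_mul_of_dvd_right hd _
    have h81 : ¬ 3 ^ 4 ∣ Fintype.card F * (Fintype.card F ^ 2 - 1) := fun h' =>
      h4 (dvd_of_mul not_dvd_gcd_two hc h')
    by_cases h3 : Fintype.card F % 3 = 0
    · obtain ⟨m, hm, hF⟩ := Cfsg.Agent.H356.KillPSL.exists_pow_of h3
      have h1 : Nat.Coprime (3 ^ 3) (Fintype.card F ^ 2 - 1) := by
        refine Cfsg.Agent.H356.Num.cop3 ?_ 3
        have e1 : Fintype.card F ^ 2 % 3 = 0 := by simp [Nat.pow_mod, h3]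
        have e2 : 1 ≤ Fintype.card F ^ 2 := Nat.one_le_pow _ _ (by omega)
        omega
      have h2 := h1.dvd_of_dvd_mul_right h27
      have h3' : ¬ 3 ^ 4 ∣ Fintype.card F := fun h' => h81 (h'.mul_right _)
      rw [hF] at h2 h3'
      have h6 := (Nat.pow_dvd_pow_iff_le_right (by norm_num : 1 < 3)).1 h2
      have h7 : ¬ 4 ≤ m := fun h' => h3' ((Nat.pow_dvd_pow_iff_le_right (by norm_num : 1 < 3)).2 h')
      have h8 : m = 3 := by omega
      rw [h8] at hF
      obtain ⟨A, hA, hA'⟩ := borel (F := F) (hF.trans (by norm_num))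
      exact h'.nrm A hA hA'
    · have h2 : 27 ∣ Fintype.card F ^ 2 - 1 := (Cfsg.Agent.H356.Num.cop3 h3 3).dvd_of_dvd_mul_left h27
      obtain ⟨x, hx⟩ := psl_order (F := F) (n := 2) le_rfl h3 h2
      exact h'.ord x hx
  | psl3a F i1 i2 hq e =>
    obtain ⟨e⟩ := e
    rw [Nat.card_congr e.toEquiv] at h4
    have hc := card_psl (F := F) (n := 3) (by norm_num)
    have hgcd : Nat.gcd 3 (Fintype.card F - 1) = 3 := Nat.gcd_eq_left ((by norm_num : 3 ∣ 9).trans hq)
    rw [show 3 - 1 = 2 by rfl, Finset.prod_range_succ, Finset.prod_range_succ, Finset.prod_range_zero, one_mul,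
      hgcd] at hc
    norm_num at hc
    have hq1 : 1 < Fintype.card F := Fintype.one_lt_card
    set q := Fintype.card F with hqd
    have e2 : 9 ∣ q ^ 2 - 1 := hq.trans (by simpa using Nat.sub_dvd_pow_sub_pow q 1 2)
    have e3 : 27 ∣ q ^ 3 - 1 := by
      have h1 : 1 ≤ q ^ 3 := Nat.one_le_pow _ _ (by omega)
      apply (Nat.modEq_iff_dvd' h1).1
      change 1 % 27 = q ^ 3 % 27
      have : q % 27 = 1 ∨ q % 27 = 10 ∨ q % 27 = 19 := by omega
      rw [Nat.pow_mod]
      rcases this with h2 | h2 | h2 <;> rw [h2]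
    have h0 : 9 * 27 ∣ (q ^ 2 - 1) * (q ^ 3 - 1) := mul_dvd_mul e2 e3
    have h1 : 3 * 3 ^ 4 ∣ q ^ 3 * ((q ^ 2 - 1) * (q ^ 3 - 1)) :=
      Dvd.dvd.mul_left ((by norm_num : 3 * 3 ^ 4 ∣ 9 * 27).trans h0) _
    rw [← hc] at h1
    exact h4 (Nat.dvd_of_mul_dvd_mul_left (by norm_num) h1)
  | psl3b F i1 i2 hq e =>
    obtain ⟨e⟩ := e
    have h' := h.of_equiv e
    have h2 : 27 ∣ Fintype.card F ^ 2 - 1 := by
      refine hq.trans ?_
      have := Nat.sq_sub_sq (Fintype.card F) 1
      rw [one_pow] at this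
      rw [this]
      exact dvd_mul_right _ _
    obtain ⟨x, hx⟩ := psl_order (F := F) (n := 3) (by norm_num) (by omega) h2
    exact h'.ord x hx
  | psl3c F i1 i2 hq e =>
    obtain ⟨e⟩ := e
    exact h.of_out e (Or.inr (three_psl hq))
  | psl4a F i1 i2 hq e =>
    obtain ⟨e⟩ := e
    rw [Nat.card_congr e.toEquiv] at h4
    have hc := card_psl (F := F) (n := 4) (by norm_num)
    rw [show 4 - 1 = 3 by rfl, Finset.prod_range_succ, Finset.prod_range_succ, Finset.prod_range_succ,
      Finset.prod_range_zero, one_mul] at hc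
    norm_num at hc
    refine h4 (dvd_of_mul not_dvd_gcd_four hc (Dvd.dvd.mul_left ?_ _))
    calc 3 ^ 4 ∣ 3 * 9 * 3 := by norm_num
      _ ∣ _ := mul_dvd_mul (mul_dvd_mul (three_sq (by omega)) (nine_cube hq)) (three_four (by omega))
  | psl45b F i1 i2 n hn hq e =>
    obtain ⟨e⟩ := e
    rw [Nat.card_congr e.toEquiv] at h4
    have hg : ¬ 3 ∣ Nat.gcd n (Fintype.card F - 1) := by
      intro h'
      have := h'.trans (Nat.gcd_dvd_left _ _)
      omega
    have hc := card_psl (F := F) (n := n) (by omega)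
    refine h4 (dvd_of_mul hg hc (Dvd.dvd.mul_left ?_ _))
    have h1 : ∏ j ∈ Finset.range 3, (Fintype.card F ^ (j + 2) - 1) ∣
      ∏ j ∈ Finset.range (n - 1), (Fintype.card F ^ (j + 2) - 1) :=
      Finset.prod_dvd_prod_of_subset _ _ _ (Finset.range_subset_range.2 (by omega))
    refine dvd_trans ?_ h1
    rw [Finset.prod_range_succ, Finset.prod_range_succ, Finset.prod_range_succ, Finset.prod_range_zero, one_mul]
    norm_num
    have e2 : 9 ∣ Fintype.card F ^ 2 - 1 := by
      refine hq.trans ?_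
      have := Nat.sq_sub_sq (Fintype.card F) 1
      rw [one_pow] at this
      rw [this]
      exact dvd_mul_right _ _
    have e4 : 9 ∣ Fintype.card F ^ 4 - 1 := by
      have := Nat.sub_dvd_pow_sub_pow (Fintype.card F ^ 2) 1 2
      rw [one_pow, ← pow_mul] at this
      exact e2.trans this
    calc 81 ∣ 9 * 1 * 9 := by norm_num
      _ ∣ _ := mul_dvd_mul (mul_dvd_mul e2 (one_dvd _)) e4
  | psl67 F i1 i2 n hn hq e =>
    obtain ⟨e⟩ := e
    rw [Nat.card_congr e.toEquiv] at h4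
    have hg : ¬ 3 ∣ Nat.gcd n (Fintype.card F - 1) := by
      intro h'
      have := h'.trans (Nat.gcd_dvd_right _ _)
      omega
    have hc := card_psl (F := F) (n := n) (by omega)
    refine h4 (dvd_of_mul hg hc (Dvd.dvd.mul_left ?_ _))
    have h1 : ∏ j ∈ Finset.range 5, (Fintype.card F ^ (j + 2) - 1) ∣
      ∏ j ∈ Finset.range (n - 1), (Fintype.card F ^ (j + 2) - 1) :=
      Finset.prod_dvd_prod_of_subset _ _ _ (Finset.range_subset_range.2 (by omega))
    refine dvd_trans ?_ h1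
    rw [Finset.prod_range_succ, Finset.prod_range_succ, Finset.prod_range_succ, Finset.prod_range_succ,
      Finset.prod_range_succ, Finset.prod_range_zero, one_mul]
    norm_num
    calc 81 ∣ 3 * 1 * 3 * 1 * 9 := by norm_num
      _ ∣ _ := mul_dvd_mul (mul_dvd_mul (mul_dvd_mul (mul_dvd_mul (three_sq (by omega)) (one_dvd _))
        (three_four (by omega))) (one_dvd _)) (nine_six (by omega))
  | psu3a F i1 i2 q hF hq e =>
    obtain ⟨e⟩ := e
    rw [Nat.card_congr e.toEquiv] at h4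
    have hc := card_psu hF (n := 3) (by norm_num)
    have hgcd : Nat.gcd 3 (q + 1) = 3 := Nat.gcd_eq_left ((by norm_num : 3 ∣ 9).trans hq)
    rw [show 3 - 1 = 2 by rfl, Finset.prod_range_succ, Finset.prod_range_succ, Finset.prod_range_zero, one_mul,
      hgcd] at hc
    norm_num at hc
    have e2 : 9 ∣ q ^ 2 - 1 := by
      refine hq.trans ?_
      have := Nat.sq_sub_sq q 1
      rw [one_pow] at this
      rw [this]
      exact dvd_mul_right _ _
    have e3 : 27 ∣ q ^ 3 + 1 := by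
      apply Nat.dvd_of_mod_eq_zero
      have : q % 27 = 8 ∨ q % 27 = 17 ∨ q % 27 = 26 := by omega
      rw [Nat.add_mod, Nat.pow_mod]
      rcases this with h2 | h2 | h2 <;> rw [h2]
    have h0 : 9 * 27 ∣ (q ^ 2 - 1) * (q ^ 3 + 1) := mul_dvd_mul e2 e3
    have h1 : 3 * 3 ^ 4 ∣ q ^ 3 * ((q ^ 2 - 1) * (q ^ 3 + 1)) :=
      Dvd.dvd.mul_left ((by norm_num : 3 * 3 ^ 4 ∣ 9 * 27).trans h0) _
    rw [← hc] at h1
    exact h4 (Nat.dvd_of_mul_dvd_mul_left (by norm_num) h1)
  | psu3b F i1 i2 q hF hq e =>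
    obtain ⟨e⟩ := e
    have h' := h.of_equiv e
    have h2 : 27 ∣ q ^ 2 - 1 := hq.trans (by simpa using Nat.sub_dvd_pow_sub_pow q 1 2)
    have hq1 : 1 < q := by
      by_contra hq1
      have h3 : 1 < Fintype.card F := Fintype.one_lt_card
      have : q = 0 ∨ q = 1 := by omega
      rcases this with rfl | rfl <;> norm_num at hF <;> omega
    obtain ⟨x, hx⟩ := psu_order hF (by omega) h2
    exact h'.ord x hx
  | psu3c F i1 i2 hF e =>
    obtain ⟨e⟩ := e
    exact h.of_out e (Or.inr (three_psu hF))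
  | psu4a F i1 i2 q hF hq e =>
    obtain ⟨e⟩ := e
    rw [Nat.card_congr e.toEquiv] at h4
    have hc := card_psu hF (n := 4) (by norm_num)
    rw [show 4 - 1 = 3 by rfl, Finset.prod_range_succ, Finset.prod_range_succ, Finset.prod_range_succ,
      Finset.prod_range_zero, one_mul] at hc
    have he2 : Even 2 := ⟨1, rfl⟩
    have ho1 : ¬ Even 1 := by decide
    rw [if_pos (by decide), if_neg ho1, if_pos he2] at hc
    norm_num at hc
    refine h4 (dvd_of_mul not_dvd_gcd_four hc (Dvd.dvd.mul_left ?_ _))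
    calc 3 ^ 4 ∣ 3 * 9 * 3 := by norm_num
      _ ∣ _ := mul_dvd_mul (mul_dvd_mul (three_sq (by omega)) (nine_cube' hq)) (three_four (by omega))
  | psu45b F i1 i2 n q hn hF hq e =>
    obtain ⟨e⟩ := e
    rw [Nat.card_congr e.toEquiv] at h4
    have hg : ¬ 3 ∣ Nat.gcd n (q + 1) := by
      intro h'
      have := h'.trans (Nat.gcd_dvd_left _ _)
      omega
    have hc := card_psu hF (n := n) (by omega)
    refine h4 (dvd_of_mul hg hc (Dvd.dvd.mul_left ?_ _))
    have h1 : ∏ j ∈ Finset.range 3, (if Even j then q ^ (j + 2) - 1 else q ^ (j + 2) + 1) ∣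
      ∏ j ∈ Finset.range (n - 1), (if Even j then q ^ (j + 2) - 1 else q ^ (j + 2) + 1) :=
      Finset.prod_dvd_prod_of_subset _ _ _ (Finset.range_subset_range.2 (by omega))
    refine dvd_trans ?_ h1
    have he2 : Even 2 := ⟨1, rfl⟩
    have ho1 : ¬ Even 1 := by decide
    rw [Finset.prod_range_succ, Finset.prod_range_succ, Finset.prod_range_succ, Finset.prod_range_zero, one_mul,
      if_pos (by decide), if_neg ho1, if_pos he2]
    norm_num
    have e2 : 9 ∣ q ^ 2 - 1 := hq.trans (by simpa using Nat.sub_dvd_pow_sub_pow q 1 2)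
    have e4 : 9 ∣ q ^ 4 - 1 := by
      have := Nat.sub_dvd_pow_sub_pow (q ^ 2) 1 2
      rw [one_pow, ← pow_mul] at this
      exact e2.trans this
    calc 81 ∣ 9 * 1 * 9 := by norm_num
      _ ∣ _ := mul_dvd_mul (mul_dvd_mul e2 (one_dvd _)) e4
  | psu67 F i1 i2 n q hn hF hq e =>
    obtain ⟨e⟩ := e
    rw [Nat.card_congr e.toEquiv] at h4
    have hg : ¬ 3 ∣ Nat.gcd n (q + 1) := by
      intro h'
      have := h'.trans (Nat.gcd_dvd_right _ _)
      omega
    have hc := card_psu hF (n := n) (by omega)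
    refine h4 (dvd_of_mul hg hc (Dvd.dvd.mul_left ?_ _))
    have h1 : ∏ j ∈ Finset.range 5, (if Even j then q ^ (j + 2) - 1 else q ^ (j + 2) + 1) ∣
      ∏ j ∈ Finset.range (n - 1), (if Even j then q ^ (j + 2) - 1 else q ^ (j + 2) + 1) :=
      Finset.prod_dvd_prod_of_subset _ _ _ (Finset.range_subset_range.2 (by omega))
    refine dvd_trans ?_ h1
    have he2 : Even 2 := ⟨1, rfl⟩
    have he4 : Even 4 := ⟨2, rfl⟩
    have ho1 : ¬ Even 1 := by decide
    have ho3 : ¬ Even 3 := by decide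
    rw [Finset.prod_range_succ, Finset.prod_range_succ, Finset.prod_range_succ, Finset.prod_range_succ,
      Finset.prod_range_succ, Finset.prod_range_zero, one_mul,
      if_pos (by decide), if_neg ho1, if_pos he2, if_neg ho3, if_pos he4]
    norm_num
    calc 81 ∣ 3 * 1 * 3 * 1 * 9 := by norm_num
      _ ∣ _ := mul_dvd_mul (mul_dvd_mul (mul_dvd_mul (mul_dvd_mul (three_sq (by omega)) (one_dvd _))
        (three_four (by omega))) (one_dvd _)) (nine_six (by omega))
  | psp4a F i1 i2 hq e =>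
    obtain ⟨e⟩ := e
    rw [Nat.card_congr e.toEquiv] at h4
    have hc := card_psp (F := F) (m := 2) (by norm_num)
    refine h4 (dvd_of_mul not_dvd_gcd_two hc (Dvd.dvd.mul_right ?_ _))
    rw [hq]
    norm_num
  | psp4b F i1 i2 hq e =>
    obtain ⟨e⟩ := e
    rw [Nat.card_congr e.toEquiv] at h4
    have hc := card_psp (F := F) (m := 2) (by norm_num)
    rw [Finset.prod_range_succ, Finset.prod_range_succ, Finset.prod_range_zero, one_mul] at hc
    norm_num at hc
    refine h4 (dvd_of_mul not_dvd_gcd_two hc (Dvd.dvd.mul_left ?_ _))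
    have e4 : 9 ∣ Fintype.card F ^ 4 - 1 := by
      have := Nat.sub_dvd_pow_sub_pow (Fintype.card F ^ 2) 1 2
      rw [one_pow, ← pow_mul] at this
      exact hq.trans this
    exact (by norm_num : 3 ^ 4 = 9 * 9) ▸ mul_dvd_mul hq e4
  | psp6 F i1 i2 hq e =>
    obtain ⟨e⟩ := e
    rw [Nat.card_congr e.toEquiv] at h4
    have hc := card_psp (F := F) (m := 3) (by norm_num)
    exact h4 (dvd_of_mul not_dvd_gcd_two hc (Dvd.dvd.mul_left (prod3 hq le_rfl) _))
  | oodd F i1 i2 hq ho e =>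
    obtain ⟨e⟩ := e
    rw [Nat.card_congr e.toEquiv] at h4
    have hc := Cfsg.Agent.S0292.result (F := F) rfl ho 3 le_rfl
    exact h4 (dvd_of_mul (by norm_num) hc (Dvd.dvd.mul_left (prod3 hq le_rfl) _))
  | ominus F i1 i2 a b hq hab e =>
    obtain ⟨e⟩ := e
    rw [Nat.card_congr e.toEquiv] at h4
    have hc := Cfsg.Agent.S0294.result (F := F) rfl 4 le_rfl a b hab
    exact h4 (dvd_of_mul not_dvd_gcd_four hc (Dvd.dvd.mul_left (prod3 hq (by norm_num)) _))
  | g2 F i1 i2 h3 hq h9 e =>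
    obtain ⟨e⟩ := e
    obtain ⟨p, hp⟩ := CharP.exists F
    obtain ⟨f, hpp, hf⟩ := FiniteField.card F p
    have : Fact p.Prime := ⟨hpp⟩
    have h1 := Cfsg.Agent.S2121.result p f hf (hf ▸ h3)
    have hp3 : p ≠ 3 := by
      rintro rfl
      apply hq
      rw [hf]
      exact dvd_pow_self 3 f.2.ne'
    rw [if_neg hp3] at h1
    have h2 : 3 ∣ Nat.card (Out ↥(Lie.chevG2.group F)) := (h.of_equiv e).out
    rw [h1] at h2
    rw [hf] at h9 hq
    exact h9 (nine_of_cube hq h2)
  | td4 F i1 i2 q hq hF h3 e =>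
    obtain ⟨e⟩ := e
    rw [Nat.card_congr e.toEquiv, T.td4 F q hq hF] at h4
    have e1 : 3 ∣ q ^ 8 + q ^ 4 + 1 := by
      have h1 : q % 3 = 1 ∨ q % 3 = 2 := by omega
      apply Nat.dvd_of_mod_eq_zero
      rcases h1 with h1 | h1 <;> simp [Nat.add_mod, Nat.pow_mod, h1]
    apply h4
    calc 3 ^ 4 ∣ 1 * 3 * 9 * 3 := by norm_num
      _ ∣ _ := mul_dvd_mul (mul_dvd_mul (mul_dvd_mul (one_dvd _) (three_sq h3)) (nine_six h3)) e1
  | tf4 F i1 i2 m hm hF h9 e =>
    obtain ⟨e⟩ := e
    have h1 := Cfsg.Agent.S2128.result hm hF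
    have h2 : 3 ∣ Nat.card (Out ↥(Lie.twistedF4 F (2 ^ m))) := (h.of_equiv e).out
    rw [h1] at h2
    exact h9 (nine_of_two h2)
  | tits ht => exact tits hna ht h
  | m12 hs =>
    obtain ⟨e⟩ := hs
    exact h.of_out e (Or.inr Cfsg.Agent.S2061.result)
  | m24 hs =>
    obtain ⟨e⟩ := hs
    exact h.of_out e (Or.inl Cfsg.Agent.S2064.result)
  | j2 hs =>
    obtain ⟨e⟩ := hs
    exact h.of_out e (Or.inr Cfsg.Agent.S2066.result)
  | j4 hs =>
    obtain ⟨e⟩ := hs
    exact h.of_out e (Or.inl Cfsg.Agent.S2068.result)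
  | he hs =>
    obtain ⟨e⟩ := hs
    exact h.of_out e (Or.inr Cfsg.Agent.S2075.result)
  | ru hs =>
    obtain ⟨e⟩ := hs
    exact h.of_out e (Or.inl Cfsg.Agent.S2077.result)
  | on hs =>
    apply h4
    rw [T.spor S (.on, 460815505920) (by decide) hs]
    norm_num

end Cfsg.Agent.H823.Case27
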