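import Cfsg.Prelude.Def_MonsterType
import Cfsg.Agent.LargeExtra.Base

/-!
# Large extraspecial subgroups: from `IsLargeExtraspecial` to the elementwise description `Large`

* `large_of`: an extraspecial `Q ≤ G` with `C_G(Q) = Z(Q) = ⟨z⟩` and `Q ⊴ C_G(Z(Q))` satisfies `Large Q z`.
* `pair_of`: moreover for `z ^ g ∈ Q`, `g` not centralizing `z`, one gets `Pair Q z (Q ^ g) (z ^ g)` (so `z ∈ Q ^ g`
  and `N_G(⟨z, z^g⟩)` induces `S₃`).
-/

set_option autoImplicit false

namespace Cfsg.Agent.H823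

open Cfsg Cfsg.Agent.Co2Type.Quad Cfsg.Agent.LargeExtra.Base

variable {G : Type*} [Group G]

/-- An extraspecial subgroup `Q` with `C_G(Q) = Z(Q) = ⟨z⟩`, normal in `C_G(z)`, is `Large`. -/
theorem large_of {Q : Subgroup G} {z : G} [Finite Q] (hE : Cfsg.IsExtraspecial 2 ↥Q)
    (hcen : Subgroup.centralizer (Q : Set G) = (Subgroup.center ↥Q).map Q.subtype)
    (hn : Subgroup.centralizer (((Subgroup.center ↥Q).map Q.subtype : Subgroup G) : Set G) ≤
      Subgroup.normalizer (Q : Set G))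
    (hz : (Subgroup.center ↥Q).map Q.subtype = Subgroup.zpowers z) (hz2 : orderOf z = 2) : Large Q z := by
  have hzz : z * z = 1 := by rw [← pow_two, ← hz2]; exact pow_orderOf_eq_one z
  have hz1 : z ≠ 1 := by
    intro h; rw [h, orderOf_one] at hz2; exact absurd hz2 (by norm_num)
  have hmem : ∀ x, x ∈ Subgroup.zpowers z ↔ x = 1 ∨ x = z := by
    intro x
    constructor
    · rintro ⟨k, rfl⟩
      rcases Int.even_or_odd' k with ⟨m, rfl | rfl⟩
      · left
        show z ^ (2 * m) = 1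
        rw [zpow_mul, zpow_ofNat, pow_two, hzz, one_zpow]
      · right
        show z ^ (2 * m + 1) = z
        rw [zpow_add, zpow_mul, zpow_ofNat, pow_two, hzz, one_zpow, zpow_one, one_mul]
    · rintro (rfl | rfl)
      · exact one_mem _
      · exact Subgroup.mem_zpowers _
  have hZ : ∀ x : Q, x ∈ Subgroup.center Q ↔ (x : G) = 1 ∨ (x : G) = z := by
    intro x
    rw [← hmem, ← hz]
    constructor
    · intro hx; exact ⟨x, hx, rfl⟩
    · rintro ⟨y, hy, hyx⟩
      have : y = x := Subtype.ext hyx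
      rw [← this]; exact hy
  have hzQ : z ∈ Q := by
    have : z ∈ (Subgroup.center ↥Q).map Q.subtype := by rw [hz]; exact Subgroup.mem_zpowers z
    obtain ⟨y, -, rfl⟩ := this
    exact y.2
  have hzc : (⟨z, hzQ⟩ : Q) ∈ Subgroup.center Q := (hZ _).2 (Or.inr rfl)
  have hcz : ∀ x ∈ Q, x * z = z * x := by
    intro x hx
    have := Subgroup.mem_center_iff.1 hzc ⟨x, hx⟩
    exact congrArg Subtype.val this
  refine ⟨hzQ, hz1, hzz, hcz, ?_, ?_, ?_, ?_, ?_⟩
  · intro g hg x hx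
    have h1 : g ∈ Subgroup.centralizer (((Subgroup.center ↥Q).map Q.subtype : Subgroup G) : Set G) := by
      rw [hz, Subgroup.mem_centralizer_iff]
      intro y hy
      rcases (hmem y).1 hy with rfl | rfl
      · rw [one_mul, mul_one]
      · exact hg.symm
    exact (Subgroup.mem_normalizer_iff.1 (hn h1) x).1 hx
  · intro x hx
    have h1 : (⟨x, hx⟩ : Q) ^ 2 ∈ Subgroup.center Q :=
      Cfsg.Agent.Transfer.Extraspecial.pow_mem_center hE ⟨x, hx⟩
    have h2 := (hZ _).1 h1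
    rw [← pow_two]
    exact h2
  · intro x hx y hy
    have h1 := Cfsg.Agent.Transfer.Extraspecial.comm_mem_center hE (⟨y, hy⟩ : Q)⁻¹ (⟨x, hx⟩ : Q)⁻¹
    rcases (hZ _).1 h1 with h2 | h2
    · left
      have h3 : (y : G)⁻¹ * (x : G)⁻¹ * ((y : G)⁻¹)⁻¹ * ((x : G)⁻¹)⁻¹ = 1 := h2
      have h4 : (x : G) * y = (x * y : G) * ((y : G)⁻¹ * (x : G)⁻¹ * ((y : G)⁻¹)⁻¹ * ((x : G)⁻¹)⁻¹) := by
        rw [h3, mul_one]
      calc (x : G) * y = (x * y : G) * ((y : G)⁻¹ * (x : G)⁻¹ * ((y : G)⁻¹)⁻¹ * ((x : G)⁻¹)⁻¹) := h4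
        _ = y * x := by group
    · right
      have h3 : (y : G)⁻¹ * (x : G)⁻¹ * ((y : G)⁻¹)⁻¹ * ((x : G)⁻¹)⁻¹ = z := h2
      calc (x : G) * y
          = (x * y : G) * ((y : G)⁻¹ * (x : G)⁻¹ * ((y : G)⁻¹)⁻¹ * ((x : G)⁻¹)⁻¹) *
            ((y : G)⁻¹ * (x : G)⁻¹ * ((y : G)⁻¹)⁻¹ * ((x : G)⁻¹)⁻¹)⁻¹ := by group
        _ = y * x * z⁻¹ := by rw [h3]; rw [← h3]; group
        _ = y * x * z := by rw [inv_eq_of_mul_eq_one_left hzz]
  · intro x hx hc
    have h1 : (⟨x, hx⟩ : Q) ∈ Subgroup.center Q := by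
      rw [Subgroup.mem_center_iff]
      intro y
      apply Subtype.ext
      exact (hc y y.2).symm
    exact (hZ _).1 h1
  · intro g _ hc
    have h1 : g ∈ Subgroup.centralizer (Q : Set G) := by
      rw [Subgroup.mem_centralizer_iff]
      intro y hy
      exact (hc y hy).symm
    rw [hcen] at h1
    obtain ⟨y, -, rfl⟩ := h1
    exact y.2

/-- The centre of an extraspecial 2-group is generated by an involution. -/
theorem exists_gen {Q : Subgroup G} (hE : Cfsg.IsExtraspecial 2 ↥Q) :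
    ∃ z : G, (Subgroup.center ↥Q).map Q.subtype = Subgroup.zpowers z ∧ orderOf z = 2 := by
  have hc : Nat.card ((Subgroup.center ↥Q).map Q.subtype) = 2 := by
    rw [Nat.card_congr ((Subgroup.center ↥Q).equivMapOfInjective Q.subtype Q.subtype_injective).toEquiv.symm]
    exact hE.2
  have : Fact (Nat.Prime 2) := ⟨Nat.prime_two⟩
  have : Finite ((Subgroup.center ↥Q).map Q.subtype) := Nat.finite_of_card_ne_zero (by rw [hc]; norm_num)
  have : IsCyclic ((Subgroup.center ↥Q).map Q.subtype) := isCyclic_of_prime_card hc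
  obtain ⟨z, hz⟩ := IsCyclic.exists_generator (α := ((Subgroup.center ↥Q).map Q.subtype))
  refine ⟨z, ?_, ?_⟩
  · apply le_antisymm
    · intro x hx
      obtain ⟨k, hk⟩ := hz ⟨x, hx⟩
      exact ⟨k, congrArg Subtype.val hk⟩
    · rw [Subgroup.zpowers_le]; exact z.2
  · rw [Subgroup.orderOf_coe, ← hc]
    exact orderOf_eq_card_of_forall_mem_zpowers hz

/-- `Large` from `IsLargeExtraspecial`. -/
theorem large_of_isLarge {Q : Subgroup G} {z : G} [Finite Q] (hQ : Cfsg.IsLargeExtraspecial Q)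
    (hz : (Subgroup.center ↥Q).map Q.subtype = Subgroup.zpowers z) (hz2 : orderOf z = 2) : Large Q z :=
  large_of hQ.1 hQ.2.1 hQ.2.2.1 hz hz2

end Cfsg.Agent.H823
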