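import Cfsg.Agent.H823.ExtraLift
import Cfsg.Agent.H823.Core
import Cfsg.Agent.LieClassical.OrthFourCommon
import Cfsg.Prelude.Def_KGroupFacts
import Cfsg.Agent.J2.ExtQuot

/-!
# The outer automorphism group of an extraspecial 2-group

`h : Large (⊤ : Subgroup E) z`, `E` finite (an extraspecial 2-group or a group of order two):

* `actE h : MulAut E →* (h.V ≃ₗ h.V)`, `actE_apply`;
* `actE_ker`: the kernel is `Inn E`; `actE_range`: the image is the isometry group of `h.q`;
* `out_equiv`: `Out E ≃* isom h.q`.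
-/

set_option autoImplicit false

namespace Cfsg.Agent.H823

open Cfsg.Agent.Co2Type.Quad Cfsg.Agent.LieClassical.OrthFourCommon

variable {E : Type*} [Group E] {z : E}

/-- projection `E → E / ⟨z⟩` -/
def prE (h : Large (⊤ : Subgroup E) z) (x : E) : h.V := h.pr ⟨x, Subgroup.mem_top x⟩

theorem prE_surjective (h : Large (⊤ : Subgroup E) z) : Function.Surjective (prE h) := by
  intro v
  obtain ⟨x, rfl⟩ := h.pr_surjective v
  exact ⟨x, rfl⟩

theorem prE_mul (h : Large (⊤ : Subgroup E) z) (x y : E) : prE h (x * y) = prE h x + prE h y :=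
  h.pr_mul ⟨x, Subgroup.mem_top x⟩ ⟨y, Subgroup.mem_top y⟩

theorem prE_eq (h : Large (⊤ : Subgroup E) z) {x y : E} : prE h x = prE h y ↔ x = y ∨ x = y * z :=
  h.pr_eq_pr

theorem prE_eq_zero (h : Large (⊤ : Subgroup E) z) {x : E} : prE h x = 0 ↔ x = 1 ∨ x = z :=
  h.pr_eq_zero

theorem prE_one (h : Large (⊤ : Subgroup E) z) : prE h 1 = 0 := h.pr_one

/-- automorphisms fix `z` -/
theorem aut_z (h : Large (⊤ : Subgroup E) z) (α : MulAut E) : α z = z := by
  have h1 : α z = 1 ∨ α z = z := by
    refine h.cent _ (Subgroup.mem_top _) fun y _ => ?_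
    obtain ⟨x, rfl⟩ := α.surjective y
    rw [← map_mul, ← map_mul, h.comm_z x (Subgroup.mem_top x)]
  rcases h1 with h1 | h1
  · exfalso
    apply h.z_ne
    rw [← α.map_eq_one_iff, h1]
  · exact h1

/-- a representative of a vector -/
noncomputable def repE (h : Large (⊤ : Subgroup E) z) (v : h.V) : E := Function.surjInv (prE_surjective h) v

theorem prE_repE (h : Large (⊤ : Subgroup E) z) (v : h.V) : prE h (repE h v) = v :=
  Function.surjInv_eq (prE_surjective h) v

/-- the action on vectors -/
noncomputable def actE0 (h : Large (⊤ : Subgroup E) z) (α : MulAut E) (v : h.V) : h.V := prE h (α (repE h v))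

theorem actE0_prE (h : Large (⊤ : Subgroup E) z) (α : MulAut E) (x : E) : actE0 h α (prE h x) = prE h (α x) := by
  rw [actE0, prE_eq]
  rcases (prE_eq h).1 (prE_repE h (prE h x)) with h1 | h1
  · left; rw [h1]
  · right; rw [h1, map_mul, aut_z h]

/-- the action of the automorphism group on `E / ⟨z⟩` -/
noncomputable def actE (h : Large (⊤ : Subgroup E) z) : MulAut E →* (h.V ≃ₗ[ZMod 2] h.V) where
  toFun α :=
    { toFun := actE0 h α
      invFun := actE0 h α⁻¹
      map_add' := by
        intro v w
        obtain ⟨x, rfl⟩ := prE_surjective h v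
        obtain ⟨y, rfl⟩ := prE_surjective h w
        rw [← prE_mul, actE0_prE, actE0_prE, actE0_prE, map_mul, prE_mul]
      map_smul' := by
        intro c v
        obtain ⟨x, rfl⟩ := prE_surjective h v
        have hc : c = 0 ∨ c = 1 := by revert c; decide
        rcases hc with rfl | rfl
        · rw [zero_smul, RingHom.id_apply, zero_smul, ← prE_one h, actE0_prE, map_one]
        · rw [one_smul, RingHom.id_apply, one_smul]
      left_inv := by
        intro v
        obtain ⟨x, rfl⟩ := prE_surjective h v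
        rw [actE0_prE, actE0_prE, MulAut.inv_apply_self]
      right_inv := by
        intro v
        obtain ⟨x, rfl⟩ := prE_surjective h v
        rw [actE0_prE, actE0_prE, MulAut.apply_inv_self] }
  map_one' := by
    ext v
    obtain ⟨x, rfl⟩ := prE_surjective h v
    exact actE0_prE h 1 x
  map_mul' α β := by
    ext v
    obtain ⟨x, rfl⟩ := prE_surjective h v
    show actE0 h (α * β) (prE h x) = actE0 h α (actE0 h β (prE h x))
    rw [actE0_prE, actE0_prE, actE0_prE, MulAut.mul_apply]

theorem actE_prE (h : Large (⊤ : Subgroup E) z) (α : MulAut E) (x : E) : actE h α (prE h x) = prE h (α x) :=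
  actE0_prE h α x

/-- the image consists of isometries -/
theorem q_actE (h : Large (⊤ : Subgroup E) z) (α : MulAut E) (v : h.V) : h.q (actE h α v) = h.q v := by
  obtain ⟨x, rfl⟩ := prE_surjective h v
  rw [actE_prE]
  rcases h.sq x (Subgroup.mem_top x) with h1 | h1
  · have h2 : h.q (prE h x) = 0 := h.q_eq_zero.2 h1
    rw [h2]
    refine h.q_eq_zero.2 ?_
    show α x * α x = 1
    rw [← map_mul, h1, map_one]
  · have h2 : h.q (prE h x) = 1 := h.q_eq_one.2 h1
    rw [h2]
    refine h.q_eq_one.2 ?_
    show α x * α x = z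
    rw [← map_mul, h1, aut_z h]

/-- **the image is the full isometry group** -/
theorem actE_range [Finite E] (h : Large (⊤ : Subgroup E) z) : (actE h).range = isom h.q := by
  apply le_antisymm
  · rintro _ ⟨α, rfl⟩
    exact q_actE h α
  · intro f hf
    obtain ⟨α, hα⟩ := exists_lift h h f hf
    refine ⟨(Subgroup.topEquiv.symm.trans α).trans Subgroup.topEquiv, ?_⟩
    ext v
    obtain ⟨x, rfl⟩ := prE_surjective h v
    rw [actE_prE]
    exact hα ⟨x, Subgroup.mem_top x⟩

/-- **the kernel is the inner automorphism group** -/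
theorem actE_ker [Finite E] (h : Large (⊤ : Subgroup E) z) : (actE h).ker = Cfsg.Inn E := by
  apply le_antisymm
  · intro α hα
    rw [MonoidHom.mem_ker] at hα
    have h1 : ∀ x, α x = x ∨ α x = x * z := by
      intro x
      rw [← prE_eq h, ← actE_prE, hα]
      rfl
    -- the functional
    have hsub : ∀ v : h.V, ∃ c : ZMod 2, ∀ x, prE h x = v → ((α x = x ∧ c = 0) ∨ (α x = x * z ∧ c = 1)) := by
      intro v
      obtain ⟨x, rfl⟩ := prE_surjective h v
      rcases h1 x with h2 | h2
      · refine ⟨0, fun y hy => Or.inl ⟨?_, rfl⟩⟩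
        rcases (prE_eq h).1 hy with h3 | h3
        · rw [h3, h2]
        · rw [h3, map_mul, h2, aut_z h]
      · refine ⟨1, fun y hy => Or.inr ⟨?_, rfl⟩⟩
        rcases (prE_eq h).1 hy with h3 | h3
        · rw [h3, h2]
        · rw [h3, map_mul, h2, aut_z h]
    choose c hc using hsub
    have hx1 : ∀ x : E, x * z ≠ x := fun x hx => h.z_ne (mul_eq_left.1 hx)
    have hcz : ∀ x : E, x * z = z * x := fun x => h.comm_z x (Subgroup.mem_top x)
    have hadd : ∀ v w, c (v + w) = c v + c w := by
      intro v w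
      obtain ⟨x, rfl⟩ := prE_surjective h v
      obtain ⟨y, rfl⟩ := prE_surjective h w
      have h2 := hc _ (x * y) (prE_mul h x y)
      have h3 := hc _ x rfl
      have h4 := hc _ y rfl
      rcases h3 with ⟨h3, h5⟩ | ⟨h3, h5⟩ <;> rcases h4 with ⟨h4, h6⟩ | ⟨h4, h6⟩ <;>
        rcases h2 with ⟨h2, h7⟩ | ⟨h2, h7⟩ <;> rw [h5, h6, h7] <;> try rfl
      all_goals exfalso; rw [map_mul, h3, h4] at h2
      · exact hx1 _ h2.symm
      · apply hx1 (x * y)
        rw [← mul_assoc] at h2
        exact h2
      · apply hx1 (x * y)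
        rw [mul_assoc, hcz y, ← mul_assoc]
        exact h2
      · apply hx1 (x * y)
        rw [mul_assoc x y z, hcz y, ← mul_assoc]
        rw [← mul_assoc] at h2
        exact mul_right_cancel h2
    let φ : h.V →ₗ[ZMod 2] ZMod 2 := AddMonoidHom.toZModLinearMap 2
      { toFun := c
        map_zero' := by
          have := hadd 0 0
          rw [add_zero] at this
          exact left_eq_add.1 this
        map_add' := hadd }
    obtain ⟨v, hv⟩ := h.exists_b_eq φ
    obtain ⟨y, rfl⟩ := prE_surjective h v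
    refine ⟨y, ?_⟩
    ext x
    rw [MulAut.conj_apply]
    have h2 : h.b (prE h y) (prE h x) = c (prE h x) := hv _
    rcases hc _ x rfl with ⟨h3, h4⟩ | ⟨h3, h4⟩
    · rw [h4] at h2
      have h5 : y * x = x * y := (h.b_pr ⟨y, _⟩ ⟨x, _⟩).1 h2
      rw [h3, h5]; group
    · rw [h4] at h2
      have h5 : y * x = x * y * z := (h.b_pr_one ⟨y, _⟩ ⟨x, _⟩).1 h2
      rw [h3, h5, mul_assoc x y z, hcz y]; group
  · rintro _ ⟨y, rfl⟩
    rw [MonoidHom.mem_ker]
    ext v
    obtain ⟨x, rfl⟩ := prE_surjective h v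
    rw [actE_prE, MulAut.conj_apply]
    show prE h (y * x * y⁻¹) = prE h x
    rw [prE_eq]
    have hcz : ∀ x : E, x * z = z * x := fun x => h.comm_z x (Subgroup.mem_top x)
    rcases h.comm y (Subgroup.mem_top y) x (Subgroup.mem_top x) with h1 | h1
    · left; rw [h1]; group
    · right; rw [h1, mul_assoc x y z, hcz y]; group

/-- **`Out E` is the isometry group of the quadratic form of `E / ⟨z⟩`** -/
theorem out_equiv [Finite E] (h : Large (⊤ : Subgroup E) z) : Nonempty (Cfsg.Out E ≃* isom h.q) :=
  ⟨((QuotientGroup.quotientMulEquivOfEq (actE_ker h).symm).trans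
    (QuotientGroup.quotientKerEquivRange (actE h))).trans (MulEquiv.subgroupCongr (actE_range h))⟩

/-- an extraspecial 2-group is `Large` in itself -/
theorem large_top [Finite E] (hE : Cfsg.IsExtraspecial 2 E) : ∃ z : E, Large (⊤ : Subgroup E) z := by
  have hT : Cfsg.IsExtraspecial 2 ↥(⊤ : Subgroup E) :=
    Cfsg.Agent.J2.ExtQuot.isExtraspecial_of_equiv Subgroup.topEquiv.symm hE
  obtain ⟨z, hz, hz2⟩ := exists_gen hT
  refine ⟨z, large_of hT ?_ ?_ hz hz2⟩
  · apply le_antisymm
    · intro x hx
      refine ⟨⟨x, Subgroup.mem_top x⟩, ?_, rfl⟩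
      show (⟨x, Subgroup.mem_top x⟩ : (⊤ : Subgroup E)) ∈ Subgroup.center _
      rw [Subgroup.mem_center_iff]
      intro y
      apply Subtype.ext
      exact Subgroup.mem_centralizer_iff.1 hx y y.2
    · rintro _ ⟨x, hx, rfl⟩
      rw [Subgroup.mem_centralizer_iff]
      intro y hy
      exact congrArg Subtype.val (Subgroup.mem_center_iff.1 hx ⟨y, hy⟩)
  · intro x _
    rw [Subgroup.mem_normalizer_iff]
    intro y
    exact ⟨fun _ => Subgroup.mem_top _, fun _ => Subgroup.mem_top _⟩

end Cfsg.Agent.H823
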