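import Mathlib
import Cfsg.Agent.H823.NfTwF

/-!
# `NF 2 p` for `²F₄(q)`, `q ≥ 8`, all odd primes `p` (helper823, for helper84, helper459)
-/

set_option autoImplicit false
set_option linter.unusedSectionVars false

namespace Cfsg.Agent.H823.NfTwFOdd

open Subgroup Cfsg
open Cfsg.Agent.SplitTwo Cfsg.Agent.SplitTwo.ZS
open Cfsg.Agent.H823.GateTwo Cfsg.Agent.H823.NfTwF
open Cfsg.Agent.KFacts.TwF4 Cfsg.Agent.TitsThree.RankTwoZ

section Main

open Cfsg.Agent.H459.Rad Cfsg.Agent.H459.Gallery Cfsg.Agent.H459.NonEll Cfsg.Agent.H459.Iface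
open Cfsg.Agent.Schreier.BNSch Cfsg.Agent.KFacts.TwF4.Perf Cfsg.Agent.KFacts.TwF4.SylU

variable {F : Type*} [Field F] [Finite F] {σ : F →+* F} {G : Type*} [Group G] [Finite G] (S : Full σ G)
  {P : BNPair G} (hPB : P.B = normalizer (J S.XZ 1 8 : Set G)) (hPS : P.S = {S.n1, S.n2})

/-- two generators: no automorphism of odd order of the diagram -/
theorem rig_odd (hirr : P.Irreducible) {s t : G} (hS : P.S = {s, t}) (hst : s ≠ t) {p : ℕ} (hp : p.Prime) (hp2 : p ≠ 2) :
    Rig P p := by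
  classical
  intro z hz hzp
  have hsS : s ∈ P.S := by rw [hS]; exact Set.mem_insert _ _
  have htS : t ∈ P.S := by rw [hS]; exact Set.mem_insert_of_mem _ rfl
  let f : Bool → G := fun b => if b then s else t
  have hrange : Set.range f = P.S := by
    rw [hS]
    ext g
    constructor
    · rintro ⟨b, rfl⟩
      cases b
      · exact Or.inr rfl
      · exact Or.inl rfl
    · rintro (rfl | h)
      · exact ⟨true, rfl⟩
      · rw [Set.mem_singleton_iff] at h
        subst h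
        exact ⟨false, rfl⟩
  have hinj : Function.Injective f := by
    intro a b hab
    cases a <;> cases b
    · rfl
    · exact absurd hab.symm hst
    · exact absurd hab hst
    · rfl
  have hcomm : ∀ a b : G, a ∈ P.S → b ∈ P.S → a ≠ b → a * b * a⁻¹ * b⁻¹ ∉ P.B := by
    intro a b ha hb hab
    obtain ⟨a', ha', b', ⟨hb', hb''⟩, h⟩ := hirr {a} (Set.singleton_subset_iff.2 ha) (Set.singleton_nonempty a)
      ⟨b, hb, fun h => hab (Set.mem_singleton_iff.1 h).symm⟩
    rw [Set.mem_singleton_iff] at ha'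
    subst ha'
    have hbb : b' = b := by
      rw [hS] at ha hb hb'
      rw [Set.mem_singleton_iff] at hb''
      rcases ha with rfl | ha <;> rcases hb with rfl | hb <;> rcases hb' with rfl | hb'
      · rfl
      · exact absurd rfl hab
      · exact absurd rfl hb''
      · rw [Set.mem_singleton_iff] at hb hb'
        rw [hb, hb']
      · rfl
      · rw [Set.mem_singleton_iff] at ha hb'
        exact absurd (hb'.trans ha.symm) hb''
      · rw [Set.mem_singleton_iff] at ha hb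
        exact absurd (ha.trans hb.symm) hab
      · rw [Set.mem_singleton_iff] at hb hb'
        rw [hb, hb']
    rw [← hbb]
    exact h
  have hfS : ∀ i, f i ∈ P.S := fun i => by rw [← hrange]; exact ⟨i, rfl⟩
  obtain ⟨τ, hτ1, -⟩ := Cfsg.Agent.Schreier.BNGraph.exists_perm P f hrange hinj (fun i j => i ≠ j)
    (fun i hi => hi rfl) (fun i j hij => ⟨fun _ => hcomm _ _ (hfS i) (hfS j) fun h => hij (hinj h), fun _ => hij⟩)
    z hz.map_eq
  have hpow : ∀ (k : ℕ) (i : Bool), (P.parabolic {f i}).map (z ^ k).toMonoidHom = P.parabolic {f ((τ ^ k) i)} := by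
    intro k
    induction k with
    | zero =>
      intro i
      rw [pow_zero, pow_zero]
      exact Subgroup.map_id _
    | succ k ih =>
      intro i
      have e2 : (z ^ (k + 1)).toMonoidHom = (z ^ k).toMonoidHom.comp z.toMonoidHom := by
        rw [pow_succ]; rfl
      rw [e2, ← Subgroup.map_map, hτ1, ih, pow_succ]
      rfl
  have hτk : τ ^ p = 1 := by
    ext i
    have h6 := hpow p i
    obtain ⟨b, hb, hzb⟩ := hzp
    rw [hzb] at h6
    have h7 : P.parabolic {f i} = P.parabolic {f ((τ ^ p) i)} := by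
      rw [← h6]
      exact (Subgroup.mem_normalizer_iff_map_conj_eq.1 (le_normalizer (B_le_parabolic P _ hb))).symm
    have hsS : ∀ i, ({f i} : Set G) ⊆ P.S := fun i => Set.singleton_subset_iff.mpr (hfS i)
    have h8 := Cfsg.Agent.S0314.result P (hsS _) (hsS _) h7
    exact (hinj (Set.singleton_eq_singleton_iff.mp h8)).symm
  have hτ1' : τ = 1 := by
    have h2 : ∀ τ : Equiv.Perm Bool, τ ^ 2 = 1 := by decide
    obtain ⟨k, hk⟩ := hp.odd_of_ne_two hp2
    rw [hk, pow_succ, pow_mul, h2 τ, one_pow, one_mul] at hτk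
    exact hτk
  have hτ : ∀ i, τ i = i := by
    intro i
    rw [hτ1']
    rfl
  intro s' hs'S
  rw [← hrange] at hs'S
  obtain ⟨i, rfl⟩ := hs'S
  have h9 := hτ1 i
  rw [hτ i] at h9
  exact iv_of_map_eq h9

open Cfsg.Agent.LieExceptional.BNPairCore in
include hPB hPS in
/-- **A radical automorphism of odd prime order `p` normalising a 2-subgroup is trivial.** -/
theorem eq_one_odd [IsSimpleGroup G] (hF : ∃ c : Fˣ, c ≠ 1) (hR : S.R.p = 2) (hTN : S.T ≤ P.N)
    (hirr : P.Irreducible) (h12 : S.n1 ≠ S.n2) {p : ℕ} [hpF : Fact p.Prime] (hp : p ≠ 2) {x : MulAut G} (hRC : RC x)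
    (hxp : x ^ p = 1) (hx : FixR 2 x) : x = 1 := by
  classical
  have Z := S.zsys8
  have hf2 : Fact (Nat.Prime 2) := ⟨Nat.prime_two⟩
  have h1S : S.n1 ∈ P.S := by rw [hPS]; exact Set.mem_insert _ _
  have h2S : S.n2 ∈ P.S := by rw [hPS]; exact Set.mem_insert_of_mem _ rfl
  obtain ⟨U, hU⟩ := exists_sylow S hF hR
  have hN : normalizer ((U : Subgroup G) : Set G) = P.B := by rw [hU, hPB]
  have hdec : ∀ g ∈ P.B, ∃ b ∈ J S.XZ 1 8, ∃ t ∈ S.T, g = b * t := by
    intro g hg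
    rw [hPB] at hg
    exact norm_U S hF hR fun x => mem_normalizer_iff.1 hg x
  have hBs : Group.IsSolvable P.B := by
    refine isSolvable_le ?_ (BT_solvable S hR)
    intro g hg
    obtain ⟨b, hb, t, ht, rfl⟩ := hdec g hg
    exact mul_mem (mem_sup_left hb) (mem_sup_right ht)
  have hcov : ∀ b ∈ P.B, ∃ u ∈ (U : Subgroup G), u⁻¹ * b ∈ P.N := by
    intro g hg
    obtain ⟨b, hb, t, ht, rfl⟩ := hdec g hg
    refine ⟨b, by rw [hU]; exact hb, ?_⟩
    rw [inv_mul_cancel_left]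
    exact hTN ht
  have hcore := Cfsg.Agent.Tits.OfBN.normalCore_eq_bot P ⟨_, h1S⟩
  have hrig : Rig P p := rig_odd hirr hPS h12 hpF.out hp
  have hncard : P.S.ncard = 2 := by rw [hPS, Set.ncard_pair h12]
  have hirr' : Irr P := by
    intro L hL hLn hLne
    obtain ⟨s, hs, t, ⟨htS, htL⟩, h⟩ := hirr L hL hLn (by
      by_contra hcon
      rw [Set.not_nonempty_iff_eq_empty, Set.sdiff_eq_empty] at hcon
      exact hLne (Set.Subset.antisymm hL hcon))
    exact ⟨s, hs, t, htS, htL, h⟩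
  -- a conjugate automorphism fixing `B`
  have hxt : Iv x (⊤ : Subgroup G) := fun a _ => mem_top _
  obtain ⟨m, -, hmB⟩ := exists_conj_fix P U hN le_top hxt
  set z := MulAut.conj m * x with hz
  have hzp : ∃ b ∈ P.B, z ^ p = MulAut.conj b := by
    obtain ⟨k, -, hk'⟩ := conj_mul_pow m x (mem_top m) hxt p
    rw [hxp, mul_one] at hk'
    refine ⟨k, ?_, hk'⟩
    have h1 : ∀ n, Iv (z ^ n) P.B := by
      intro n
      induction n with
      | zero => intro a ha; exact ha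
      | succ n ih =>
        intro a ha
        rw [pow_succ, MulAut.mul_apply]
        exact ih _ (hmB a ha)
    have h2 : Iv (MulAut.conj k) P.B := by rw [← hk']; exact h1 p
    have h3 : k ∈ normalizer (P.B : Set G) := by
      rw [Subgroup.mem_normalizer_iff_map_conj_eq]
      exact h2.map_eq
    have h4 : normalizer (P.B : Set G) = P.B := by
      have := Cfsg.Agent.S0312.result P (J := ∅) (Set.empty_subset _)
      rwa [parabolic_empty] at this
    rwa [h4] at h3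
  have hzs := hrig z hmB hzp
  have hzap : ∀ y, z y = m * x y * m⁻¹ := fun y => rfl
  -- the subgroup
  obtain ⟨R, hR1, hRp, hRx⟩ := hx
  have hRsurj : ∀ r ∈ R, ∃ r' ∈ R, x r' = r := by
    intro r hr
    have h1 := (show Iv x R from hRx).map_eq
    rw [← h1] at hr
    obtain ⟨r', hr', h2⟩ := hr
    exact ⟨r', hr', h2⟩
  have hR2 : ∀ r ∈ R, ∃ k : ℕ, r ^ 2 ^ k = 1 := by
    intro r hr
    obtain ⟨k, hk⟩ := hRp ⟨r, hr⟩
    exact ⟨k, congrArg Subtype.val hk⟩
  have h₀ : ∃ h, ∀ r ∈ R, h⁻¹ * r * h ∈ P.B := by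
    obtain ⟨Q, hQ⟩ := hRp.exists_le_sylow
    obtain ⟨g, hg⟩ := MulAction.exists_smul_eq G Q U
    refine ⟨g⁻¹, fun r hr => ?_⟩
    have h1 : g * r * g⁻¹ ∈ (U : Subgroup G) := by
      rw [← hg]
      show g * r * g⁻¹ ∈ (Q : Subgroup G).map (MulAut.conj g).toMonoidHom
      exact ⟨r, hQ hr, rfl⟩
    rw [inv_inv, ← hN]
    exact le_normalizer h1
  have hxS : ∀ a ∈ P.S, m * x a * m⁻¹ ∈ C P a := by
    intro a ha
    have h1 : z a ∈ P.parabolic {a} := hzs a ha a (mem_parabolic_self P a)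
    rcases mem_parabolic_singleton P ha h1 with h2 | ⟨b, hb, c, hc, h2⟩
    · exfalso
      rw [← hmB.map_eq] at h2
      obtain ⟨a', ha', h3⟩ := h2
      have h4 : a' = a := z.injective h3
      exact not_mem_B ha (h4 ▸ ha')
    · rw [← hzap, h2]
      exact mem_C.2 ⟨b, hb, c, hc, rfl⟩
  have hBt : P.B ≠ ⊤ := by
    intro h
    exact not_mem_B h1S (by rw [h]; exact mem_top _)
  have hpar : ∀ s ∈ P.S, P.parabolic {s} ≠ ⊤ := by
    intro s hs
    refine parabolic_ne_top P (Set.singleton_subset_iff.2 hs) fun h => ?_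
    rw [← h, Set.ncard_singleton] at hncard
    omega
  have hend : ∀ (L : Subgroup G) (g : G), P.B ≤ L → L ≠ ⊤ → FixC x g L → x = 1 := by
    intro L g hBL hLt hfix
    obtain ⟨J₀, hJ₀, rfl⟩ := Cfsg.Agent.S0311.result P L hBL
    have hJne : J₀ ≠ P.S := by
      rintro rfl
      exact hLt (by rw [← sup_closure_eq_top P]; rfl)
    obtain ⟨g', hg'⟩ := exists_borel P U hN hRC hxp hBs hrig
      (fun s hs hsol => absurd hsol (not_solvable S hPB hPS hF hs)) hJ₀ hJne (g₀ := g) (fun a ha => by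
        rw [cx_apply]
        exact hfix a ha)
    have hyp : ∀ g, (cx x g) ^ p = 1 := by
      intro g
      have e : cx x g = (MulAut.conj g)⁻¹ * x * ((MulAut.conj g)⁻¹)⁻¹ := by rw [inv_inv]; rfl
      rw [e, conj_pow, hxp, mul_one, mul_inv_cancel]
    have hrig' : ∀ g : G, Iv (cx x g) P.B → ∀ s ∈ P.S, Iv (cx x g) (P.parabolic {s}) := fun g hgB s hs =>
      hrig _ hgB ⟨1, one_mem _, by rw [hyp, map_one]⟩ s hs
    have hall := all_fixed P (hRC.cx g') hBs hpar
      (fun g'' hg'' => by rw [cx_cx] at hg'' ⊢; exact hrig' _ hg'')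
      (fun g'' hg'' s hs hsol => absurd hsol (not_solvable S hPB hPS hF hs)) hg'
    have h1 := eq_one P hcore hall
    have h3 : x = MulAut.conj g' * cx x g' * (MulAut.conj g')⁻¹ := by
      unfold cx
      group
    rw [h3, h1, mul_one, mul_inv_cancel]
  rcases GateTwo.main hPS (M := 8) (len_alt S hPB hPS) (fun b hb => hmB b hb) (fun b hb => hzs _ h1S b hb)
    (fun b hb => hzs _ h2S b hb) hxS hRsurj h₀ with ⟨g, h1 | h1 | h1⟩ | ⟨g, h1⟩
  · exact hend _ g le_rfl hBt h1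
  · exact hend _ g (B_le_parabolic P _) (hpar _ h1S) h1
  · exact hend _ g (B_le_parabolic P _) (hpar _ h2S) h1
  -- opposite chambers
  exfalso
  apply hR1
  rw [eq_bot_iff]
  intro r hr
  rw [mem_bot]
  obtain ⟨k, hk⟩ := hR2 r hr
  have hconj : ∀ w : G, (w⁻¹ * (g⁻¹ * r * g) * w) ^ 2 ^ k = 1 := by
    intro w
    have e : w⁻¹ * (g⁻¹ * r * g) * w = (g * w)⁻¹ * r * (g * w) := by group
    rw [e]
    have e2 : (g * w)⁻¹ * r * (g * w) = MulAut.conj (g * w)⁻¹ r := by rw [MulAut.conj_apply, inv_inv]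
    rw [e2, ← map_pow, hk, map_one]
  have hone : g⁻¹ * r * g = 1 := by
    rcases h1 with h1 | h1
    · refine eq_one_of_all Z fun j hj0 hj8 => ?_
      obtain ⟨i, rfl⟩ := Int.eq_ofNat_of_zero_le hj0
      have h2 := h1 r hr i (by exact_mod_cast hj8)
      rw [hPB] at h2
      have h3 := mem_U_of_two S hF hR h2 ⟨k, hconj _⟩
      rw [(alt_J S i).1] at h3
      have e : alt S.n1 S.n2 i * ((alt S.n1 S.n2 i)⁻¹ * (g⁻¹ * r * g) * alt S.n1 S.n2 i) * (alt S.n1 S.n2 i)⁻¹ =
          g⁻¹ * r * g := by group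
      rw [e] at h3
      rw [show ((i : ℕ) : ℤ) + 1 = 1 + i by ring, show ((i : ℕ) : ℤ) + 8 = 8 + i by ring]
      exact h3
    · refine eq_one_of_all (Z.rev 9) fun j hj0 hj8 => ?_
      obtain ⟨i, rfl⟩ := Int.eq_ofNat_of_zero_le hj0
      have h2 := h1 r hr i (by exact_mod_cast hj8)
      rw [hPB] at h2
      have h3 := mem_U_of_two S hF hR h2 ⟨k, hconj _⟩
      rw [(alt_J S i).2] at h3
      have e : alt S.n2 S.n1 i * ((alt S.n2 S.n1 i)⁻¹ * (g⁻¹ * r * g) * alt S.n2 S.n1 i) * (alt S.n2 S.n1 i)⁻¹ =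
          g⁻¹ * r * g := by group
      rw [e] at h3
      rw [ZSys.J_rev, show (9 : ℤ) - (((i : ℕ) : ℤ) + 8) = 1 - i by ring,
        show (9 : ℤ) - (((i : ℕ) : ℤ) + 1) = 8 - i by ring]
      exact h3
  have e : r = g * (g⁻¹ * r * g) * g⁻¹ := by group
  rw [e, hone, mul_one, mul_inv_cancel]

end Main

/-! ### The groups `²F₄(q)` -/

section Final

open Cfsg.Lie
open Cfsg.Agent.KFacts.TwF4.Inst
open Cfsg.Agent.ChevalleyStructure.TwF4.TwistedFix (Rln)
open Cfsg.Agent.H459.Rad Cfsg.Agent.H459.Iface Cfsg.Agent.H459.NonFix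

variable {F : Type} [Field F] [Fintype F] {m : ℕ}

theorem nf_tw_odd (hm : 1 ≤ m) (hK : Fintype.card F = 2 ^ (2 * m + 1)) [IsSimpleGroup ↥(twistedF4 F (2 ^ m))]
    {p : ℕ} [hpF : Fact p.Prime] (hp : p ≠ 2) : NF 2 p ↥(twistedF4 F (2 ^ m)) := by
  have hch : CharP F 2 := Cfsg.Agent.ChevalleyStructure.F4Fixed.charP_two hK
  have hfin : Finite ↥(twistedF4 F (2 ^ m)) := inferInstance
  obtain ⟨φ, hφ⟩ := Cfsg.Agent.ChevalleyStructure.TwF4.TwistedFix.exists_rln hK
  have hF := exists_unit hm hK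
  obtain ⟨P, hB, hN, hirr, hS⟩ := Cfsg.Agent.ChevalleyStructure.TwF4.BNIrred.exists_bnPair_irreducible hφ
  set S := full hK hφ with hSdef
  have hR : S.R.p = 2 := rfl
  have hU : Cfsg.Agent.Schreier.TwFFour.U0 F (2 ^ m) = J S.XZ 1 8 := by
    rw [U0_eq hφ]
    apply le_antisymm
    · refine iSup₂_le fun k hk => ?_
      have h1 : S.XZ (k : ℤ) ≤ J S.XZ 1 8 := X_le_J (by exact_mod_cast hk.1) (by exact_mod_cast hk.2)
      refine le_trans (le_of_eq ?_) h1
      show S.R.X ((k : ℕ) : ZMod (2 * 8)) = S.R.X (((k : ℕ) : ℤ) : ZMod (2 * 8))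
      rw [Int.cast_natCast]
    · refine J_le fun k h1 h2 => ?_
      obtain ⟨n, rfl⟩ := Int.eq_ofNat_of_zero_le (show 0 ≤ k by omega)
      have h3 := le_iSup₂ (f := fun (k : ℕ) (_ : k ∈ Set.Icc (1 : ℕ) 8) =>
        Cfsg.Agent.Octagon.KSys.XX F (2 ^ m) ((k : ℕ) : ZMod (2 * 8))) n ⟨by exact_mod_cast h1, by exact_mod_cast h2⟩
      refine le_trans (le_of_eq ?_) h3
      show S.R.X (((n : ℕ) : ℤ) : ZMod (2 * 8)) = S.R.X ((n : ℕ) : ZMod (2 * 8))
      rw [Int.cast_natCast]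
  have hPB : P.B = normalizer (J S.XZ 1 8 : Set ↥(twistedF4 F (2 ^ m))) := by
    rw [← hU, U0_normal_B hφ, hB]
    rfl
  have hPS : P.S = {S.n1, S.n2} := hS
  have hTN : S.T ≤ P.N := by
    intro t ht
    rw [hN]
    have h1 := torus_diag hφ (show t ∈ Cfsg.Agent.TitsThree.RankTwoZ.torus (Cfsg.Agent.Octagon.KSys.XX F (2 ^ m)) from ht)
    exact mem_subgroupOf.2 ((le_sup_left : chevF4.diagonalSubgroup F ≤ chevF4.monomialSubgroup F) h1)
  have h12 : S.n1 ≠ S.n2 := by
    intro h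
    obtain ⟨y, hy, hy1⟩ := S.zsys8.exists_ne 1
    have h1 := S.n1_refl.mem' (k := 9) hy (by norm_num)
    have h2 := S.n2_refl.mem' (k := 7) hy (by norm_num)
    rw [← h] at h2
    have h3 := S.X_inf_near (i := 7) (j := 9) (by norm_num) (by norm_num) h2 h1
    exact hy1 (conj_eq_one_iff.1 h3)
  intro x hxo hRC hFx
  have h1 := eq_one_odd S hPB hPS hF hR hTN hirr h12 hp hRC (by rw [← hxo]; exact pow_orderOf_eq_one x) hFx
  rw [h1, orderOf_one] at hxo
  exact hpF.out.one_lt.ne hxo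

/-- **The row `²F₄(q)`, odd primes.** -/
theorem nf_twF4_odd {K : Type*} [Group K] [Finite K] [hK : IsSimpleGroup K] {p : ℕ} [Fact p.Prime]
    (h : Cfsg.Lie.Iso2F4 K) (hp : p ≠ 2) : Cfsg.Agent.H459.NonFix.NF 2 p K := by
  obtain ⟨F, _, _, m, hm, hcard, ⟨e⟩⟩ := h
  have hfin : Finite ↥(twistedF4 F (2 ^ m)) := Finite.of_equiv K e.toEquiv
  have hsim : IsSimpleGroup ↥(twistedF4 F (2 ^ m)) := e.symm.isSimpleGroup
  exact NF.congr e (nf_tw_odd hm hcard hp)

end Final

end Cfsg.Agent.H823.NfTwFOdd
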