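import Mathlib
import Cfsg.Agent.Lib.PGroupCoprimeAction

/-!
# Lifting a tower of `p`-subgroups through a homomorphism (for S4363)
-/

set_option autoImplicit false

open Subgroup

namespace Cfsg.Agent.H823.Tow

open Cfsg.Agent.Lib Cfsg.Agent.Blocks

universe u v

variable {Γ : Type u} [Group Γ] {Δ : Type v} [Group Δ]

/-- Frattini argument: `h` normalizes `M`, `S` a Sylow subgroup of `M`; then `m⁻¹ h` normalizes `S`
for some `m ∈ M`. -/
theorem exists_mul_mem_normalizer [Finite Γ] {p : ℕ} [Fact p.Prime] {M S : Subgroup Γ}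
    (hS : ∃ T : Sylow p M, (T : Subgroup M).map M.subtype = S) {h : Γ}
    (hh : h ∈ normalizer (M : Set Γ)) : ∃ m ∈ M, m⁻¹ * h ∈ normalizer (S : Set Γ) := by
  have hSM : S ≤ M := by
    obtain ⟨T, rfl⟩ := hS
    exact map_subtype_le _
  have h2 : ∃ T : Sylow p M, (T : Subgroup M).map M.subtype = S.map (MulAut.conj h).toMonoidHom := by
    apply SylowIn.exists_sylow_map_eq_of_card
    · rintro _ ⟨s, hs, rfl⟩
      exact (mem_normalizer_iff.mp hh s).mp (hSM hs)
    · rw [← SylowIn.card_of_sylow_map_eq hS]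
      exact Nat.card_congr (S.equivMapOfInjective (MulAut.conj h).toMonoidHom
        (MulAut.conj h).injective).toEquiv.symm
  obtain ⟨m, hm, hmS⟩ := SylowIn.exists_conj_of_sylow_map_eq hS h2
  refine ⟨m, hm, ?_⟩
  rw [mem_normalizer_iff]
  have key : ∀ s : Γ, s ∈ S ↔ m * s * m⁻¹ ∈ S.map (MulAut.conj h).toMonoidHom := by
    intro s
    rw [← hmS]
    constructor
    · intro hs
      exact ⟨s, hs, rfl⟩
    · rintro ⟨t, ht, hts⟩
      have : t = s := by
        have h3 : m * t * m⁻¹ = m * s * m⁻¹ := hts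
        simpa using h3
      exact this ▸ ht
  have key2 : ∀ s : Γ, s ∈ S ↔ h * s * h⁻¹ ∈ S.map (MulAut.conj h).toMonoidHom := by
    intro s
    constructor
    · intro hs
      exact ⟨s, hs, rfl⟩
    · rintro ⟨t, ht, hts⟩
      have : t = s := by
        have h3 : h * t * h⁻¹ = h * s * h⁻¹ := hts
        simpa using h3
      exact this ▸ ht
  intro s
  rw [key2 s, key (m⁻¹ * h * s * (m⁻¹ * h)⁻¹)]
  have : m * (m⁻¹ * h * s * (m⁻¹ * h)⁻¹) * m⁻¹ = h * s * h⁻¹ := by group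
  rw [this]

/-- the image of a Sylow subgroup of `M` in a `p`-group `M.map f` is everything -/
theorem map_sylow_eq [Finite Γ] (f : Γ →* Δ) {p : ℕ} [Fact p.Prime] {M S : Subgroup Γ}
    (hS : ∃ T : Sylow p M, (T : Subgroup M).map M.subtype = S) (hp : IsPGroup p (M.map f)) :
    S.map f = M.map f := by
  obtain ⟨T, rfl⟩ := hS
  let g : M →* M.map f := (f.comp M.subtype).codRestrict (M.map f) (fun x => ⟨x, x.2, rfl⟩)
  have hg : Function.Surjective g := by
    rintro ⟨_, x, hx, rfl⟩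
    exact ⟨⟨x, hx⟩, rfl⟩
  have h1 : IsPGroup p (⊤ : Subgroup (M.map f)) := hp.of_equiv topEquiv.symm
  have h2 := (T.mapSurjective hg).is_maximal' h1 le_top
  apply le_antisymm
  · rintro _ ⟨x, hx, rfl⟩
    exact ⟨x, map_subtype_le _ hx, rfl⟩
  · rintro y hy
    have h3 : (⟨y, hy⟩ : M.map f) ∈ ((T.mapSurjective hg : Sylow p (M.map f)) : Subgroup (M.map f)) := by
      rw [← h2]; trivial
    obtain ⟨t, ht, hty⟩ := h3
    exact ⟨t, ⟨t, ht, rfl⟩, congrArg Subtype.val hty⟩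

theorem lift_aux [Finite Γ] (f : Γ →* Δ) (X R : Subgroup Γ) (hX : X.Normal) (hR : (Nat.card R).Prime)
    (hcop : ¬ Nat.card R ∣ Nat.card X) : ∀ (n : ℕ) (Q : ℕ → Subgroup Δ) (p : ℕ → ℕ) (H : Subgroup Γ),
    R ≤ H → (∀ i < n, (p i).Prime) → (∀ i < n, IsPGroup (p i) (Q i)) →
    (∀ i < n, Q i ≤ (H ⊓ X).map f) →
    (∀ i j, i ≤ j → j < n → Q j ≤ normalizer (Q i : Set Δ)) →
    (∀ i < n, R.map f ≤ normalizer (Q i : Set Δ)) →
    ∃ P : ℕ → Subgroup Γ, (∀ i < n, IsPGroup (p i) (P i)) ∧ (∀ i < n, P i ≤ H ⊓ X) ∧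
      (∀ i < n, (P i).map f = Q i) ∧ (∀ i < n, R ≤ normalizer (P i : Set Γ)) ∧
      ∀ i j, i ≤ j → j < n → P j ≤ normalizer (P i : Set Γ) := by
  intro n
  induction n with
  | zero =>
    intro Q p H _ _ _ _ _ _
    exact ⟨fun _ => ⊥, by simp, by simp, by simp, by simp, by simp⟩
  | succ n ih =>
    intro Q p H hRH hp hpg hQ hnorm hinv
    have _ := hX
    have _ : Fact (p 0).Prime := ⟨hp 0 (Nat.succ_pos n)⟩
    have _ : Fact (Nat.card R).Prime := ⟨hR⟩
    set M : Subgroup Γ := (H ⊓ X) ⊓ (Q 0).comap f with hM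
    have hMX : M ≤ X := inf_le_left.trans inf_le_right
    have hMcard : ¬ Nat.card R ∣ Nat.card M := fun h => hcop (h.trans (card_dvd_of_le hMX))
    have hnorM : ∀ b, b ∈ H → f b ∈ normalizer (Q 0 : Set Δ) → b ∈ normalizer (M : Set Γ) := by
      intro b hb hfb
      rw [mem_normalizer_iff]
      intro u
      rw [hM, mem_inf, mem_inf, mem_inf, mem_inf, mem_comap, mem_comap]
      have h1 : u ∈ H ↔ b * u * b⁻¹ ∈ H := by
        rw [H.mul_mem_cancel_right (inv_mem hb), H.mul_mem_cancel_left hb]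
      have h2 : u ∈ X ↔ b * u * b⁻¹ ∈ X := ⟨fun h => hX.conj_mem u h b, fun h => by
        have h4 := hX.conj_mem _ h b⁻¹
        have h5 : b⁻¹ * (b * u * b⁻¹) * b⁻¹⁻¹ = u := by group
        rwa [h5] at h4⟩
      have h3 : f u ∈ Q 0 ↔ f (b * u * b⁻¹) ∈ Q 0 := by
        rw [map_mul, map_mul, map_inv]
        exact mem_normalizer_iff.mp hfb _
      rw [← h1, ← h2, ← h3]
    have hRM : ∀ b ∈ R, ∀ u ∈ M, b * u * b⁻¹ ∈ M := fun b hb u hu =>
      (mem_normalizer_iff.mp (hnorM b (hRH hb) (hinv 0 (Nat.succ_pos n) ⟨b, hb, rfl⟩)) u).mp hu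
    obtain ⟨S, hS, hRS⟩ := PGroupCoprimeAction.exists_invariant_sylow
      (IsPGroup.of_card (p := Nat.card R) (n := 1) (pow_one _).symm) hMcard hRM (p 0)
    have hSM : S ≤ M := by
      obtain ⟨T, rfl⟩ := hS
      exact map_subtype_le _
    have hSp : IsPGroup (p 0) S := by
      obtain ⟨T, rfl⟩ := hS
      exact T.isPGroup'.map _
    have hMf : M.map f = Q 0 := by
      apply le_antisymm
      · rintro _ ⟨x, hx, rfl⟩
        exact hx.2
      · intro y hy
        obtain ⟨x, hx, rfl⟩ := hQ 0 (Nat.succ_pos n) hy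
        exact ⟨x, ⟨hx, hy⟩, rfl⟩
    have hSf : S.map f = Q 0 := by
      rw [map_sylow_eq f hS (by rw [hMf]; exact hpg 0 (Nat.succ_pos n)), hMf]
    have hRnS : R ≤ normalizer (S : Set Γ) := by
      intro b hb
      rw [mem_normalizer_iff]
      intro u
      refine ⟨hRS b hb u, fun h => ?_⟩
      have := hRS b⁻¹ (inv_mem hb) _ h
      have h4 : b⁻¹ * (b * u * b⁻¹) * b⁻¹⁻¹ = u := by group
      rwa [h4] at this
    obtain ⟨P', h1, h2, h3, h4, h5⟩ := ih (fun i => Q (i + 1)) (fun i => p (i + 1))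
      (H ⊓ normalizer (S : Set Γ)) (le_inf hRH hRnS)
      (fun i hi => hp _ (Nat.succ_lt_succ hi)) (fun i hi => hpg _ (Nat.succ_lt_succ hi))
      (fun i hi => by
        intro y hy
        obtain ⟨h, hh, rfl⟩ := hQ _ (Nat.succ_lt_succ hi) hy
        have hn := hnorm 0 (i + 1) (Nat.zero_le _) (Nat.succ_lt_succ hi) hy
        obtain ⟨m, hm, hmn⟩ := exists_mul_mem_normalizer hS (hnorM h hh.1 hn)
        obtain ⟨a, ha, haf⟩ : f m ∈ S.map f := by rw [hSf]; exact hm.2
        refine ⟨a * (m⁻¹ * h), ⟨⟨?_, ?_⟩, ?_⟩, ?_⟩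
        · exact H.mul_mem (hSM ha).1.1 (H.mul_mem (H.inv_mem hm.1.1) hh.1)
        · exact mul_mem (le_normalizer ha) hmn
        · exact X.mul_mem (hSM ha).1.2 (X.mul_mem (X.inv_mem hm.1.2) hh.2)
        · rw [map_mul, map_mul, map_inv, haf, mul_inv_cancel_left])
      (fun i j hij hj => hnorm _ _ (Nat.succ_le_succ hij) (Nat.succ_lt_succ hj))
      (fun i hi => hinv _ (Nat.succ_lt_succ hi))
    refine ⟨fun i => Nat.casesOn i S P', ?_, ?_, ?_, ?_, ?_⟩
    · rintro (_ | i) hi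
      · exact hSp
      · exact h1 i (Nat.lt_of_succ_lt_succ hi)
    · rintro (_ | i) hi
      · exact hSM.trans inf_le_left
      · exact (h2 i (Nat.lt_of_succ_lt_succ hi)).trans (inf_le_inf_right _ inf_le_left)
    · rintro (_ | i) hi
      · exact hSf
      · exact h3 i (Nat.lt_of_succ_lt_succ hi)
    · rintro (_ | i) hi
      · exact hRnS
      · exact h4 i (Nat.lt_of_succ_lt_succ hi)
    · rintro (_ | i) (_ | j) hij hj
      · exact le_normalizer
      · exact (h2 j (Nat.lt_of_succ_lt_succ hj)).trans (inf_le_left.trans inf_le_right)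
      · exact absurd hij (Nat.not_succ_le_zero i)
      · exact h5 i j (Nat.le_of_succ_le_succ hij) (Nat.lt_of_succ_lt_succ hj)

end Cfsg.Agent.H823.Tow
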